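import Cfsg.Agent.N2.Tool
import Cfsg.Agent.N2.Cl.SzG.Main_m3
import Cfsg.Agent.TH.Sv.ClDat_m3
import Cfsg.Agent.SB.Tor.Refl_m3
import Cfsg.Agent.H727.GW.Isom
import Cfsg.Agent.DS.Cl.Main
import Cfsg.Agent.TH.Ex.Ab.Defs_m3
import Cfsg.Agent.H912.KnownSplit
import Cfsg.Agent.TH.Cl.FldSO.Main_m3
import Cfsg.Agent.N2.Ex.K.Tor_m3
import Cfsg.Agent.SB.Low.Model_m3
import Cfsg.Agent.SB.Low.TabD1_m3
import Cfsg.Agent.ChevalleyStructure.WeylData
import Cfsg.Agent.N2.Cl.FrSp.Num_m3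
import Cfsg.Agent.H296.FFourFix
import Cfsg.Agent.DS.Ex.ExtU
import Cfsg.Agent.E7P.Kf.Abs
import Cfsg.Agent.H994.KE.Base_m3
import Cfsg.Agent.BpExc.AsmN_m3
import Cfsg.Agent.FP3.Aff.Scott
import Cfsg.Agent.FastGrp
import Cfsg.Agent.Prune
set_option linter.all false

section
prune_inst 0x7ffdadf8bbb8b1dfdffd7e7fa698cdfc39909fffa4dff943bfe021ff0b9f0300098523ad09e000fc1e02401400287843f97ecfbfe86bd05f63fd1c341ffbec0fb5e63108519488300e280ff603f04708653ffff6fbfcffffffffffffffffffaeffbdffbfffff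

-- part: N2/C1/Form
section
prune_inst 0x2420400044c00200201800866120044672000422004304000c400d040fc8ae4408810e61b5d0201f52b880cd403900081200002000e209c0043c0400013c048118c012049048ec1950008e000b0861a000009040300000000000000000010004200400000
set_option linter.all false
open scoped Cfsg.Agent.FastGrp

-- part: N2/C1/Lin
section
/-!
# N2 (S3519), class C1: counting cosets by labels; invariant decompositions of an endomorphism (helper43)

* `good_of_cand` : the fixed cosets are labelled by `J`, the cosets contain a copy of `I`, `|J|³ ≤ |I|`.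
* `Sb T Y` : `T` is nilpotent on `Y` with one Jordan block; `prim` (primary decomposition), `big`, `small`, `uni`, `pt`.
-/

set_option autoImplicit false
set_option linter.unusedSectionVars false

namespace Cfsg.Agent.N2.C1

open Cfsg.Agent.FP3 Module Submodule

theorem good_of_cand {G X J I : Type*} [Group G] [Finite G] [Finite J] {B : Subgroup G} (φ φ' : G → X)
    (h1 : ∀ a b, φ a = φ b → a⁻¹ * b ∈ B) (h2 : ∀ a b, φ' a = φ' b → a⁻¹ * b ∈ B) (h3 : ∀ a b, φ a ≠ φ' b)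
    {g : G} (hg : g ∈ B) (cand : J → X) (hc : ∀ a, a⁻¹ * g * a ∈ B → ∃ j, φ a = cand j ∨ φ' a = cand j)
    (ι : I → G) (hι : ∀ i i', (ι i)⁻¹ * ι i' ∈ B → i = i') (hn : Nat.card J ^ 3 ≤ Nat.card I) : Good B := by
  refine ⟨g, hg, (Nat.pow_le_pow_left (i := 3) (m := Nat.card J) ?_).trans (hn.trans ?_)⟩
  · have k : ∀ x : MulAction.fixedBy (G ⧸ B) g, ∃ j, φ x.1.out = cand j ∨ φ' x.1.out = cand j := fun x =>
      hc _ ((smul_mk_iff B g _).1 (by rw [QuotientGroup.out_eq']; exact x.2))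
    choose f hf using k
    refine Nat.card_le_card_of_injective f fun x y e => Subtype.ext ?_
    rw [← QuotientGroup.out_eq' x.1, ← QuotientGroup.out_eq' y.1, QuotientGroup.eq]
    rcases hf x with a | a <;> rcases hf y with b | b
    · exact h1 _ _ (by rw [a, b, e])
    · exact absurd (by rw [a, b, e]) (h3 _ _)
    · exact absurd (by rw [a, b, e]) (h3 y.1.out x.1.out)
    · exact h2 _ _ (by rw [a, b, e])
  · exact Nat.card_le_card_of_injective (fun i => (ι i : G ⧸ B)) fun i i' e => hι _ _ (QuotientGroup.eq.1 e)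

variable {K V : Type*} [Field K] [AddCommGroup V] [Module K V]

/-- an invariant subspace -/
def Iv (T : End K V) (X : Submodule K V) : Prop := ∀ v ∈ X, T v ∈ X

/-- nilpotent on a subspace -/
def Nl (T : End K V) (X : Submodule K V) : Prop := ∃ N : ℕ, ∀ v ∈ X, (T ^ N) v = 0

/-- injective on a subspace -/
def Ij (T : End K V) (X : Submodule K V) : Prop := ∀ v ∈ X, T v = 0 → v = 0

/-- one nilpotent Jordan block -/
structure Sb (T : End K V) (Y : Submodule K V) : Prop where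
  iv : Iv T Y
  nl : Nl T Y
  ker : finrank K ↥(LinearMap.ker T ⊓ Y) ≤ 1

variable {T T' : End K V} {X X' X₀ Y Z Z' U : Submodule K V}

theorem Iv.pow (h : Iv T X) (n : ℕ) : Iv (T ^ n) X := by
  induction n with
  | zero => exact fun v hv => hv
  | succ n ih => exact fun v hv => by rw [pow_succ, End.mul_apply]; exact ih _ (h v hv)

theorem Iv.inf (h : Iv T X) (h' : Iv T X') : Iv T (X ⊓ X') := fun v hv => ⟨h v hv.1, h' v hv.2⟩

theorem Iv.sup (h : Iv T X) (h' : Iv T X') : Iv T (X ⊔ X') := fun v hv => by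
  obtain ⟨a, ha, b, hb, rfl⟩ := mem_sup.1 hv
  rw [map_add]
  exact add_mem_sup (h a ha) (h' b hb)

theorem Iv.sub (h : Iv T X) (c : K) : Iv (T - c • 1) X := fun v hv => X.sub_mem (h v hv) (X.smul_mem c hv)

theorem iv_of_zero (h : ∀ v ∈ X, T v = 0) : Iv T X := fun v hv => by rw [h v hv]; exact X.zero_mem

theorem Ij.pow (h : Ij T X) (hi : Iv T X) (n : ℕ) : Ij (T ^ n) X := by
  induction n with
  | zero => exact fun v _ e => e
  | succ n ih => exact fun v hv e => h v hv (ih _ (hi v hv) (by rwa [pow_succ, End.mul_apply] at e))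

theorem Nl.mono (h : Nl T X) (hle : X' ≤ X) : Nl T X' := h.imp fun _ k v hv => k v (hle hv)

theorem pow_add_zero {v : V} {n : ℕ} (h : (T ^ n) v = 0) (m : ℕ) : (T ^ (m + n)) v = 0 := by
  rw [pow_add, End.mul_apply, h, map_zero]

theorem Nl.sup (h : Nl T X) (h' : Nl T X') : Nl T (X ⊔ X') := by
  obtain ⟨n, hn⟩ := h
  obtain ⟨m, hm⟩ := h'
  refine ⟨m + n, fun v hv => ?_⟩
  obtain ⟨a, ha, b, hb, rfl⟩ := mem_sup.1 hv
  rw [map_add, pow_add_zero (hn a ha), add_comm m, pow_add_zero (hm b hb), add_zero]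

theorem nl_of_zero (h : ∀ v ∈ X, T v = 0) : Nl T X := ⟨1, by simpa only [_root_.pow_one] using h⟩

theorem pow_congr (h : Iv T X) {c : K} (e : ∀ v ∈ X, T' v = c • T v) (n : ℕ) : ∀ v ∈ X, (T' ^ n) v = c ^ n • (T ^ n) v := by
  induction n with
  | zero => simp
  | succ n ih =>
    intro v hv
    rw [pow_succ', End.mul_apply, ih v hv, map_smul, e _ (h.pow n v hv), smul_smul, ← pow_succ, pow_succ' T,
      End.mul_apply]

theorem Sb.congr (h : Sb T Y) {c : K} (hc : c ≠ 0) (e : ∀ v ∈ Y, T' v = c • T v) : Sb T' Y where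
  iv v hv := by rw [e v hv]; exact Y.smul_mem c (h.iv v hv)
  nl := h.nl.imp fun n k v hv => by rw [pow_congr h.iv e n v hv, k v hv, smul_zero]
  ker := by
    have : LinearMap.ker T' ⊓ Y = LinearMap.ker T ⊓ Y := by
      ext v
      simp only [mem_inf, LinearMap.mem_ker]
      exact and_congr_left fun hv => by rw [e v hv, smul_eq_zero, or_iff_right hc]
    rw [this]
    exact h.ker

/-- the smallest invariant subspace which contains `v` -/
def cyc (T : End K V) (v : V) : Submodule K V := sInf {U | v ∈ U ∧ Iv T U}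

theorem mem_cyc (T : End K V) (v : V) : v ∈ cyc T v := mem_sInf.2 fun _ h => h.1

theorem iv_cyc (T : End K V) (v : V) : Iv T (cyc T v) := fun x hx => mem_sInf.2 fun U h => h.2 x (mem_sInf.1 hx U h)

theorem cyc_le {v : V} (h : v ∈ U) (h' : Iv T U) : cyc T v ≤ U := sInf_le ⟨h, h'⟩

variable [FiniteDimensional K V]

theorem Nl.fin (h : Nl T U) (hi : Iv T U) {j : ℕ} (hj : finrank K U ≤ j) {v : V} (hv : v ∈ U) : (T ^ j) v = 0 := by
  obtain ⟨n, hn⟩ := h
  have h1 : (⟨v, hv⟩ : U) ∈ LinearMap.ker (T.restrict hi ^ n) := by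
    rw [LinearMap.mem_ker, End.pow_restrict n hi]
    exact Subtype.ext (hn v hv)
  have h2 := End.ker_pow_le_ker_pow_finrank (T.restrict hi) n h1
  rw [LinearMap.mem_ker, End.pow_restrict _ hi] at h2
  obtain ⟨m, rfl⟩ := Nat.exists_eq_add_of_le' hj
  exact pow_add_zero (congrArg Subtype.val h2) m

theorem Nl.exists_ker (h : Nl T U) (hi : Iv T U) (h0 : U ≠ ⊥) : ∃ v ∈ U, v ≠ 0 ∧ T v = 0 := by
  by_contra hcon
  push Not at hcon
  obtain ⟨n, hn⟩ := h
  refine h0 (eq_bot_iff.2 fun v hv => Ij.pow (fun v hv e => ?_) hi n v hv (hn v hv))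
  by_contra h1
  exact hcon v hv h1 e

theorem finrank_ker_mul (S : End K V) (hi : Iv T Y) : finrank K ↥(LinearMap.ker (S * T) ⊓ Y) ≤
    finrank K ↥(LinearMap.ker S ⊓ Y) + finrank K ↥(LinearMap.ker T ⊓ Y) := by
  have h1 := LinearMap.finrank_range_add_finrank_ker (T.domRestrict (LinearMap.ker (S * T) ⊓ Y))
  have h2 : LinearMap.range (T.domRestrict (LinearMap.ker (S * T) ⊓ Y)) ≤ LinearMap.ker S ⊓ Y := by
    rintro _ ⟨v, rfl⟩
    exact ⟨v.2.1, hi _ v.2.2⟩
  have h3 : (LinearMap.ker (T.domRestrict (LinearMap.ker (S * T) ⊓ Y))).map (Submodule.subtype _) ≤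
      LinearMap.ker T ⊓ Y := by
    rintro _ ⟨v, hv, rfl⟩
    exact ⟨hv, v.2.2⟩
  have h4 := finrank_mono h2
  have h5 := finrank_mono h3
  rw [finrank_map_subtype_eq] at h5
  omega

theorem Sb.ker_pow (h : Sb T Y) (j : ℕ) : finrank K ↥(LinearMap.ker (T ^ j) ⊓ Y) ≤ j := by
  induction j with
  | zero => rw [pow_zero, End.one_eq_id, LinearMap.ker_id, bot_inf_eq, finrank_bot]
  | succ j ih =>
    have := finrank_ker_mul (T ^ j) h.iv
    have := h.ker
    rw [pow_succ]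
    omega

theorem Sb.card_ker [Finite K] (h : Sb T Y) (j : ℕ) : Nat.card ↥(LinearMap.ker (T ^ j) ⊓ Y) ≤ Nat.card K ^ j := by
  rw [natCard_eq_pow_finrank (K := K)]
  exact Nat.pow_le_pow_right Nat.card_pos (h.ker_pow j)

/-- a non-zero invariant subspace of a Jordan block contains the kernel -/
theorem Sb.ker_le (h : Sb T Y) (hi : Iv T U) (h0 : U ⊓ Y ≠ ⊥) : LinearMap.ker T ⊓ Y ≤ U := by
  obtain ⟨v, hv, h1, h2⟩ := (h.nl.mono inf_le_right).exists_ker (hi.inf h.iv) h0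
  have h3 : K ∙ v = LinearMap.ker T ⊓ Y := eq_of_le_of_finrank_le ((span_singleton_le_iff_mem _ _).2 ⟨h2, hv.2⟩)
    (by rw [finrank_span_singleton h1]; exact h.ker)
  exact h3 ▸ (span_singleton_le_iff_mem _ _).2 hv.1

/-- **one of two invariant subspaces which span a Jordan block is large** -/
theorem Sb.big (h : Sb T Y) (hZ : Iv T Z) (hZ' : Iv T Z') (n : Nl T Z) (n' : Nl T Z') (hle : Y ≤ Z ⊔ Z') :
    finrank K Y ≤ finrank K Z ∨ finrank K Y ≤ finrank K Z' := by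
  by_contra hcon
  push Not at hcon
  obtain ⟨m, hm⟩ : ∃ m, finrank K Y = m + 1 := ⟨finrank K Y - 1, by omega⟩
  have h1 : Y ≤ LinearMap.ker (T ^ m) ⊓ Y := fun v hv => ⟨by
    obtain ⟨a, ha, b, hb, rfl⟩ := mem_sup.1 (hle hv)
    rw [SetLike.mem_coe, LinearMap.mem_ker, map_add, n.fin hZ (by omega) ha, n'.fin hZ' (by omega) hb, add_zero], hv⟩
  have := (finrank_mono h1).trans (h.ker_pow m)
  omega

theorem finrank_sup_of (h : X ⊓ X' = ⊥) : finrank K ↥(X ⊔ X') = finrank K X + finrank K X' := by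
  rw [← finrank_sup_add_finrank_inf_eq, h, finrank_bot, add_zero]

/-- the data of a primary decomposition -/
structure Pm (T : End K V) (X X' : Submodule K V) : Prop where
  sup : X ⊔ X' = ⊤
  iv : Iv T X
  iv' : Iv T X'
  nl : Nl T X
  ij : Ij T X'

namespace Pm

variable (p : Pm T X X')
include p

theorem inf : X ⊓ X' = ⊥ := by
  obtain ⟨n, hn⟩ := p.nl
  exact eq_bot_iff.2 fun v hv => p.ij.pow p.iv' n v hv.2 (hn v hv.1)

/-- **primary decomposition** -/
theorem prim (hZ : Iv T Z) : Z ⊓ X ⊔ Z ⊓ X' = Z := by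
  refine le_antisymm (sup_le inf_le_left inf_le_left) fun z hz => ?_
  obtain ⟨n, hn⟩ := p.nl
  obtain ⟨a, ha, b, hb, rfl⟩ := mem_sup.1 (p.sup ▸ mem_top : z ∈ X ⊔ X')
  have hi := (hZ.inf p.iv').pow n
  have hj := p.ij.pow p.iv' n
  have h1 : Function.Injective ((T ^ n).restrict hi) := (injective_iff_map_eq_zero _).2 fun v e =>
    Subtype.ext (hj _ v.2.2 (congrArg Subtype.val e))
  obtain ⟨w, hw⟩ := LinearMap.injective_iff_surjective.1 h1 ⟨(T ^ n) b, by
    simpa [hn a ha] using hZ.pow n _ hz, p.iv'.pow n b hb⟩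
  have h2 : (w : V) = b := sub_eq_zero.1 (hj _ (X'.sub_mem w.2.2 hb) (by
    rw [map_sub, sub_eq_zero]; exact congrArg Subtype.val hw))
  have h3 : b ∈ Z := h2 ▸ w.2.1
  exact add_mem_sup ⟨by simpa using Z.sub_mem hz h3, ha⟩ ⟨h3, hb⟩

theorem dim (hZ : Iv T Z) : finrank K Z = finrank K ↥(Z ⊓ X) + finrank K ↥(Z ⊓ X') := by
  rw [← finrank_sup_of (X := Z ⊓ X) (X' := Z ⊓ X') (eq_bot_iff.2 fun v hv => p.inf.le ⟨hv.1.2, hv.2.2⟩), p.prim hZ]

theorem split (hZ : Iv T Z) (hZ' : Iv T Z') (c : Z ⊔ Z' = ⊤) : Z ⊓ X ⊔ Z' ⊓ X = X ∧ Z ⊓ X' ⊔ Z' ⊓ X' = X' := by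
  have k : ∀ v, ∃ a ∈ Z ⊓ X ⊔ Z' ⊓ X, ∃ b ∈ Z ⊓ X' ⊔ Z' ⊓ X', a + b = v := fun v => by
    obtain ⟨z, hz, z', hz', rfl⟩ := mem_sup.1 (c ▸ mem_top : v ∈ Z ⊔ Z')
    obtain ⟨a, ha, b, hb, rfl⟩ := mem_sup.1 ((p.prim hZ).ge hz)
    obtain ⟨a', ha', b', hb', rfl⟩ := mem_sup.1 ((p.prim hZ').ge hz')
    exact ⟨_, add_mem_sup ha ha', _, add_mem_sup hb hb', by abel⟩
  have l1 : Z ⊓ X ⊔ Z' ⊓ X ≤ X := sup_le inf_le_right inf_le_right
  have l2 : Z ⊓ X' ⊔ Z' ⊓ X' ≤ X' := sup_le inf_le_right inf_le_right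
  refine ⟨le_antisymm l1 fun v hv => ?_, le_antisymm l2 fun v hv => ?_⟩ <;> obtain ⟨a, ha, b, hb, rfl⟩ := k v
  · have : b = 0 := p.inf.le ⟨by simpa using X.sub_mem hv (l1 ha), l2 hb⟩
    simpa only [this, _root_.add_zero] using ha
  · have : a = 0 := p.inf.le ⟨l1 ha, by simpa using X'.sub_mem hv (l2 hb)⟩
    simpa only [this, _root_.zero_add] using hb

theorem dim_split (hZ : Iv T Z) (hZ' : Iv T Z') (c : IsCompl Z Z') :
    finrank K ↥(Z ⊓ X) + finrank K ↥(Z' ⊓ X) = finrank K X ∧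
      finrank K ↥(Z ⊓ X') + finrank K ↥(Z' ⊓ X') = finrank K X' := by
  obtain ⟨h1, h2⟩ := p.split hZ hZ' c.sup_eq_top
  constructor
  · rw [← finrank_sup_of (X := Z ⊓ X) (X' := Z' ⊓ X) (eq_bot_iff.2 fun v hv => c.inf_eq_bot.le ⟨hv.1.1, hv.2.1⟩), h1]
  · rw [← finrank_sup_of (X := Z ⊓ X') (X' := Z' ⊓ X') (eq_bot_iff.2 fun v hv => c.inf_eq_bot.le ⟨hv.1.1, hv.2.1⟩), h2]

theorem big (h : Sb T Y) (hY : Y ≤ X) (hZ : Iv T Z) (hZ' : Iv T Z') (c : IsCompl Z Z') :
    finrank K Y ≤ finrank K ↥(Z ⊓ X) ∨ finrank K Y ≤ finrank K ↥(Z' ⊓ X) :=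
  h.big (hZ.inf p.iv) (hZ'.inf p.iv) (p.nl.mono inf_le_right) (p.nl.mono inf_le_right)
    (hY.trans (p.split hZ hZ' c.sup_eq_top).1.ge)

/-- the complement of a primary component -/
theorem other (hZ' : Iv T Z') (c : IsCompl X' Z') : Z' = X := by
  have h1 := p.prim hZ'
  rw [inf_comm Z' X', c.inf_eq_bot, sup_bot_eq] at h1
  have h2 := finrank_add_eq_of_isCompl c
  have h3 := finrank_add_eq_of_isCompl (IsCompl.of_eq p.inf p.sup)
  exact eq_of_le_of_finrank_le (h1 ▸ inf_le_right) (by omega)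

theorem other' (hZ' : Iv T Z') (c : IsCompl X Z') : Z' = X' := by
  have h1 := p.prim hZ'
  rw [inf_comm Z' X, c.inf_eq_bot, bot_sup_eq] at h1
  have h2 := finrank_add_eq_of_isCompl c
  have h3 := finrank_add_eq_of_isCompl (IsCompl.of_eq p.inf p.sup)
  exact eq_of_le_of_finrank_le (h1 ▸ inf_le_right) (by omega)

theorem small (h : Sb T Y) {x₀ : V} (hX : cyc T x₀ ⊔ Y = X) {j : ℕ} (hj : finrank K X = j + finrank K Y)
    (hj' : finrank K (cyc T x₀) ≤ j) (hd : j < finrank K Y) (hZ : Iv T Z) (hZ' : Iv T Z') (c : IsCompl Z Z')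
    (hb : finrank K Y ≤ finrank K ↥(Z' ⊓ X)) (hz : j + finrank K X' ≤ finrank K Z) :
    ∃ y : ↥(LinearMap.ker (T ^ j) ⊓ Y), Z = cyc T (x₀ + y) ⊔ X' := by
  have hY : Y ≤ X := hX ▸ le_sup_right
  have d1 := p.dim hZ
  have d2 := (p.dim_split hZ hZ' c).1
  have d3 : finrank K ↥(Z ⊓ X') ≤ finrank K X' := finrank_mono inf_le_right
  have e1 : Z ⊓ X' = X' := eq_of_le_of_finrank_le inf_le_right (by omega)
  have e2 : Z' ⊓ X ⊓ Y ≠ ⊥ := fun e => by
    have h1 := finrank_sup_of e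
    have h2 : finrank K ↥(Z' ⊓ X ⊔ Y) ≤ finrank K X := finrank_mono (sup_le inf_le_right hY)
    omega
  have e3 : Z ⊓ X ⊓ Y = ⊥ := by
    by_contra e
    obtain ⟨v, hv, h1, h2⟩ := h.nl.exists_ker h.iv fun e' => by rw [e', finrank_bot] at hd; omega
    exact h1 (c.inf_eq_bot.le ⟨(h.ker_le (hZ.inf p.iv) e ⟨h2, hv⟩).1, (h.ker_le (hZ'.inf p.iv) e2 ⟨h2, hv⟩).1⟩)
  have e4 : Z ⊓ X ⊔ Y = X := eq_of_le_of_finrank_le (sup_le inf_le_right hY) (by rw [finrank_sup_of e3]; omega)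
  obtain ⟨z, hz', y, hy, e5⟩ := mem_sup.1 (e4.ge (hX.le (mem_sup_left (mem_cyc T x₀))))
  have e6 : z = x₀ + -y := by rw [← e5, add_neg_cancel_right]
  have e7 : (T ^ j) y = 0 := by
    have h1 := (p.nl.mono inf_le_right).fin (hZ.inf p.iv) (j := j) (by omega) hz'
    have h2 := (p.nl.mono (hX ▸ le_sup_left)).fin (iv_cyc T x₀) hj' (mem_cyc T x₀)
    rwa [← e5, map_add, h1, zero_add] at h2
  refine ⟨⟨-y, by rw [SetLike.mem_coe, LinearMap.mem_ker, map_neg, e7, neg_zero], Y.neg_mem hy⟩, ?_⟩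
  have e8 : cyc T z ≤ Z ⊓ X := cyc_le hz' (hZ.inf p.iv)
  have e9 : X ≤ cyc T z ⊔ Y := hX.ge.trans (sup_le (cyc_le (e5 ▸ add_mem_sup (mem_cyc T z) hy)
    ((iv_cyc T z).sup h.iv)) le_sup_right)
  have e10 := (finrank_mono e9).trans (finrank_add_le_finrank_add_finrank _ _)
  rw [← e6, eq_of_le_of_finrank_le e8 (by omega), ← e1, p.prim hZ]

/-- **the invariant decompositions, `X = ⟨x₀⟩ ⊕ Y`, `Y` a large Jordan block** -/
theorem uni (h : Sb T Y) {x₀ : V} (hX : cyc T x₀ ⊔ Y = X) {j : ℕ} (hj : finrank K X = j + finrank K Y)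
    (hj' : finrank K (cyc T x₀) ≤ j) (hd : j < finrank K Y) (hZ : Iv T Z) (hZ' : Iv T Z') (c : IsCompl Z Z')
    (hz : j + finrank K X' ≤ finrank K Z) (hz' : j + finrank K X' ≤ finrank K Z') :
    ∃ y : ↥(LinearMap.ker (T ^ j) ⊓ Y), Z = cyc T (x₀ + y) ⊔ X' ∨ Z' = cyc T (x₀ + y) ⊔ X' := by
  rcases p.big h (hX ▸ le_sup_right) hZ hZ' c with k | k
  · exact (p.small h hX hj hj' hd hZ' hZ c.symm k hz').imp fun _ => Or.inr
  · exact (p.small h hX hj hj' hd hZ hZ' c k hz).imp fun _ => Or.inl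

end Pm

theorem cyc_of_zero {v : V} (h : T v = 0) : cyc T v = K ∙ v :=
  le_antisymm (cyc_le (mem_span_singleton_self v) (iv_of_zero fun x hx => by
    obtain ⟨c, rfl⟩ := mem_span_singleton.1 hx
    rw [map_smul, h, smul_zero])) ((span_singleton_le_iff_mem _ _).2 (mem_cyc T v))

/-- the points of `ker T ⊓ (⟨x₀⟩ ⊕ Y)` -/
def pts (T : End K V) (x₀ : V) (Y : Submodule K V) : Option ↥(LinearMap.ker (T ^ 1) ⊓ Y) → Submodule K V
  | none => LinearMap.ker T ⊓ Y
  | some w => K ∙ (x₀ + w)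

theorem Sb.pt (h : Sb T Y) {x₀ : V} (h0 : T x₀ = 0) (hU : Iv T U) (hle : U ≤ K ∙ x₀ ⊔ Y) (h1 : finrank K U = 1) :
    ∃ j, U = pts T x₀ Y j := by
  have n : Nl T U := ((nl_of_zero fun x hx => by
    obtain ⟨c, rfl⟩ := mem_span_singleton.1 hx
    rw [map_smul, h0, smul_zero]).sup h.nl).mono hle
  obtain ⟨v, hv, h2, h3⟩ := n.exists_ker hU fun e => by rw [e, finrank_bot] at h1; omega
  have e : K ∙ v = U := eq_of_le_of_finrank_le ((span_singleton_le_iff_mem _ _).2 hv)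
    (by rw [finrank_span_singleton h2, h1])
  obtain ⟨_, ha, w, hw, rfl⟩ := mem_sup.1 (hle hv)
  obtain ⟨a, rfl⟩ := mem_span_singleton.1 ha
  rw [map_add, map_smul, h0, smul_zero, zero_add] at h3
  by_cases ha0 : a = 0
  · rw [ha0, zero_smul, zero_add] at e h2
    exact ⟨none, e ▸ eq_of_le_of_finrank_le ((span_singleton_le_iff_mem _ _).2 ⟨h3, hw⟩)
      (by rw [finrank_span_singleton h2]; exact h.ker)⟩
  · refine ⟨some ⟨a⁻¹ • w, by rw [SetLike.mem_coe, pow_one, LinearMap.mem_ker, map_smul, h3, smul_zero],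
      Y.smul_mem _ hw⟩, ?_⟩
    rw [← e, ← span_singleton_smul_eq (IsUnit.mk0 _ (inv_ne_zero ha0)), smul_add, inv_smul_smul₀ ha0]
    rfl

end Cfsg.Agent.N2.C1
end

-- part: N2/C1/Form
section
/-!
# N2 (S3519), class C1: the bridge from `Ctx`; non-degenerate subspaces (helper43)

* `gd_ring`, `gd_hf` : `Gd F H` from labels of the fixed conjugates of a symmetric idempotent fixed by `H`.
* `pp h X`, `ND h X` : orthogonal complements, non-degenerate subspaces.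
-/

set_option autoImplicit false
set_option linter.unusedSectionVars false

namespace Cfsg.Agent.N2.C1

open Cfsg.Agent.DS.Cl Cfsg.Agent.DS.Cl.Fwd Module Submodule
open Cfsg.Agent.N2C (Ctx Gd FixD)
open Cfsg.Agent.TH.Cl.Big (b_swap_zero iso_b)

section ring

variable {A : Type} [Ring A] [StarRing A] [Finite A] {F : FR A} {H : Subgroup (RingAut A)} {p : ℕ} {e : A}

/-- a symmetric idempotent -/
structure SI (x : A) : Prop where
  idem : x * x = x
  symm : star x = x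

theorem SI.compl {x : A} (h : SI x) : SI (1 - x) :=
  ⟨by rw [mul_sub, mul_one, sub_mul, one_mul, h.idem, sub_self, sub_zero], by rw [star_sub, star_one, h.symm]⟩

theorem SI.map {x : A} (h : SI x) {γ : RingAut A} (hγ : γ ∈ F.Aut) : SI (γ x) :=
  ⟨by rw [← map_mul, h.idem], by rw [← hγ.1, h.symm]⟩

theorem cj_eq_self {u : Aˣ} {x : A} : DS.Cl.cj A u x = x ↔ (u : A) * x = x * u :=
  ⟨fun h => by rw [← cj_mul_eq, h], cj_eq_of_mul⟩

theorem not_fix (c : Ctx F H p) (h0 : e ≠ 0) (h1 : e ≠ 1) (he : SI e) : ¬ ∀ s ∈ F.S, s • e = e := fun h =>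
  (c.ss.idem_symm (FR.cen_of_S c.span h) he.symm he.idem).elim h0 h1

/-- no element of `F.S` interchanges the two blocks -/
theorem no_swap (c : Ctx F H p) (h0 : e ≠ 0) (h1 : e ≠ 1) (he : SI e) (hH : ∀ γ ∈ H, γ e = e) {s : RingAut A}
    (hs : s ∈ F.S) : s e ≠ 1 - e := by
  intro h
  have k : ∀ γ : RingAut A, γ (1 - e) = 1 - γ e := fun γ => by rw [map_sub, map_one]
  have h2 : ¬ DS.Cl.Inv F.S ({e, 1 - e} : Set A) := fun hI => by
    have := c.simple
    have h3 : ∀ a : F.S, (a : RingAut A) e = e ∨ (a : RingAut A) e = 1 - e := fun a => hI a a.2 e (Or.inl rfl)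
    have h4 : (MulAction.stabilizer F.S e).Normal := ⟨fun n hn a => by
      have h5 : (n : RingAut A) e = e := hn
      change (a : RingAut A) ((n : RingAut A) ((a⁻¹ : F.S).1 e)) = e
      have h6 : (n : RingAut A) ((a⁻¹ : F.S).1 e) = (a⁻¹ : F.S).1 e := by
        rcases h3 a⁻¹ with h7 | h7 <;> rw [h7]
        · exact h5
        · rw [k, h5]
      rw [h6]
      exact ra_apply_inv _ _⟩
    rcases h4.eq_bot_or_eq_top with h5 | h5
    · refine c.noncomm ⟨⟨fun a b => ?_⟩⟩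
      have h6 : (a * b) • e = (b * a) • e := by
        change (a : RingAut A) ((b : RingAut A) e) = (b : RingAut A) ((a : RingAut A) e)
        rcases h3 a with h7 | h7 <;> rcases h3 b with h8 | h8 <;> simp only [h7, h8, k]
      have h7 : (b * a)⁻¹ * (a * b) ∈ MulAction.stabilizer F.S e := by
        rw [MulAction.mem_stabilizer_iff, mul_smul, h6, inv_smul_smul]
      rw [h5, Subgroup.mem_bot, inv_mul_eq_one] at h7
      exact h7.symm
    · exact not_fix c h0 h1 he fun t ht => (h5.ge (Subgroup.mem_top ⟨t, ht⟩) :)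
  have h3 := hH s (c.mem_of_inv (X := {e, 1 - e}) (fun γ hγ x hx => by
    rcases hx with rfl | rfl
    · exact Or.inl (hH γ hγ)
    · exact Or.inr (by rw [k, hH γ hγ]; rfl)) h2 hs (fun x hx => by
    rcases hx with rfl | rfl
    · exact Or.inr h
    · exact Or.inl (by rw [k, h, sub_sub_cancel])))
  have h4 := congrArg (e * ·) (h3.symm.trans h)
  simp only [mul_sub, mul_one, he.idem, sub_self] at h4
  exact h0 h4

/-- **the bridge**, ring level -/
theorem gd_ring (c : Ctx F H p) (h0 : e ≠ 0) (h1 : e ≠ 1) (he : SI e) (hH : ∀ γ ∈ H, γ e = e) {X J I : Type*} [Finite J]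
    (ψ : A → X) (hψ : ∀ x y, SI x → SI y → ψ x = ψ y → x = y) {g : Aˣ} (hg : g ∈ (⁅F.Iso, F.Iso⁆ : Subgroup Aˣ))
    (hge : (g : A) * e = e * g) (cand : J → X)
    (hc : ∀ a ∈ F.Iso, (g : A) * DS.Cl.cj A a e = DS.Cl.cj A a e * g →
      ∃ j, ψ (DS.Cl.cj A a e) = cand j ∨ ψ (1 - DS.Cl.cj A a e) = cand j)
    (ι : I → Aˣ) (hι : ∀ i, ι i ∈ (⁅F.Iso, F.Iso⁆ : Subgroup Aˣ))
    (hι' : ∀ i i', (((ι i)⁻¹ * ι i' : Aˣ) : A) * e = e * ((ι i)⁻¹ * ι i' : Aˣ) → i = i')
    (hn : Nat.card J ^ 3 ≤ Nat.card I) : Gd F H := by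
  let π : (⁅F.Iso, F.Iso⁆ : Subgroup Aˣ) →* F.S := (DS.Cl.cj A).subgroupMap _
  have hπ : Function.Surjective π := (DS.Cl.cj A).subgroupMap_surjective _
  have hB : ∀ a, a ∈ (H.subgroupOf F.S).comap π ↔ DS.Cl.cj A a.1 e = e := fun a =>
    ⟨fun h => hH _ h, c.mem_of_smul hH (not_fix c h0 h1 he) (π a).2⟩
  have hs : ∀ a : (⁅F.Iso, F.Iso⁆ : Subgroup Aˣ), SI (DS.Cl.cj A a.1 e) := fun a =>
    he.map (FR.cj_mem_Aut (FR.comm_le_Iso a.2))
  have k : ∀ a b : (⁅F.Iso, F.Iso⁆ : Subgroup Aˣ), DS.Cl.cj A (a⁻¹ * b).1 e = (DS.Cl.cj A a.1)⁻¹ (DS.Cl.cj A b.1 e) :=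
    fun a b => by rw [Subgroup.coe_mul, Subgroup.coe_inv, map_mul, map_inv, ra_mul]
  refine (good_comap π hπ _).1 (good_of_cand (fun a => ψ (DS.Cl.cj A a.1 e)) (fun a => ψ (1 - DS.Cl.cj A a.1 e))
    (fun a b h => ?_) (fun a b h => ?_) (fun a b h => ?_) (g := ⟨g, hg⟩) ((hB _).2 (cj_eq_self.2 hge)) cand
    (fun a h => hc _ (FR.comm_le_Iso a.2) (cj_eq_self.1 ?_)) (fun i => ⟨ι i, hι i⟩)
    (fun i i' h => hι' i i' (cj_eq_self.1 ((hB _).1 h))) hn)
  · rw [hB, k, ← hψ _ _ (hs a) (hs b) h, ra_inv_apply]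
  · rw [hB, k, ← sub_right_injective (hψ _ _ (hs a).compl (hs b).compl h), ra_inv_apply]
  · refine no_swap c h0 h1 he hH (π (b⁻¹ * a)).2 ?_
    change DS.Cl.cj A (b⁻¹ * a).1 e = _
    rw [k, hψ _ _ (hs a) (hs b).compl h, map_sub, map_one, ra_inv_apply]
  · rw [hB, mul_assoc, k, Subgroup.coe_mul, map_mul, ra_mul] at h
    have h2 := congrArg (DS.Cl.cj A a.1) h
    rwa [ra_apply_inv] at h2

end ring

variable {K V : Type} [Field K] [Fintype K] [AddCommGroup V] [Module K V] [Finite V] (h : HF K V)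

/-- the orthogonal complement -/
def pp (X : Submodule K V) : Submodule K V where
  carrier := {v | ∀ x ∈ X, h.b v x = 0}
  add_mem' ha hb x hx := by rw [h.add_left, ha x hx, hb x hx, add_zero]
  zero_mem' x _ := h.zero_left x
  smul_mem' c v hv x hx := by rw [h.smul_left, hv x hx, mul_zero]

/-- a non-degenerate subspace -/
def ND (X : Submodule K V) : Prop := ∀ v ∈ X, v ∈ pp h X → v = 0

variable {h} {X Y P : Submodule K V} {F : FR h.EB}

theorem pp_anti (hle : X ≤ Y) : pp h Y ≤ pp h X := fun _ hv x hx => hv x (hle hx)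

theorem le_pp_comm (hle : X ≤ pp h Y) : Y ≤ pp h X := fun y hy _ hx => b_swap_zero (hle hx y hy)

theorem le_pp_pp : X ≤ pp h (pp h X) := le_pp_comm le_rfl

theorem mem_pp_span {s : Set V} {v : V} : v ∈ pp h (span K s) ↔ ∀ x ∈ s, h.b v x = 0 :=
  ⟨fun k x hx => k x (subset_span hx), fun k => le_pp_comm (X := span K s) (Y := K ∙ v) (span_le.2 fun x hx y hy => by
    obtain ⟨c, rfl⟩ := mem_span_singleton.1 hy
    rw [h.smul_right, b_swap_zero (k x hx), mul_zero]) (mem_span_singleton_self v)⟩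

theorem mem_pp_one {x v : V} : v ∈ pp h (K ∙ x) ↔ h.b v x = 0 := by simp [mem_pp_span]

theorem mem_pp_two {x y v : V} : v ∈ pp h (span K {x, y}) ↔ h.b v x = 0 ∧ h.b v y = 0 := by simp [mem_pp_span]

theorem mem_pp_sup {v : V} : v ∈ pp h (X ⊔ Y) ↔ v ∈ pp h X ∧ v ∈ pp h Y :=
  ⟨fun k => ⟨pp_anti le_sup_left k, pp_anti le_sup_right k⟩, fun k z hz => by
    obtain ⟨a, ha, b, hb, rfl⟩ := mem_sup.1 hz
    rw [h.add_right, k.1 a ha, k.2 b hb, add_zero]⟩

theorem finrank_le_pp (X : Submodule K V) : finrank K V ≤ finrank K X + finrank K (pp h X) := by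
  let B := Module.finBasis K X
  let f : V →ₗ[K] (Fin (finrank K X) → K) := LinearMap.pi fun i => h.lin (B i)
  have h1 := f.finrank_range_add_finrank_ker
  have h2 := finrank_le (LinearMap.range f)
  have h3 : LinearMap.ker f ≤ pp h X := fun v hv x hx => by
    have h4 : (⟨x, hx⟩ : X) ∈ (pp h (K ∙ v)).comap X.subtype := by
      refine (span_le.2 ?_ : span K (Set.range B) ≤ _) (B.mem_span _)
      rintro _ ⟨i, rfl⟩
      exact mem_pp_one.2 (b_swap_zero (congrFun hv i))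
    exact b_swap_zero (mem_pp_one.1 h4)
  have h4 := finrank_mono h3
  rw [finrank_fin_fun] at h2
  omega

namespace ND

theorem inf (n : ND h X) : X ⊓ pp h X = ⊥ := eq_bot_iff.2 fun v hv => n v hv.1 hv.2

theorem compl (n : ND h X) : IsCompl X (pp h X) :=
  IsCompl.of_eq n.inf (eq_top_of_finrank_eq (le_antisymm (finrank_le _) (by
    rw [finrank_sup_of n.inf]; exact finrank_le_pp X)))

theorem dim (n : ND h X) : finrank K X + finrank K (pp h X) = finrank K V := finrank_add_eq_of_isCompl n.compl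

theorem split (n : ND h X) (v : V) : ∃ a ∈ X, ∃ b ∈ pp h X, a + b = v := mem_sup.1 (n.compl.sup_eq_top ▸ mem_top)

/-- the complement in a non-degenerate subspace -/
theorem rel (m : ND h P) (hle : P ≤ X) : P ⊔ X ⊓ pp h P = X := by
  rw [inf_comm, ← sup_inf_assoc_of_le _ hle, m.compl.sup_eq_top, top_inf_eq]

theorem rel_nd (n : ND h X) (m : ND h P) (hle : P ≤ X) : ND h (X ⊓ pp h P) := fun v hv k =>
  n v hv.1 (m.rel hle ▸ mem_pp_sup.2 ⟨hv.2, k⟩)

theorem rel_dim (m : ND h P) (hle : P ≤ X) : finrank K X = finrank K P + finrank K ↥(X ⊓ pp h P) := by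
  rw [← finrank_sup_of (X := P) (X' := X ⊓ pp h P) (eq_bot_iff.2 fun v hv => m v hv.1 hv.2.2), m.rel hle]

theorem sup (n : ND h X) (m : ND h Y) (o : X ≤ pp h Y) : ND h (X ⊔ Y) := fun v hv k => by
  obtain ⟨a, ha, b, hb, rfl⟩ := mem_sup.1 hv
  obtain ⟨k1, k2⟩ := mem_pp_sup.1 k
  rw [n a ha (by simpa using (pp h X).sub_mem k1 (le_pp_comm o hb)),
    m b hb (by simpa using (pp h Y).sub_mem k2 (o ha)), add_zero]

theorem sup_dim (n : ND h X) (o : Y ≤ pp h X) : finrank K ↥(X ⊔ Y) = finrank K X + finrank K Y :=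
  finrank_sup_of (eq_bot_iff.2 fun v hv => n v hv.1 (o hv.2))

theorem partner (n : ND h X) {x : V} (hx : x ∈ X) (h0 : x ≠ 0) (c : K) : ∃ y ∈ X, h.b y x = c := by
  obtain ⟨y, hy, k⟩ : ∃ y ∈ X, h.b x y ≠ 0 := by
    by_contra hcon
    push Not at hcon
    exact h0 (n x hx hcon)
  exact ⟨(c / h.b y x) • y, X.smul_mem _ hy, by rw [h.smul_left, div_mul_cancel₀ _ (h.ne_swap k)]⟩

end ND

theorem nd_top : ND h ⊤ := fun v _ k => h.nondeg v fun u => b_swap_zero (k u trivial)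

theorem ND.perp (n : ND h X) : ND h (pp h X) := by simpa using nd_top.rel_nd n le_top

theorem ND.pp_pp (n : ND h X) : pp h (pp h X) = X :=
  (eq_of_le_of_finrank_le le_pp_pp (by have := n.dim; have := n.perp.dim; omega)).symm

theorem nd_one {x : V} (hx : h.b x x ≠ 0) : ND h (K ∙ x) := fun v hv k => by
  obtain ⟨c, rfl⟩ := mem_span_singleton.1 hv
  rw [mem_pp_one, h.smul_left] at k
  rw [(mul_eq_zero.1 k).resolve_right hx, zero_smul]

theorem nd_two {x y : V} (hx : h.b x x = 0) (hy : h.b y x ≠ 0) : ND h (span K {x, y}) := fun v hv k => by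
  obtain ⟨a, c, rfl⟩ := mem_span_pair.1 hv
  rw [mem_pp_two, h.add_left, h.add_left, h.smul_left, h.smul_left, h.smul_left, h.smul_left, hx, mul_zero,
    zero_add] at k
  obtain rfl := (mul_eq_zero.1 k.1).resolve_right hy
  replace k := k.2
  rw [zero_mul, add_zero] at k
  rw [(mul_eq_zero.1 k).resolve_right (h.ne_swap hy), zero_smul, zero_smul, add_zero]

theorem dim_two {x y : V} (hx : h.b x x = 0) (hy : h.b y x ≠ 0) : finrank K (span K {x, y}) = 2 := by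
  have h1 : x ≠ 0 := fun e => hy (by rw [e, h.zero_right])
  have h2 : y ≠ 0 := fun e => hy (by rw [e, h.zero_left])
  rw [span_insert, finrank_sup_of, finrank_span_singleton h1, finrank_span_singleton h2]
  refine eq_bot_iff.2 fun v hv => ?_
  obtain ⟨a, rfl⟩ := mem_span_singleton.1 hv.2
  obtain ⟨c, e⟩ := mem_span_singleton.1 hv.1
  have h3 := congrArg (h.b · x) e
  simp only [h.smul_left, hx, mul_zero] at h3
  rw [(mul_eq_zero.1 h3.symm).resolve_right hy, zero_smul]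
  exact zero_mem _

theorem ne_of_b {x : V} (hx : h.b x x ≠ 0) : x ≠ 0 := fun e => hx (by rw [e, h.zero_left])

theorem iv_pp {u : h.EBˣ} (hu : u ∈ F.Iso) (hX : Iv (h.ap u) X) : Iv (h.ap u) (pp h X) := fun v hv x hx => by
  have h1 : Function.Injective ((h.ap u).restrict hX) := (injective_iff_map_eq_zero _).2 fun w k => by
    by_contra h0
    exact TH.Cl.Big.ap_ne (fun e => h0 (Subtype.ext e)) (congrArg Subtype.val k)
  obtain ⟨w, hw⟩ := LinearMap.injective_iff_surjective.1 h1 ⟨x, hx⟩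
  rw [← show h.ap u w = x from congrArg Subtype.val hw, iso_b hu, hv _ w.2]

/-- an isometry which fixes `pp X` pointwise preserves `X` -/
theorem iv_of_fix {u : h.EBˣ} (hu : u ∈ F.Iso) (n : ND h X) (hX : ∀ v ∈ pp h X, h.ap u v = v) : Iv (h.ap u) X :=
  n.pp_pp ▸ iv_pp hu fun v hv => by rwa [hX v hv]

variable {e : h.EB}

/-- the range -/
def rg (h : HF K V) (e : h.EB) : Submodule K V := LinearMap.range (h.ap e)

theorem SI.mem_rg (he : SI e) {v : V} : v ∈ rg h e ↔ h.ap e v = v :=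
  ⟨by rintro ⟨x, rfl⟩; rw [← h.ap_mul, he.idem], fun k => ⟨v, k⟩⟩

theorem SI.mem_rg' (he : SI e) {v : V} : v ∈ rg h (1 - e) ↔ h.ap e v = 0 := by
  rw [he.compl.mem_rg, h.ap_sub, h.ap_one, sub_eq_self]

theorem SI.pp_rg (he : SI e) : pp h (rg h e) = rg h (1 - e) := by
  ext v
  rw [he.mem_rg']
  refine ⟨fun k => h.nondeg _ fun u => ?_, fun k x hx => TH.Cl.Big.b_cross' he.symm (he.mem_rg.1 hx) k⟩
  rw [← he.symm, h.b_star, b_swap_zero (k _ ⟨u, rfl⟩)]

theorem SI.nd (he : SI e) : ND h (rg h e) := fun v hv k => by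
  rw [he.pp_rg, he.mem_rg'] at k
  rw [← he.mem_rg.1 hv, k]

theorem SI.rg_inj {x y : h.EB} (hx : SI x) (hy : SI y) (k : rg h x = rg h y) : x = y := by
  have h1 : x * y = y := h.ap_ext fun v => by rw [h.ap_mul]; exact hx.mem_rg.1 (k ▸ ⟨v, rfl⟩)
  have h2 : y * x = x := h.ap_ext fun v => by rw [h.ap_mul]; exact hy.mem_rg.1 (k ▸ ⟨v, rfl⟩)
  have h3 := congrArg star h1
  rw [star_mul, hx.symm, hy.symm, h2] at h3
  exact h3

theorem SI.iv_iff (he : SI e) {u : h.EBˣ} (hu : u ∈ F.Iso) : (u : h.EB) * e = e * u ↔ Iv (h.ap u) (rg h e) := by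
  refine ⟨fun k v hv => he.mem_rg.2 (by rw [← h.ap_mul, ← k, h.ap_mul, he.mem_rg.1 hv]), fun k => h.ap_ext fun v => ?_⟩
  obtain ⟨a, ha, b, hb, rfl⟩ := he.nd.split v
  have h1 := iv_pp hu k b hb
  rw [he.pp_rg, he.mem_rg'] at h1 hb
  rw [h.ap_mul, h.ap_mul, map_add (h.ap e), map_add (h.ap u) a b, map_add (h.ap e), he.mem_rg.1 ha, hb, add_zero, h1,
    add_zero, he.mem_rg.1 (k a ha)]

theorem finrank_rg_cj (a : h.EBˣ) (e : h.EB) : finrank K (rg h (DS.Cl.cj h.EB a e)) = finrank K (rg h e) := by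
  have k : ∀ (a : h.EBˣ) (e : h.EB), finrank K (rg h (DS.Cl.cj h.EB a e)) ≤ finrank K (rg h e) := fun a e => by
    refine (finrank_mono ?_).trans (finrank_map_le (h.ap a) (rg h e))
    rintro _ ⟨v, rfl⟩
    exact ⟨_, ⟨_, rfl⟩, by rw [cj_apply, h.ap_mul, h.ap_mul]⟩
  refine le_antisymm (k a e) ?_
  have := k a⁻¹ (DS.Cl.cj h.EB a e)
  rwa [map_inv, ra_inv_apply] at this

/-- the data of a fixed non-degenerate subspace `W`, of dimension at most the dimension of `pp W` -/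
structure Fx (F : FR h.EB) (H : Subgroup (RingAut h.EB)) (W : Submodule K V) : Prop where
  nd : ND h W
  pos : 0 < finrank K W
  le : finrank K W ≤ finrank K (pp h W)
  gd : ∀ {J I : Type} [Finite J] {g : h.EBˣ}, g ∈ (⁅F.Iso, F.Iso⁆ : Subgroup h.EBˣ) → Iv (h.ap g) W →
    ∀ cand : J → Submodule K V, (∀ Z, ND h Z → finrank K Z = finrank K W → Iv (h.ap g) Z →
      ∃ j, Z = cand j ∨ pp h Z = cand j) → ∀ ι : I → h.EBˣ, (∀ i, ι i ∈ (⁅F.Iso, F.Iso⁆ : Subgroup h.EBˣ)) →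
    (∀ i i', Iv (h.ap ((ι i)⁻¹ * ι i' : h.EBˣ)) W → i = i') → Nat.card J ^ 3 ≤ Nat.card I → Gd F H

/-- **the bridge**, forms -/
theorem exists_fx {H : Subgroup (RingAut h.EB)} {p : ℕ} (c : Ctx F H p) (hD : FixD H) : ∃ W, Fx F H W := by
  have k : ∀ e : h.EB, e ≠ 0 → e ≠ 1 → SI e → (∀ γ ∈ H, γ e = e) → finrank K (rg h e) ≤ finrank K (rg h (1 - e)) →
      Fx F H (rg h e) := fun e h0 h1 he hH hle => by
    refine ⟨he.nd, Nat.pos_of_ne_zero fun k => h0 (h.ap_ext fun v => ?_), he.pp_rg ▸ hle,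
      fun hg hgW cand hc ι hι hι' hn => ?_⟩
    · exact (finrank_eq_zero.1 k).le (⟨v, rfl⟩ : h.ap e v ∈ rg h e)
    · refine gd_ring c h0 h1 he hH (rg h) (fun _ _ => SI.rg_inj) hg ((he.iv_iff (FR.comm_le_Iso hg)).2 hgW) cand
        (fun a ha k => ?_) ι hι (fun i i' k => hι' i i' ((he.iv_iff (FR.comm_le_Iso
          (mul_mem (inv_mem (hι i)) (hι i')))).1 k)) hn
      have hs := he.map (FR.cj_mem_Aut ha)
      rw [← hs.pp_rg]
      exact hc _ hs.nd (finrank_rg_cj a e) ((hs.iv_iff (FR.comm_le_Iso hg)).1 k)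
  obtain ⟨e, h0, h1, h2, h3, hH⟩ := hD
  rcases le_total (finrank K (rg h e)) (finrank K (rg h (1 - e))) with l | l
  · exact ⟨_, k e h0 h1 ⟨h2, h3⟩ hH l⟩
  · exact ⟨_, k (1 - e) (sub_ne_zero.2 h1.symm) (fun k => h0 (sub_eq_self.1 k)) (SI.compl ⟨h2, h3⟩)
      (fun γ hγ => by rw [map_sub, map_one, hH γ hγ]) (by rwa [sub_sub_cancel])⟩

end Cfsg.Agent.N2.C1
end
end

-- part: N2/C1/Elt
section
prune_inst 0x520704454c002002018009663201c46f2000522004884002cc00c060dc8ee66adc12860b5b0201f5aaa91cd583900481204003000c209c0043c3400013f04a198e95206b358ed1d56009f00030c61a000009040300000000000000000010004200400000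
set_option linter.all false
open scoped Cfsg.Agent.FastGrp

/-!
# N2 (S3519), class C1: regular unipotent elements, fixed point free elements, orbits (helper43)

* `Rg h u Y` : `u` is trivial on `pp Y` and unipotent with one Jordan block on `Y`; `exists_rg` (induction on hyperbolic planes).
* `exists_fpf` : products of transvections without fixed vector in `W`.
* `orb_one` : the Eichler transformations of `x + y` move `W`.
* `gd_A`, `gd_B` : the two counts.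
-/

set_option autoImplicit false
set_option linter.unusedSectionVars false

namespace Cfsg.Agent.N2.C1

open Cfsg.Agent.DS.Cl Cfsg.Agent.DS.Cl.Fwd Module Submodule
open Cfsg.Agent.N2C (Gd)
open Cfsg.Agent.TH.Cl (Eich)
open Cfsg.Agent.TH.Cl.Big (b_swap_zero iso_b)

section lin

variable {K V : Type*} [Field K] [AddCommGroup V] [Module K V] {T T' : End K V} {U U' Y : Submodule K V}

theorem Nl.of_map (h : Nl T U) (k : ∀ v ∈ Y, T v ∈ U) : Nl T Y := by
  obtain ⟨n, hn⟩ := h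
  exact ⟨n + 1, fun v hv => by rw [pow_succ, End.mul_apply, hn _ (k v hv)]⟩

theorem Nl.step (h : Nl T' U) (i : Iv T' U) (k : ∀ v ∈ U, T v - T' v ∈ U') (z : ∀ v ∈ U', T v = 0) : Nl T U := by
  obtain ⟨n, hn⟩ := h
  have h1 : ∀ (m : ℕ), ∀ v ∈ U, (T ^ m) v - (T' ^ m) v ∈ U' := fun m v hv => by
    induction m with
    | zero => simp
    | succ m ih =>
      have h2 := z _ ih
      rw [map_sub, sub_eq_zero] at h2
      rw [pow_succ', pow_succ', End.mul_apply, End.mul_apply, h2]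
      exact k _ (i.pow m v hv)
  refine ⟨n + 1, fun v hv => ?_⟩
  rw [pow_succ', End.mul_apply]
  exact z _ (by simpa [hn v hv] using h1 n v hv)

theorem Iv.sub_one' {g : End K V} (h : Iv g U) : Iv (g - 1) U := fun v hv => U.sub_mem (h v hv) hv

theorem Iv.of_sub_one {g : End K V} (h : Iv (g - 1) U) : Iv g U := fun v hv => by
  simpa using U.add_mem (h v hv) hv

end lin

variable {K V : Type} [Field K] [Fintype K] [AddCommGroup V] [Module K V] [Finite V] {h : HF K V} {F : FR h.EB}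
  {X Y W : Submodule K V}

variable (h) in
/-- trivial on `pp Y`, one unipotent Jordan block on `Y` -/
structure Rg (u : h.EBˣ) (Y : Submodule K V) : Prop where
  fix : ∀ v ∈ pp h Y, h.ap u v = v
  sb : Sb (h.ap u - 1) Y

theorem rg_one (hY : finrank K Y = 1) : Rg h 1 Y :=
  ⟨fun _ _ => rfl, iv_of_zero fun v _ => sub_self v, nl_of_zero fun v _ => sub_self v,
    (finrank_mono inf_le_right).trans hY.le⟩

/-- transvections of a plane -/
theorem rg_two (n : ND h Y) (hY : finrank K Y = 2) {u : h.EBˣ} {κ : K} (hκ : κ ≠ 0) {a : V} (ha : a ∈ Y) (h0 : a ≠ 0)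
    (haa : h.b a a = 0) (hu : ∀ x, h.ap u x = x - (κ * h.b x a) • a) : Rg h u Y := by
  have k : ∀ x, (h.ap u - 1) x = -((κ * h.b x a) • a) := fun x => by
    rw [LinearMap.sub_apply, hu, End.one_apply, sub_sub_cancel_left]
  refine ⟨fun v hv => by rw [hu, hv a ha, mul_zero, zero_smul, sub_zero],
    fun v _ => k v ▸ Y.neg_mem (Y.smul_mem _ ha), ⟨2, fun v _ => ?_⟩, ?_⟩
  · rw [pow_two, End.mul_apply, k v, map_neg, map_smul, k, haa]
    simp
  · obtain ⟨y, hy, e⟩ := n.partner ha h0 1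
    have : LinearMap.ker (h.ap u - 1) ⊓ Y < Y := lt_of_le_of_ne inf_le_right fun e' => by
      have h1 : (h.ap u - 1) y = 0 := (e'.ge hy).1
      rw [k, e, mul_one, neg_eq_zero, smul_eq_zero] at h1
      exact h1.elim hκ h0
    have := finrank_lt_finrank_of_lt this
    omega

theorem rg_step (n : ND h Y) {e f : V} (he : e ∈ Y) (hf : f ∈ Y) (hee : h.b e e = 0) (hfe : h.b f e = 1) {u : h.EBˣ}
    (hu : u ∈ F.Iso) (r : Rg h u (Y ⊓ pp h (span K {e, f}))) (h0 : Y ⊓ pp h (span K {e, f}) ≠ ⊥) {s : K} (hs : s ≠ 0)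
    (hE : ∀ t, h.b t e = 0 → ∃ c, Eich h F e t s c) :
    ∃ y ∈ (⁅F.Iso, F.Iso⁆ : Subgroup h.EBˣ), Rg h (y * u) Y := by
  have hfe' : h.b f e ≠ 0 := hfe ▸ one_ne_zero
  have m := nd_two hee hfe'
  have hle : span K {e, f} ≤ Y := span_le.2 (by rintro _ (rfl | rfl) <;> assumption)
  obtain ⟨Y', hY'⟩ : ∃ Y', Y' = Y ⊓ pp h (span K {e, f}) := ⟨_, rfl⟩
  have n' : ND h Y' := hY' ▸ n.rel_nd m hle
  have sp : span K {e, f} ⊔ Y' = Y := hY' ▸ m.rel hle
  have l1 : Y' ≤ Y := hY' ▸ inf_le_left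
  have o : ∀ v ∈ Y', h.b v e = 0 ∧ h.b v f = 0 := fun v hv => mem_pp_two.1 (hY' ▸ hv : v ∈ Y ⊓ _).2
  rw [← hY'] at r h0
  obtain ⟨x₀, hx₀, x0, tx⟩ := r.sb.nl.exists_ker r.sb.iv h0
  have ux : h.ap u x₀ = x₀ := sub_eq_zero.1 tx
  obtain ⟨w, hw, hwx⟩ := n'.partner hx₀ x0 1
  obtain ⟨c, y, hy, ey⟩ := hE w (o w hw).1
  have ue : h.ap u e = e := r.fix e fun v hv => b_swap_zero (o v hv).1
  have uf : h.ap u f = f := r.fix f fun v hv => b_swap_zero (o v hv).2
  have iu : Iv (h.ap u) Y' := r.sb.iv.of_sub_one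
  have k : ∀ v, (h.ap (y * u : h.EBˣ) - 1) v = (h.ap u - 1) v + h.b (h.ap u v) e • w -
      (s * h.b (h.ap u v) w + c * h.b (h.ap u v) e) • e := fun v => by
    rw [LinearMap.sub_apply, LinearMap.sub_apply, Units.val_mul, h.ap_mul, ey, End.one_apply]
    abel
  have dec : ∀ v ∈ Y, ∃ a b : K, ∃ v' ∈ Y', v = a • e + b • f + v' := fun v hv => by
    obtain ⟨z, hz, v', hv', rfl⟩ := mem_sup.1 (sp.ge hv)
    obtain ⟨a, b, rfl⟩ := mem_span_pair.1 hz
    exact ⟨a, b, v', hv', rfl⟩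
  have tu : ∀ v ∈ Y, (h.ap u - 1) v ∈ Y' := fun v hv => by
    obtain ⟨a, b, v', hv', rfl⟩ := dec v hv
    simpa [ue, uf] using r.sb.iv v' hv'
  have te : (h.ap (y * u : h.EBˣ) - 1) e = 0 := by
    rw [k, LinearMap.sub_apply, ue, hee, b_swap_zero (o w hw).1]
    simp
  have tm : ∀ v ∈ Y, (h.ap (y * u : h.EBˣ) - 1) v ∈ K ∙ e ⊔ Y' := fun v hv => by
    rw [k]
    exact sub_mem (mem_sup_right (Y'.add_mem (tu v hv) (Y'.smul_mem _ hw)))
      (mem_sup_left (smul_mem _ _ (mem_span_singleton_self e)))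
  have l2 : K ∙ e ⊔ Y' ≤ Y := sup_le ((span_singleton_le_iff_mem _ _).2 he) l1
  have z1 : ∀ v ∈ K ∙ e, (h.ap u - 1) v = 0 := fun v hv => by
    obtain ⟨a, rfl⟩ := mem_span_singleton.1 hv
    simp [ue]
  refine ⟨y, hy, fun v hv => ?_, fun v hv => l2 (tm v hv), Nl.of_map (Nl.step (U' := K ∙ e)
    ((nl_of_zero z1).sup r.sb.nl) ((iv_of_zero z1).sup r.sb.iv) (fun v hv => ?_) fun v hv => ?_) tm, ?_⟩
  · rw [Units.val_mul, h.ap_mul, r.fix v (pp_anti l1 hv), ey, hv e he, hv w (l1 hw)]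
    simp
  · obtain ⟨z, hz, v', hv', rfl⟩ := mem_sup.1 hv
    obtain ⟨a, rfl⟩ := mem_span_singleton.1 hz
    have h1 : h.b (h.ap u (a • e + v')) e = 0 := by
      rw [map_add, map_smul, ue, h.add_left, h.smul_left, hee, (o _ (iu v' hv')).1, mul_zero, add_zero]
    rw [k, h1, zero_smul, add_zero, sub_sub_cancel_left]
    exact neg_mem (smul_mem _ _ (mem_span_singleton_self e))
  · obtain ⟨a, rfl⟩ := mem_span_singleton.1 hv
    rw [map_smul, te, smul_zero]
  · refine (finrank_mono (?_ : _ ≤ K ∙ e)).trans (TH.Cl.Big.finrank_one_le e)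
    rintro v ⟨h1, hv⟩
    obtain ⟨a, b, v', hv', rfl⟩ := dec v hv
    have h2 : h.ap u (a • e + b • f + v') = a • e + b • f + h.ap u v' := by rw [map_add, map_add, map_smul, map_smul, ue, uf]
    have h3 : h.b (a • e + b • f + h.ap u v') e = b := by
      rw [h.add_left, h.add_left, h.smul_left, h.smul_left, hee, hfe, (o _ (iu v' hv')).1]
      ring
    have h4 : h.b (a • e + b • f + h.ap u v') w = h.b (h.ap u v') w := by
      rw [h.add_left, h.add_left, h.smul_left, h.smul_left, b_swap_zero (o w hw).1, b_swap_zero (o w hw).2]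
      ring
    rw [SetLike.mem_coe, LinearMap.mem_ker, k, LinearMap.sub_apply, h2, h3, h4, End.one_apply,
      add_sub_add_left_eq_sub] at h1
    have h5 := congrArg (h.b · x₀) h1
    have h6 : h.b (h.ap u v') x₀ = h.b v' x₀ := by rw [← iso_b hu v' x₀, ux]
    simp only [h.sub_left, h.add_left, h.smul_left, h6, hwx, b_swap_zero (o x₀ hx₀).1, h.zero_left] at h5
    obtain rfl : b = 0 := by linear_combination h5
    have h7 := congrArg (h.b · f) h1
    simp only [h.sub_left, h.add_left, h.smul_left, (o _ (iu v' hv')).2, (o v' hv').2, h.zero_left] at h7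
    have h8 : h.b (h.ap u v') w = 0 := by
      have h9 : s * h.b (h.ap u v') w * h.b e f = 0 := by linear_combination -h7
      exact (mul_eq_zero.1 ((mul_eq_zero.1 h9).resolve_right (h.ne_swap hfe'))).resolve_left hs
    rw [h8] at h1
    simp only [zero_smul, mul_zero, add_zero, sub_zero] at h1
    have h9 : K ∙ x₀ = LinearMap.ker (h.ap u - 1) ⊓ Y' := eq_of_le_of_finrank_le
      ((span_singleton_le_iff_mem _ _).2 ⟨tx, hx₀⟩) (by rw [finrank_span_singleton x0]; exact r.sb.ker)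
    obtain ⟨t, rfl⟩ := mem_span_singleton.1 (h9.ge ⟨h1, hv'⟩)
    rw [map_smul, ux, h.smul_left] at h8
    rw [(mul_eq_zero.1 h8).resolve_right (h.ne_swap (hwx ▸ one_ne_zero))]
    simpa only [_root_.zero_smul, _root_.add_zero] using smul_mem _ a (mem_span_singleton_self e)

/-- **one Jordan block on every non-degenerate subspace** -/
theorem exists_rg (M : h.EBˣ → Prop) (hM : ∀ y ∈ (⁅F.Iso, F.Iso⁆ : Subgroup h.EBˣ), ∀ u, M u → M (y * u))
    (hI : ∀ u, M u → u ∈ F.Iso) {s : K} (hs : s ≠ 0)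
    (hS : ∀ Y, ND h Y → 3 ≤ finrank K Y → ∃ e ∈ Y, e ≠ 0 ∧ h.b e e = 0 ∧ ∀ t, h.b t e = 0 → ∃ c, Eich h F e t s c)
    {m : ℕ} (hm : 1 ≤ m) (base : ∀ Y' ≤ X, ND h Y' → finrank K Y' = m → ∃ u, M u ∧ Rg h u Y') (i : ℕ) :
    ∀ Y ≤ X, ND h Y → finrank K Y = m + 2 * i → ∃ u, M u ∧ Rg h u Y := by
  induction i with
  | zero => exact base
  | succ i ih =>
    intro Y hX n d
    obtain ⟨e, he, h0, hee, hE⟩ := hS Y n (by omega)
    obtain ⟨f, hf, hfe⟩ := n.partner he h0 1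
    have m' := nd_two hee (hfe ▸ one_ne_zero)
    have hle : span K {e, f} ≤ Y := span_le.2 (by rintro _ (rfl | rfl) <;> assumption)
    have d' := m'.rel_dim hle
    rw [dim_two hee (hfe ▸ one_ne_zero)] at d'
    obtain ⟨u, hu, r⟩ := ih _ (inf_le_left.trans hX) (n.rel_nd m' hle) (by omega)
    obtain ⟨y, hy, r'⟩ := rg_step n he hf hee hfe (hI u hu) r (fun e => by rw [e, finrank_bot] at d'; omega) hs hE
    exact ⟨_, hM y hy u hu, r'⟩

/-- **no fixed vector in `W`** -/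
theorem exists_fpf (hT : ∀ y ∈ W, y ≠ 0 → ∃ w ∈ W, h.b w y ≠ 0 ∧ ∃ κ : K, κ ≠ 0 ∧
    ∃ r ∈ (⁅F.Iso, F.Iso⁆ : Subgroup h.EBˣ), ∀ x, h.ap r x = x - (κ * h.b x w) • w) :
    ∃ g ∈ (⁅F.Iso, F.Iso⁆ : Subgroup h.EBˣ), (∀ v ∈ pp h W, h.ap g v = v) ∧ Ij (h.ap g - 1) W := by
  have k : ∀ j : ℕ, ∀ u ∈ (⁅F.Iso, F.Iso⁆ : Subgroup h.EBˣ), (∀ v ∈ pp h W, h.ap u v = v) →
      finrank K ↥(LinearMap.ker (h.ap u - 1) ⊓ W) ≤ j →
      ∃ g ∈ (⁅F.Iso, F.Iso⁆ : Subgroup h.EBˣ), (∀ v ∈ pp h W, h.ap g v = v) ∧ Ij (h.ap g - 1) W := fun j => by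
    induction j with
    | zero => exact fun u hu f d => ⟨u, hu, f, fun v hv e => (finrank_eq_zero.1 (Nat.le_zero.1 d)).le ⟨e, hv⟩⟩
    | succ j ih =>
      intro u hu f d
      by_cases h1 : Ij (h.ap u - 1) W
      · exact ⟨u, hu, f, h1⟩
      obtain ⟨y, hy, ty, y0⟩ : ∃ y ∈ W, (h.ap u - 1) y = 0 ∧ y ≠ 0 := by simpa [Ij] using h1
      obtain ⟨w, hw, hwy, κ, hκ, r, hr, er⟩ := hT y hy y0
      have uy : h.ap u y = y := sub_eq_zero.1 ty
      have h2 : ∀ x, h.ap (r * u : h.EBˣ) x = x → h.ap u x = x ∧ h.b x w = 0 := fun x e => by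
        rw [Units.val_mul, h.ap_mul, er] at e
        have h3 := congrArg (h.b · y) e
        have h4 : h.b (h.ap u x) y = h.b x y := by rw [← iso_b (FR.comm_le_Iso hu) x y, uy]
        simp only [h.sub_left, h.smul_left, h4, sub_eq_self, mul_eq_zero, hκ, hwy, false_or, or_false] at h3
        rw [h3, mul_zero, zero_smul, sub_zero] at e
        exact ⟨e, e ▸ h3⟩
      refine ih (r * u) (mul_mem hr hu) (fun v hv => by
        rw [Units.val_mul, h.ap_mul, f v hv, er, hv w hw, mul_zero, zero_smul, sub_zero]) ?_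
      have : LinearMap.ker (h.ap (r * u : h.EBˣ) - 1) ⊓ W < LinearMap.ker (h.ap u - 1) ⊓ W :=
        lt_of_le_of_ne (fun v hv => ⟨sub_eq_zero.2 (h2 v (sub_eq_zero.1 hv.1)).1, hv.2⟩) fun e =>
          hwy (b_swap_zero (h2 y (sub_eq_zero.1 (e.ge ⟨ty, hy⟩).1)).2)
      have := finrank_lt_finrank_of_lt this
      omega
  exact k _ 1 (one_mem _) (fun _ _ => rfl) le_rfl

/-- **the orbit of `W` has at least `|K| ^ (n - 2)` points** -/
theorem orb_one (n : ND h W) {x y : V} (hx : x ∈ W) (hy : y ∈ pp h W) (hxx : h.b x x ≠ 0) (hs : h.b (x + y) (x + y) = 0)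
    {s : K} (hE : ∀ t, h.b t (x + y) = 0 → ∃ c, Eich h F (x + y) t s c) :
    ∃ (I : Type) (ι : I → h.EBˣ), (∀ i, ι i ∈ (⁅F.Iso, F.Iso⁆ : Subgroup h.EBˣ)) ∧
      (∀ i i', Iv (h.ap ((ι i)⁻¹ * ι i' : h.EBˣ)) W → i = i') ∧ Nat.card K ^ (finrank K V - 2) ≤ Nat.card I := by
  have o : ∀ z : pp h (span K {x, y}), h.b z (x + y) = 0 := fun z => by
    rw [h.add_right, (mem_pp_two.1 z.2).1, (mem_pp_two.1 z.2).2, add_zero]
  choose c ι hι e using fun z : pp h (span K {x, y}) => hE z (o z)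
  refine ⟨_, ι, hι, fun z z' hW => Subtype.ext ?_, ?_⟩
  · have hu := FR.comm_le_Iso (mul_mem (inv_mem (hι z)) (hι z'))
    have h1 : ∀ z, h.ap (ι z) (x + y) = x + y := fun z => by rw [e, hs, b_swap_zero (o z)]; simp
    have h2 : ∀ v, h.ap (ι z) (h.ap ((ι z)⁻¹ * ι z' : h.EBˣ) v) = h.ap (ι z') v := fun v => by
      rw [Units.val_mul, h.ap_mul, SB.Tor.ap_ap_inv]
    have h3 : h.ap ((ι z)⁻¹ * ι z' : h.EBˣ) (x + y) = x + y := by
      rw [Units.val_mul, h.ap_mul, h1, ← h1 z, SB.Tor.ap_inv_ap, h1]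
    have h4 : h.ap ((ι z)⁻¹ * ι z' : h.EBˣ) x - x = 0 := n _ (W.sub_mem (hW x hx) hx) (by
      rw [map_add] at h3
      have : h.ap ((ι z)⁻¹ * ι z' : h.EBˣ) x - x = y - h.ap ((ι z)⁻¹ * ι z' : h.EBˣ) y := by
        rw [sub_eq_sub_iff_add_eq_add, h3, add_comm]
      exact this ▸ sub_mem hy (iv_pp hu hW y hy))
    have h5 := h2 x
    have h6 : h.b x (x + y) = h.b x x := by rw [h.add_right, b_swap_zero (hy x hx), add_zero]
    have h7 : h.b (x + y) x = h.b x x := by rw [h.add_left, hy x hx, add_zero]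
    rw [sub_eq_zero.1 h4, e, e, h6, b_swap_zero (mem_pp_two.1 z.2).1, b_swap_zero (mem_pp_two.1 z'.2).1] at h5
    have h8 := congrArg (h.b · x) h5
    simp only [h.sub_left, h.add_left, h.smul_left, (mem_pp_two.1 z.2).1, (mem_pp_two.1 z'.2).1, hy x hx] at h8
    have h9 : c z = c z' := mul_right_cancel₀ (mul_ne_zero hxx hxx) (by linear_combination -h8)
    rw [h9, sub_left_inj, add_right_inj] at h5
    exact smul_right_injective V hxx h5
  · rw [natCard_eq_pow_finrank (K := K) (V := pp h (span K {x, y}))]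
    have := finrank_le_pp (h := h) (span K {x, y})
    have := TH.Cl.Big.finrank_two_le (K := K) x y
    exact Nat.pow_le_pow_right Nat.card_pos (by omega)

variable {H : Subgroup (RingAut h.EB)}

/-- no fixed vector in `W`, one Jordan block on `pp W` -/
theorem gd_A (f : Fx F H W) {g u : h.EBˣ} (hg : g ∈ (⁅F.Iso, F.Iso⁆ : Subgroup h.EBˣ))
    (hu : u ∈ (⁅F.Iso, F.Iso⁆ : Subgroup h.EBˣ)) (g1 : ∀ v ∈ pp h W, h.ap g v = v) (g2 : Ij (h.ap g - 1) W)
    (r : Rg h u (pp h W)) : Gd F H := by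
  have e1 : ∀ v ∈ W, h.ap (g * u : h.EBˣ) v = h.ap g v := fun v hv => by
    rw [Units.val_mul, h.ap_mul, r.fix v (le_pp_pp hv)]
  have i1 : Iv (h.ap (g * u : h.EBˣ)) W := fun v hv => e1 v hv ▸ iv_of_fix (FR.comm_le_Iso hg) f.nd g1 v hv
  have s : Sb (h.ap (g * u : h.EBˣ) - 1) (pp h W) := r.sb.congr one_ne_zero fun v hv => by
    rw [one_smul, LinearMap.sub_apply, LinearMap.sub_apply, Units.val_mul, h.ap_mul, g1 _ (r.sb.iv.of_sub_one v hv)]
  have p : Pm (h.ap (g * u : h.EBˣ) - 1) (pp h W) W := ⟨f.nd.compl.symm.sup_eq_top, s.iv, i1.sub_one', s.nl,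
    fun v hv e => g2 v hv (by rwa [LinearMap.sub_apply, e1 v hv] at e)⟩
  have h3 : cyc (h.ap (g * u : h.EBˣ) - 1) (0 : V) = ⊥ := by rw [cyc_of_zero (map_zero _), span_zero_singleton]
  have := f.pos
  have := f.le
  have := f.nd.dim
  refine f.gd (mul_mem hg hu) i1 _ (fun Z n d i => p.uni s (x₀ := 0) (j := 0) (by rw [h3, bot_sup_eq]) (zero_add _).symm
    (by rw [h3, finrank_bot]) (by omega) i.sub_one' (iv_pp (FR.comm_le_Iso (mul_mem hg hu)) i).sub_one' n.compl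
    (by omega) (by have := n.dim; omega)) (fun _ : Unit => 1) (fun _ => one_mem _) (fun _ _ _ => rfl) ?_
  simpa only [_root_.Units.val_mul, _root_.pow_zero, _root_.Submodule.mem_inf, _root_.LinearMap.mem_ker, _root_.Module.End.one_apply, _root_.nonempty_subtype, ↓ _root_.ExistsAndEq.existsAndEq, _root_.ZeroMemClass.zero_mem, _root_.and_self, _root_.Nat.card_eq_fintype_card, _root_.Fintype.card_unique, _root_.ne_eq, _root_.OfNat.ofNat_ne_zero, _root_.not_false_eq_true, _root_.Nat.pow_le_one_iff, _root_.one_pow] using Nat.pow_le_pow_left (s.card_ker 0) 3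

/-- a point -/
theorem gd_B (f : Fx F H W) (h1 : finrank K W = 1) (h5 : 5 ≤ finrank K V) {u : h.EBˣ}
    (hu : u ∈ (⁅F.Iso, F.Iso⁆ : Subgroup h.EBˣ)) (r : Rg h u (pp h W)) {x y : V} (hx : x ∈ W) (hy : y ∈ pp h W)
    (hxx : h.b x x ≠ 0) (hs : h.b (x + y) (x + y) = 0) {s : K}
    (hE : ∀ t, h.b t (x + y) = 0 → ∃ c, Eich h F (x + y) t s c) : Gd F H := by
  obtain ⟨I, ι, a1, a2, a3⟩ := orb_one f.nd hx hy hxx hs hE
  have e1 : ∀ v ∈ W, (h.ap u - 1) v = 0 := fun v hv => sub_eq_zero.2 (r.fix v (le_pp_pp hv))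
  have e2 : cyc (h.ap u - 1) x = W := by
    rw [cyc_of_zero (e1 x hx)]
    exact eq_of_le_of_finrank_le ((span_singleton_le_iff_mem _ _).2 hx) (by rw [finrank_span_singleton (ne_of_b hxx), h1])
  have p : Pm (h.ap u - 1) ⊤ ⊥ := ⟨top_sup_eq _, fun _ _ => trivial, fun v hv => by simp only [(mem_bot K).1 hv, _root_.LinearMap.sub_apply, _root_.map_zero, _root_.Module.End.one_apply, _root_.sub_self, _root_.ZeroMemClass.zero_mem],
    f.nd.compl.sup_eq_top ▸ (nl_of_zero e1).sup r.sb.nl, fun v hv _ => hv⟩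
  have := f.nd.dim
  refine f.gd hu (iv_of_zero e1).of_sub_one _ (fun Z n d i => p.uni r.sb (x₀ := x) (j := 1)
    (by rw [e2, f.nd.compl.sup_eq_top]) (by rw [finrank_top]; omega) (by rw [e2, h1]) (by omega) i.sub_one'
    (iv_pp (FR.comm_le_Iso hu) i).sub_one' n.compl (by rw [finrank_bot]; omega)
    (by have := n.dim; rw [finrank_bot]; omega)) ι a1 a2 ?_
  refine (Nat.pow_le_pow_left (r.sb.card_ker 1) 3).trans (le_trans ?_ a3)
  rw [pow_one]
  exact Nat.pow_le_pow_right Nat.card_pos (by omega)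

end Cfsg.Agent.N2.C1

private theorem dce_27c88c3f5145 : _root_.True := by
  try have : _root_.True := by simp only [_root_.Cfsg.Agent.N2.C1.Ij.eq_1]
  exact _root_.True.intro
end

-- part: N2/C1/L_mg
section
prune_inst 0x4205000548002000018051062201c22f20000220048840004c00e0407c8ac0484c10820b190200d50a2914d4838000813040020008209c0003c0400013c048118c012049048e01940008e00020861a000009040300000000000000000010000200400000
set_option linter.all false
open scoped Cfsg.Agent.FastGrp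

-- part: N2/C1/L
section
/-!
# N2 (S3519), class C1: linear groups, a fixed decomposition `V = W ⊕ Y` (helper43)
-/

set_option autoImplicit false
set_option linter.unusedSectionVars false

namespace Cfsg.Agent.N2.C1

open Cfsg.Agent.DS.Cl Cfsg.Agent.DS.Cl.Fwd Module Submodule Polynomial
open Cfsg.Agent.N2C (Ctx Gd FixD OnL pFix)
open Cfsg.Agent.SB.Fld (prL)

section lin

variable {K U V : Type*} [Field K] [AddCommGroup U] [Module K U] [FiniteDimensional K U] [AddCommGroup V] [Module K V]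
  [FiniteDimensional K V]

/-- companion maps -/
theorem exists_comp {f : K[X]} (hf : f.Monic) (hd : f.natDegree = finrank K U) : ∃ g : End K U,
    LinearMap.det g = (-1) ^ f.natDegree * f.coeff 0 ∧ aeval g f = 0 ∧ finrank K (LinearMap.ker (g - 1)) ≤ 1 := by
  let B := AdjoinRoot.powerBasis hf.ne_zero
  have := B.finite
  let e : AdjoinRoot f ≃ₗ[K] U := LinearEquiv.ofFinrankEq _ _ (by rw [B.finrank, ← hd]; rfl)
  let φ : AdjoinRoot f →ₐ[K] End K U := (e.conjAlgEquiv K : End K (AdjoinRoot f) →ₐ[K] End K U).comp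
    (Algebra.lmul K (AdjoinRoot f))
  have hφ : ∀ a x, φ a (e x) = e (a * x) := fun a x => by simp only [φ, _root_.AlgHom.coe_comp, _root_.AlgEquiv.coe_toAlgHom, _root_.Algebra.coe_lmul_eq_mul, _root_.Function.comp_apply, _root_.LinearEquiv.conjAlgEquiv_apply_apply, _root_.LinearEquiv.symm_apply_apply, _root_.LinearMap.mul_apply_apply]
  refine ⟨φ (AdjoinRoot.root f), ?_, ?_, ?_⟩
  · have h1 := Algebra.PowerBasis.norm_gen_eq_coeff_zero_minpoly B
    rw [AdjoinRoot.minpoly_powerBasis_gen_of_monic hf, Algebra.norm_apply] at h1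
    exact (LinearMap.det_conj _ e).trans h1
  · rw [aeval_algHom_apply, AdjoinRoot.aeval_eq, AdjoinRoot.mk_self, map_zero]
  · have h1 := (φ (AdjoinRoot.root f) - 1).finrank_range_add_finrank_ker
    have h2 : (⊤ : Submodule K U) ≤ LinearMap.range (φ (AdjoinRoot.root f) - 1) ⊔ K ∙ e 1 := fun v _ => by
      obtain ⟨x, rfl⟩ := e.surjective v
      obtain ⟨r, rfl⟩ := AdjoinRoot.mk_surjective x
      refine mem_sup.2 ⟨_, ⟨e (AdjoinRoot.mk f (r /ₘ (X - C 1))), rfl⟩, _,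
        smul_mem _ (r.eval 1) (mem_span_singleton_self _), ?_⟩
      rw [LinearMap.sub_apply, hφ, End.one_apply, ← map_sub, ← map_smul, ← map_add]
      congr 1
      conv_rhs => rw [← modByMonic_add_div r (X - C 1), modByMonic_X_sub_C_eq_C_eval]
      rw [map_add, map_mul, map_sub, AdjoinRoot.mk_X, AdjoinRoot.mk_C, AdjoinRoot.mk_C, map_one (AdjoinRoot.of f),
        Algebra.smul_def]
      change _ + AdjoinRoot.of f _ * _ = _
      ring
    have h3 := (finrank_mono h2).trans (finrank_add_le_finrank_add_finrank _ _)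
    have h4 : finrank K (K ∙ e 1) ≤ 1 := (finrank_span_le_card _).trans (by simp only [_root_.Set.toFinset_singleton, _root_.Finset.card_singleton, _root_.Std.le_refl])
    rw [finrank_top] at h3
    omega

/-- determinant one, no eigenvalue -/
theorem exists_free [Finite K] (h2 : 2 ≤ finrank K U) :
    ∃ g : End K U, LinearMap.det g = 1 ∧ ∀ (μ : K) v, g v = μ • v → v = 0 := by
  obtain ⟨m, hm⟩ : ∃ m, finrank K U = m + 2 := ⟨finrank K U - 2, by omega⟩
  obtain ⟨a, ha⟩ : ∃ a : K, ∀ x : Kˣ, -((x : K) ^ (m + 2) + (-1) ^ (m + 2)) / x ≠ a := by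
    by_contra hcon
    push Not at hcon
    have h1 := Nat.card_le_card_of_surjective (fun x : Kˣ => -((x : K) ^ (m + 2) + (-1) ^ (m + 2)) / x) hcon
    have h3 : 0 < Nat.card K := Nat.card_pos
    rw [Nat.card_units] at h1
    omega
  have h1 : (C a * X + C ((-1) ^ (m + 2)) : K[X]).degree < (m + 2 : ℕ) :=
    degree_linear_le.trans_lt (by exact_mod_cast (by omega : 1 < m + 2))
  have h3 : (X ^ (m + 2) + (C a * X + C ((-1) ^ (m + 2))) : K[X]).natDegree = m + 2 := by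
    rw [natDegree_add_eq_left_of_degree_lt (by rwa [degree_X_pow]), natDegree_X_pow]
  obtain ⟨g, d, z, -⟩ := exists_comp (U := U) (monic_X_pow_add h1) (h3.trans hm.symm)
  refine ⟨g, ?_, fun μ v hv => ?_⟩
  · rw [d, h3, coeff_zero_eq_eval_zero]
    simp only [← mul_pow, _root_.map_pow, _root_.map_neg, _root_.map_one, _root_.Polynomial.eval_add, _root_.Polynomial.eval_pow, _root_.Polynomial.eval_X, _root_.ne_eq, _root_.Nat.add_eq_zero_iff, _root_.OfNat.ofNat_ne_zero, _root_.and_false, _root_.not_false_eq_true, _root_.zero_pow, _root_.Polynomial.eval_mul, _root_.Polynomial.eval_C, _root_.MulZeroClass.mul_zero, _root_.Polynomial.eval_neg, _root_.Polynomial.eval_one, _root_.zero_add, _root_.mul_neg, _root_.mul_one, _root_.neg_neg, _root_.one_pow]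
  · by_contra h0
    have h4 := End.aeval_apply_of_hasEigenvector (p := X ^ (m + 2) + (C a * X + C ((-1) ^ (m + 2))))
      (⟨End.mem_eigenspace_iff.2 hv, h0⟩ : g.HasEigenvector μ v)
    rw [z, LinearMap.zero_apply, eq_comm, smul_eq_zero, or_iff_left h0] at h4
    simp only [eval_add, eval_pow, eval_X, eval_mul, eval_C] at h4
    have h5 : μ ≠ 0 := fun e => by simp only [e, _root_.ne_eq, _root_.Nat.add_eq_zero_iff, _root_.OfNat.ofNat_ne_zero, _root_.and_false, _root_.not_false_eq_true, _root_.zero_pow, _root_.MulZeroClass.mul_zero, _root_.zero_add, _root_.pow_eq_zero_iff, _root_.neg_eq_zero, _root_.one_ne_zero] at h4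
    refine ha (Units.mk0 μ h5) ?_
    rw [Units.val_mk0, div_eq_iff h5]
    linear_combination -h4

/-- one unipotent Jordan block -/
theorem exists_jordan : ∃ g : End K U, LinearMap.det g = 1 ∧ (g - 1) ^ finrank K U = 0 ∧
    finrank K (LinearMap.ker (g - 1)) ≤ 1 := by
  have h1 : ((X - C 1) ^ finrank K U : K[X]).natDegree = finrank K U := by
    rw [natDegree_pow, natDegree_X_sub_C, mul_one]
  obtain ⟨g, d, z, k⟩ := exists_comp (U := U) ((monic_X_sub_C 1).pow _) h1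
  refine ⟨g, ?_, by simpa only [_root_.map_one, _root_.map_pow, _root_.Polynomial.aeval_sub, _root_.Polynomial.aeval_X] using z, k⟩
  rw [d, h1, coeff_zero_eq_eval_zero]
  simp only [← mul_pow, _root_.map_one, _root_.Polynomial.eval_pow, _root_.Polynomial.eval_sub, _root_.Polynomial.eval_X, _root_.Polynomial.eval_one, _root_.zero_sub, _root_.mul_neg, _root_.mul_one, _root_.neg_neg, _root_.one_pow]

theorem exists_glue {W Y : Submodule K V} (c : IsCompl W Y) (a : End K W) (b : End K Y) : ∃ g : End K V,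
    LinearMap.det g = LinearMap.det a * LinearMap.det b ∧ (∀ w : W, g w = a w) ∧ ∀ y : Y, g y = b y := by
  refine ⟨(W.prodEquivOfIsCompl Y c : W × Y →ₗ[K] V) ∘ₗ a.prodMap b ∘ₗ ((W.prodEquivOfIsCompl Y c).symm : V →ₗ[K] W × Y),
    by rw [LinearMap.det_conj, LinearMap.det_prodMap], fun w => ?_, fun y => ?_⟩ <;> simp

theorem sb_of_res {g : End K V} {Y : Submodule K V} {b : End K Y} (hb : ∀ y : Y, g y = b y) {N : ℕ} (h1 : (b - 1) ^ N = 0)
    (h2 : finrank K (LinearMap.ker (b - 1)) ≤ 1) : Sb (g - 1) Y := by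
  have k : ∀ y : Y, (g - 1) y = (b - 1) y := fun y => by simp only [hb, _root_.LinearMap.sub_apply, _root_.Module.End.one_apply, _root_.AddSubgroupClass.coe_sub]
  refine ⟨fun v hv => k ⟨v, hv⟩ ▸ ((b - 1) ⟨v, hv⟩).2, ⟨N, fun v hv => ?_⟩, ?_⟩
  · have h3 : ∀ (n : ℕ) (y : Y), ((g - 1) ^ n) y = ((b - 1) ^ n) y := fun n => by
      induction n with
      | zero => simp only [_root_.pow_zero, _root_.Module.End.one_apply, _root_.implies_true]
      | succ n ih => exact fun y => by rw [pow_succ, pow_succ, End.mul_apply, End.mul_apply, k, ih]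
    rw [h3 N ⟨v, hv⟩, h1]
    rfl
  · refine (finrank_mono (?_ : _ ≤ (LinearMap.ker (b - 1)).map Y.subtype)).trans
      ((finrank_map_le _ _).trans h2)
    exact fun v hv => ⟨⟨v, hv.2⟩, Subtype.ext ((k ⟨v, hv.2⟩).symm.trans hv.1), rfl⟩

theorem Iv.sub_one {g : End K V} {X : Submodule K V} (h : Iv g X) : Iv (g - 1) X := fun v hv => X.sub_mem (h v hv) hv

/-- **a rigid element of `SL(W) × SL(Y)`** -/
theorem exists_rigid [Finite K] {W Y : Submodule K V} (c : IsCompl W Y) (h0 : 0 < finrank K W)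
    (hle : finrank K W ≤ finrank K Y) (h2 : 2 ≤ finrank K Y) : ∃ g : End K V, LinearMap.det g = 1 ∧ Iv g W ∧ Iv g Y ∧
      ∀ Z Z', IsCompl Z Z' → Iv g Z → Iv g Z' → finrank K Z = finrank K W → (Z = W ∧ Z' = Y) ∨ (Z' = W ∧ Z = Y) := by
  by_cases h1 : finrank K W = 1
  · obtain ⟨b, db, hb⟩ := exists_free (U := Y) h2
    obtain ⟨g, dg, gw, gy⟩ := exists_glue c 1 b
    have i1 : Iv g W := fun v hv => gw ⟨v, hv⟩ ▸ hv
    have i2 : Iv g Y := fun v hv => gy ⟨v, hv⟩ ▸ (b ⟨v, hv⟩).2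
    have k : ∀ (μ : K), ∀ v ∈ Y, g v = μ • v → v = 0 := fun μ v hv e =>
      congrArg Subtype.val (hb μ ⟨v, hv⟩ (Subtype.ext ((gy ⟨v, hv⟩).symm.trans e)))
    have p : Pm (g - 1) W Y := ⟨c.sup_eq_top, i1.sub_one, i2.sub_one,
      nl_of_zero fun v hv => sub_eq_zero.2 (gw ⟨v, hv⟩), fun v hv e => k 1 v hv (by rw [one_smul]; exact sub_eq_zero.1 e)⟩
    refine ⟨g, by rw [dg, db, map_one, mul_one], i1, i2, fun Z Z' c' hZ hZ' d => Or.inl ?_⟩
    have h3 : Z ⊓ Y = ⊥ := eq_bot_iff.2 fun v hv => by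
      by_contra h4
      have h5 : K ∙ v = Z := eq_of_le_of_finrank_le ((span_singleton_le_iff_mem _ _).2 hv.1)
        (by rw [finrank_span_singleton h4, d, h1])
      obtain ⟨μ, e⟩ := mem_span_singleton.1 (h5.ge (hZ v hv.1))
      exact h4 (k μ v hv.2 e.symm)
    have h4 := p.prim hZ.sub_one
    rw [h3, sup_bot_eq] at h4
    obtain rfl : Z = W := eq_of_le_of_finrank_le (h4 ▸ inf_le_right) d.ge
    exact ⟨rfl, p.other' hZ'.sub_one c'⟩
  · obtain ⟨a, da, ha⟩ := exists_free (K := K) (U := W) (by omega)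
    obtain ⟨b, db, b1, b2⟩ := exists_jordan (K := K) (U := Y)
    obtain ⟨g, dg, gw, gy⟩ := exists_glue c a b
    have i1 : Iv g W := fun v hv => gw ⟨v, hv⟩ ▸ (a ⟨v, hv⟩).2
    have i2 : Iv g Y := fun v hv => gy ⟨v, hv⟩ ▸ (b ⟨v, hv⟩).2
    have s := sb_of_res gy b1 b2
    have p : Pm (g - 1) Y W := ⟨c.symm.sup_eq_top, s.iv, i1.sub_one, s.nl, fun v hv e => congrArg Subtype.val
      (ha 1 ⟨v, hv⟩ (by rw [one_smul]; exact Subtype.ext ((gw ⟨v, hv⟩).symm.trans (sub_eq_zero.1 e))))⟩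
    refine ⟨g, by rw [dg, da, db, mul_one], i1, i2, fun Z Z' c' hZ hZ' d => ?_⟩
    have h3 : cyc (g - 1) (0 : V) = ⊥ := by rw [cyc_of_zero (map_zero _), span_zero_singleton]
    have d1 := finrank_add_eq_of_isCompl c
    have d2 := finrank_add_eq_of_isCompl c'
    obtain ⟨y, hy⟩ := p.uni s (x₀ := 0) (j := 0) (by rw [h3, bot_sup_eq]) (zero_add _).symm (by rw [h3, finrank_bot])
      (by omega) hZ.sub_one hZ'.sub_one c' (by omega) (by omega)
    rw [show (y : V) = 0 from y.2.1, add_zero, h3, bot_sup_eq] at hy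
    rcases hy with rfl | rfl
    · exact Or.inl ⟨rfl, p.other hZ'.sub_one c'⟩
    · exact Or.inr ⟨rfl, p.other hZ.sub_one c'.symm⟩

theorem idem_compl {E : End K V} (h : E * E = E) : IsCompl (LinearMap.range E) (LinearMap.ker E) :=
  LinearMap.IsIdempotentElem.isCompl h

theorem idem_ext {E E' : End K V} (h : E * E = E) (h' : E' * E' = E') (h1 : LinearMap.range E' = LinearMap.range E)
    (h2 : LinearMap.ker E' = LinearMap.ker E) : E' = E := LinearMap.ext fun v => by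
  obtain ⟨_, ⟨a, rfl⟩, b, hb, rfl⟩ := mem_sup.1 ((idem_compl h).sup_eq_top ▸ mem_top : v ∈ _)
  obtain ⟨a', ha⟩ : E a ∈ LinearMap.range E' := h1 ▸ ⟨a, rfl⟩
  rw [map_add, map_add, (h2.ge hb : E' b = 0), (hb : E b = 0), ← End.mul_apply E E, h, ← ha, ← End.mul_apply, h']

theorem range_one_sub {E : End K V} (h : E * E = E) :
    LinearMap.range (1 - E) = LinearMap.ker E ∧ LinearMap.ker (1 - E) = LinearMap.range E := by
  constructor <;> ext v
  · refine ⟨?_, fun k => ⟨v, by simp [LinearMap.mem_ker.1 k]⟩⟩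
    rintro ⟨x, rfl⟩
    rw [LinearMap.mem_ker, ← End.mul_apply, mul_sub, mul_one, h, sub_self, LinearMap.zero_apply]
  · refine ⟨fun k => ⟨v, (sub_eq_zero.1 k).symm⟩, ?_⟩
    rintro ⟨x, rfl⟩
    rw [LinearMap.mem_ker, ← End.mul_apply, sub_mul, one_mul, h, sub_self, LinearMap.zero_apply]

theorem iv_of_comm {g E : End K V} (h : g * E = E * g) : Iv g (LinearMap.range E) ∧ Iv g (LinearMap.ker E) :=
  ⟨by rintro _ ⟨x, rfl⟩; exact ⟨g x, by rw [← End.mul_apply, ← h, End.mul_apply]⟩, fun v hv => by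
    rw [LinearMap.mem_ker, ← End.mul_apply, ← h, End.mul_apply, (hv : E v = 0), map_zero]⟩

theorem comm_of_iv {g E : End K V} (h : E * E = E) (h1 : Iv g (LinearMap.range E)) (h2 : Iv g (LinearMap.ker E)) (v : V) :
    g (E v) = E (g v) := by
  obtain ⟨_, ⟨a, rfl⟩, b, hb, rfl⟩ := mem_sup.1 ((idem_compl h).sup_eq_top ▸ mem_top : v ∈ _)
  obtain ⟨a', ha⟩ := h1 _ ⟨a, rfl⟩
  rw [map_add, map_add g (E a) b, map_add E, (hb : E b = 0), (h2 b hb : E (g b) = 0), ← End.mul_apply E E a, h,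
    add_zero, add_zero, ← ha, ← End.mul_apply E E, h]

end lin

theorem finrank_cj {A K V : Type} [Ring A] [Field K] [AddCommGroup V] [Module K V] [FiniteDimensional K V]
    (π : A →+* End K V) (a : Aˣ) (e : A) :
    finrank K (LinearMap.range (π (DS.Cl.cj A a e))) = finrank K (LinearMap.range (π e)) := by
  have k : ∀ (a : Aˣ) (e : A), finrank K (LinearMap.range (π (DS.Cl.cj A a e))) ≤ finrank K (LinearMap.range (π e)) :=
    fun a e => by
      refine (finrank_mono ?_).trans (finrank_map_le (π a) (LinearMap.range (π e)))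
      rintro _ ⟨v, rfl⟩
      exact ⟨_, ⟨π (a⁻¹ : Aˣ) v, rfl⟩, by rw [cj_apply, map_mul π, map_mul π]; rfl⟩
  refine le_antisymm (k a e) ?_
  have := k a⁻¹ (DS.Cl.cj A a e)
  rwa [map_inv, ra_inv_apply] at this

/-- **[Fix, L]** -/
theorem fixL3 : OnL 3 pFix := by
  intro K _ _ n F H p k hn c hD
  have hψ : ∀ x y : LR (Fin n) K, SI x → SI y → prL n K x = prL n K y → x = y := fun x y hx hy e =>
    sub_eq_zero.1 (TH.Cl.prL_sep _ (by rw [map_sub, e, sub_self]) (by rw [star_sub, hx.symm, hy.symm, map_sub, e, sub_self]))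
  have hi : ∀ x : LR (Fin n) K, SI x → prL n K x * prL n K x = prL n K x := fun x hx => by rw [← map_mul, hx.idem]
  have main : ∀ e : LR (Fin n) K, e ≠ 0 → e ≠ 1 → SI e → (∀ γ ∈ H, γ e = e) →
      finrank K (LinearMap.range (prL n K e)) ≤ finrank K (LinearMap.ker (prL n K e)) → Gd F H := by
    intro e h0 h1 he hH hle
    have c' := idem_compl (hi e he)
    have d := finrank_add_eq_of_isCompl c'
    rw [finrank_fin_fun] at d
    obtain ⟨g, dg, i1, i2, hg⟩ := exists_rigid c' (Nat.pos_of_ne_zero fun z => h0 (hψ _ _ he ⟨mul_zero _, star_zero _⟩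
      (by rw [map_zero]; exact LinearMap.range_eq_bot.1 (finrank_eq_zero.1 z)))) hle (by omega)
    obtain ⟨u, hu, rfl⟩ := k.exists_lift dg
    refine gd_ring c h0 h1 he hH (prL n K) hψ hu (TH.Cl.Big.comm_of_pi (by exact TH.Cl.prL_sep) (FR.comm_le_Iso hu) he.symm
      (comm_of_iv (hi e he) i1 i2)) (fun _ : Unit => prL n K e) (fun a ha hc => ⟨(), ?_⟩) (fun _ : Unit => 1)
      (fun _ => one_mem _) (fun _ _ _ => rfl) (by simp)
    have hs := he.map (FR.cj_mem_Aut ha)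
    obtain ⟨j1, j2⟩ := iv_of_comm (g := prL n K u) (E := prL n K (DS.Cl.cj _ a e)) (by rw [← map_mul, hc, map_mul])
    rcases hg _ _ (idem_compl (hi _ hs)) j1 j2 (finrank_cj _ a e) with ⟨a1, a2⟩ | ⟨a1, a2⟩
    · exact Or.inl (idem_ext (hi e he) (hi _ hs) a1 a2)
    · refine Or.inr (idem_ext (hi e he) (hi _ hs.compl) ?_ ?_) <;> rw [map_sub, map_one]
      · exact (range_one_sub (hi _ hs)).1.trans a1
      · exact (range_one_sub (hi _ hs)).2.trans a2
  obtain ⟨e, h0, h1, h2, h3, hH⟩ := hD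
  rcases le_total (finrank K (LinearMap.range (prL n K e))) (finrank K (LinearMap.ker (prL n K e))) with l | l
  · exact main e h0 h1 ⟨h2, h3⟩ hH l
  · refine main (1 - e) (sub_ne_zero.2 h1.symm) (fun k => h0 (sub_eq_self.1 k)) (SI.compl ⟨h2, h3⟩)
      (fun γ hγ => by rw [map_sub, map_one, hH γ hγ]) ?_
    rwa [map_sub, map_one, (range_one_sub (hi e ⟨h2, h3⟩)).1, (range_one_sub (hi e ⟨h2, h3⟩)).2]

end Cfsg.Agent.N2.C1

/-- **[Fix, L]** -/
theorem Cfsg.Agent.N2C.fixL : Cfsg.Agent.N2C.OnL 5 Cfsg.Agent.N2C.pFix := fun K _ _ n F H p k hn c hD =>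
  Cfsg.Agent.N2.C1.fixL3 K n F H p k (by omega) c hD
end

-- part: N2/C1/U
section
/-!
# N2 (S3519), class C1: unitary and symplectic groups, a fixed non-degenerate subspace (helper43)
-/

set_option autoImplicit false
set_option linter.unusedSectionVars false

namespace Cfsg.Agent.N2.C1

open Cfsg.Agent.DS.Cl Cfsg.Agent.DS.Cl.Fwd Module Submodule
open Cfsg.Agent.N2C (Ctx Gd OnU OnSp pFix)
open Cfsg.Agent.SB.Cl (IsU IsSp)
open Cfsg.Agent.TH.Cl (Eich KU KSp IsU.swap IsU.tau_ne)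
open Cfsg.Agent.TH.Cl.Big (b_swap_zero iso_b exists_norm)
open Cfsg.Agent.SB.Tor (tau_self)
open Cfsg.Agent.ClassicalGeometry.InvolutiveNorm

variable {K V : Type} [Field K] [Fintype K] [AddCommGroup V] [Module K V] [Finite V] {h : HF K V} {F : FR h.EB}
  {X Y W : Submodule K V} {q : ℕ} {H : Subgroup (RingAut h.EB)}

theorem exists_mem_ne (d : 0 < finrank K X) : ∃ x ∈ X, x ≠ 0 :=
  exists_mem_ne_zero_of_ne_bot fun e => by rw [e, finrank_bot] at d; omega

theorem u_aniso (hU : IsU h) (n : ND h X) (d : 0 < finrank K X) : ∃ v ∈ X, h.b v v ≠ 0 := by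
  by_contra hcon
  push Not at hcon
  obtain ⟨x, hx, hx0⟩ := exists_mem_ne d
  obtain ⟨θ, hθ⟩ := exists_add_sigma_ne_zero (IsU.tau_ne hU)
  obtain ⟨y, hy, hyx⟩ := n.partner hx hx0 θ
  have h1 := hcon (x + y) (X.add_mem hx hy)
  rw [h.add_left, h.add_right, h.add_right, hcon x hx, hcon y hy, IsU.swap hU y x, hyx] at h1
  exact hθ (by linear_combination h1)

theorem u_val (hU : IsU h) (n : ND h X) (d : 0 < finrank K X) (x : V) : ∃ y ∈ X, h.b y y = -h.b x x := by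
  obtain ⟨v, hv, h1⟩ := u_aniso hU n d
  obtain ⟨c, hc⟩ := exists_norm hU h1 (n := -h.b x x) (by rw [map_neg, tau_self hU.1])
  exact ⟨_, X.smul_mem c hv, hc⟩

theorem b_add_self {x y : V} (o : h.b y x = 0) (e : h.b y y = -h.b x x) : h.b (x + y) (x + y) = 0 := by
  rw [h.add_left, h.add_right, h.add_right, e, o, b_swap_zero o]
  ring

theorem u_iso (hU : IsU h) (n : ND h X) (d : 2 ≤ finrank K X) : ∃ v ∈ X, v ≠ 0 ∧ h.b v v = 0 := by
  obtain ⟨x, hx, h1⟩ := u_aniso hU n (by omega)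
  have hle := (span_singleton_le_iff_mem x X).2 hx
  have d' := (nd_one h1).rel_dim hle
  rw [finrank_span_singleton (ne_of_b h1)] at d'
  obtain ⟨y, hy, h2⟩ := u_val hU (n.rel_nd (nd_one h1) hle) (by omega) x
  have o := mem_pp_one.1 hy.2
  refine ⟨x + y, X.add_mem hx hy.1, fun e => h1 ?_, b_add_self o h2⟩
  have h3 := h.add_left x y x
  rwa [e, h.zero_left, o, add_zero, eq_comm] at h3

theorem u_eich (k : KU h F q) {e : V} (he : h.b e e = 0) (t : V) (ht : h.b t e = 0) : ∃ c, Eich h F e t 1 c := by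
  obtain ⟨c, hc⟩ := exists_add_sigma_eq (IsU.tau_ne k.u) h.τ_τ (tau_self k.u.1 t)
  exact ⟨c, k.eich he ht (by rw [add_comm, hc])⟩

theorem tv_of_eich {e : V} {s c : K} (k : Eich h F e 0 s c) :
    ∃ r ∈ (⁅F.Iso, F.Iso⁆ : Subgroup h.EBˣ), ∀ x, h.ap r x = x - (c * h.b x e) • e := by
  obtain ⟨r, hr, e⟩ := k
  exact ⟨r, hr, fun x => by rw [e, h.zero_right, smul_zero, add_zero, mul_zero, zero_add]⟩

theorem u_tv (k : KU h F q) {e : V} (he : h.b e e = 0) :
    ∃ κ : K, κ ≠ 0 ∧ ∃ r ∈ (⁅F.Iso, F.Iso⁆ : Subgroup h.EBˣ), ∀ x, h.ap r x = x - (κ * h.b x e) • e := by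
  obtain ⟨c, hc⟩ := exists_sigma_ne (IsU.tau_ne k.u)
  exact ⟨c - h.τ c, sub_ne_zero.2 hc.symm, tv_of_eich (k.eich he (h.zero_left e) (by
    rw [map_sub, h.τ_τ, h.zero_left]; ring))⟩

/-- **regular unipotent elements, unitary groups** -/
theorem u_rg (k : KU h F q) (n : ND h Y) (d : 0 < finrank K Y) :
    ∃ u ∈ (⁅F.Iso, F.Iso⁆ : Subgroup h.EBˣ), Rg h u Y := by
  have main := fun (m : ℕ) hm base i => exists_rg (F := F) (X := ⊤) (· ∈ (⁅F.Iso, F.Iso⁆ : Subgroup h.EBˣ))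
    (fun _ hy _ hu => mul_mem hy hu) (fun _ hu => FR.comm_le_Iso hu) one_ne_zero (fun Y n d => by
      obtain ⟨e, he, h0, h1⟩ := u_iso k.u n (by omega)
      exact ⟨e, he, h0, h1, u_eich k h1⟩) (m := m) hm base i Y le_top n
  obtain ⟨i, hi | hi⟩ : ∃ i, finrank K Y = 1 + 2 * i ∨ finrank K Y = 2 + 2 * i := ⟨(finrank K Y - 1) / 2, by omega⟩
  · exact main 1 le_rfl (fun Y' _ _ d => ⟨1, one_mem _, rg_one d⟩) i hi
  · refine main 2 (by omega) (fun Y' _ n d => ?_) i hi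
    obtain ⟨e, he, h0, h1⟩ := u_iso k.u n d.ge
    obtain ⟨κ, hκ, r, hr, er⟩ := u_tv k h1
    exact ⟨r, hr, rg_two n d hκ he h0 h1 er⟩

/-- **elements without fixed vector, unitary groups** -/
theorem u_fpf (k : KU h F q) (n : ND h W) (d : 2 ≤ finrank K W) :
    ∃ g ∈ (⁅F.Iso, F.Iso⁆ : Subgroup h.EBˣ), (∀ v ∈ pp h W, h.ap g v = v) ∧ Ij (h.ap g - 1) W := by
  refine exists_fpf fun y hy y0 => ?_
  suffices ∃ w ∈ W, h.b w y ≠ 0 ∧ h.b w w = 0 from this.imp fun w a => ⟨a.1, a.2.1, u_tv k a.2.2⟩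
  by_contra hcon
  push Not at hcon
  have h1 : ∀ w ∈ W, h.b w w = 0 → h.b w y = 0 := fun w hw e => by
    by_contra h2
    exact hcon w hw h2 e
  obtain ⟨e, he, h0, hee⟩ := u_iso k.u n d
  have h2 : ∀ v ∈ W, h.b e v ≠ 0 → h.b v y = 0 := fun v hv e' => by
    obtain ⟨c, hc⟩ := exists_add_sigma_eq (IsU.tau_ne k.u) h.τ_τ (a := -h.b v v) (by rw [map_neg, tau_self k.u.1])
    have h3 := h1 (v + (c / h.b e v) • e) (W.add_mem hv (W.smul_mem _ he)) (by
      rw [h.add_left, h.add_right, h.add_right, h.smul_left, h.smul_left, h.smul_right, h.smul_right, hee,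
        IsU.swap k.u e v, ← map_mul, div_mul_cancel₀ _ e']
      linear_combination hc)
    rwa [h.add_left, h.smul_left, h1 e he hee, mul_zero, add_zero] at h3
  obtain ⟨f, hf, hfe⟩ := n.partner he h0 1
  have h3 : h.b e f ≠ 0 := h.ne_swap (hfe ▸ one_ne_zero)
  refine y0 (n y hy fun v hv => b_swap_zero ?_)
  by_cases h4 : h.b e v = 0
  · have h5 := h2 (v + f) (W.add_mem hv hf) (by rwa [h.add_right, h4, zero_add])
    rwa [h.add_left, h2 f hf h3, add_zero] at h5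
  · exact h2 v hv h4

theorem gd_U (k : KU h F q) (f : Fx F H W) (h5 : 2 ≤ finrank K W ∨ 5 ≤ finrank K V) : Gd F H := by
  have := f.pos
  have := f.le
  obtain ⟨u, hu, r⟩ := u_rg k f.nd.perp (by omega)
  by_cases h2 : 2 ≤ finrank K W
  · obtain ⟨g, hg, g1, g2⟩ := u_fpf k f.nd h2
    exact gd_A f hg hu g1 g2 r
  · obtain ⟨x, hx, hxx⟩ := u_aniso k.u f.nd f.pos
    obtain ⟨y, hy, hyy⟩ := u_val k.u f.nd.perp (by omega) x
    have hs := b_add_self (hy x hx) hyy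
    exact gd_B f (by omega) (h5.resolve_left h2) hu r hx hy hxx hs (u_eich k hs)

section Sp

variable {j : ℕ}

theorem sp_even (hS : ∀ v, h.b v v = 0) : ∀ (m : ℕ) (Y : Submodule K V), ND h Y → finrank K Y = m → Even m := fun m => by
  induction m using Nat.strong_induction_on with
  | _ m ih =>
    intro Y n d
    rcases Nat.eq_zero_or_pos m with rfl | h0
    · exact Even.zero
    obtain ⟨e, he, e0⟩ := exists_mem_ne (X := Y) (d ▸ h0)
    obtain ⟨f, hf, hfe⟩ := n.partner he e0 1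
    have m' := nd_two (hS e) (hfe ▸ one_ne_zero)
    have hle : span K {e, f} ≤ Y := span_le.2 (by rintro _ (rfl | rfl) <;> assumption)
    have d' := m'.rel_dim hle
    rw [dim_two (hS e) (hfe ▸ one_ne_zero)] at d'
    rw [← d, d']
    exact even_two.add (ih _ (by omega) _ (n.rel_nd m' hle) rfl)

theorem sp_tv (k : KSp h F j) (e : V) :
    ∃ r ∈ (⁅F.Iso, F.Iso⁆ : Subgroup h.EBˣ), ∀ x, h.ap r x = x - (1 * h.b x e) • e :=
  tv_of_eich (k.eich (h.zero_left e) 1)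

/-- **regular unipotent elements, symplectic groups** -/
theorem sp_rg (k : KSp h F j) (n : ND h Y) (d : 0 < finrank K Y) :
    ∃ u ∈ (⁅F.Iso, F.Iso⁆ : Subgroup h.EBˣ), Rg h u Y := by
  obtain ⟨i, hi⟩ := sp_even k.sp.2.1 _ Y n rfl
  refine exists_rg (F := F) (X := ⊤) (· ∈ (⁅F.Iso, F.Iso⁆ : Subgroup h.EBˣ))
    (fun _ hy _ hu => mul_mem hy hu) (fun _ hu => FR.comm_le_Iso hu) (neg_ne_zero.2 one_ne_zero) (fun Y n d => by
      obtain ⟨e, he, h0⟩ := exists_mem_ne (X := Y) (by omega)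
      exact ⟨e, he, h0, k.sp.2.1 e, fun t ht => ⟨0, k.eich ht 0⟩⟩) (m := 2) (by omega) (fun Y' _ n d => ?_) (i - 1) Y
    le_top n (by omega)
  obtain ⟨e, he, h0⟩ := exists_mem_ne (X := Y') (by omega)
  obtain ⟨r, hr, er⟩ := sp_tv k e
  exact ⟨r, hr, rg_two n d one_ne_zero he h0 (k.sp.2.1 e) er⟩

/-- **elements without fixed vector, symplectic groups** -/
theorem sp_fpf (k : KSp h F j) (n : ND h W) :
    ∃ g ∈ (⁅F.Iso, F.Iso⁆ : Subgroup h.EBˣ), (∀ v ∈ pp h W, h.ap g v = v) ∧ Ij (h.ap g - 1) W :=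
  exists_fpf fun y hy y0 => by
    obtain ⟨w, hw, e⟩ := n.partner hy y0 1
    exact ⟨w, hw, e ▸ one_ne_zero, 1, one_ne_zero, sp_tv k w⟩

/-- **[Fix, Sp]**, all dimensions -/
theorem fixSp2 : OnSp 2 pFix := fun _ _ _ _ _ _ _ _ _ _ _ _ k _ c hD => by
  obtain ⟨W, f⟩ := exists_fx c hD
  obtain ⟨u, hu, r⟩ := sp_rg k f.nd.perp (f.pos.trans_le f.le)
  obtain ⟨g, hg, g1, g2⟩ := sp_fpf k f.nd
  exact gd_A f hg hu g1 g2 r

end Sp

end Cfsg.Agent.N2.C1

namespace Cfsg.Agent.N2C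

/-- **[Fix, U]** -/
theorem fixU : OnU 5 pFix := fun _ _ _ _ _ _ _ _ _ _ _ _ k h5 c hD => by
  obtain ⟨W, f⟩ := N2.C1.exists_fx c hD
  exact N2.C1.gd_U k f (Or.inr h5)

end Cfsg.Agent.N2C
end
end

-- part: N2/Cl/FrSp/Sing
section
prune_inst 0x2420740474c002002000058441000020700004000040840024a00f060b09e0268d4008000f80201a1a260088080000081104002002c209c00e1c04000026040118c010040040401942008800030861a000009040000000000000000000010000200400000
set_option linter.all false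
open scoped Cfsg.Agent.FastGrp

/-!
# N2 (S3519), symplectic groups: the Singer model of an alternating space (helper79)

`Sg K E m` : `E = F_(q^2m)`, `σ x = x ^ q ^ m`, `lam` of order `q ^ m + 1`; `B x y = Tr ((lam - σ lam) x σ y)`.
`Blk h s e` : an isometric embedding of `(E, B)` onto the image of the symmetric idempotent `e`.
-/

set_option autoImplicit false
set_option linter.unusedSectionVars false

namespace Cfsg.Agent.N2C.FrSp

open Cfsg.Agent.DS.Cl Cfsg.Agent.DS.Cl.Fwd Cfsg.Agent.SB.Cl Module Polynomial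
open Cfsg.Agent.TH.Cl (KSp)

/-- the Singer data -/
structure Sg (K E : Type) [Field K] [Fintype K] [Field E] [Algebra K E] (m : ℕ) where
  /-- the involution -/
  σ : E ≃ₐ[K] E
  /-- the element of order `q ^ m + 1` -/
  lam : E
  pos : 0 < m
  dim : finrank K E = 2 * m
  σ_eq : ∀ x, σ x = x ^ Fintype.card K ^ m
  ord : orderOf lam = Fintype.card K ^ m + 1

theorem exists_sg (K : Type) [Field K] [Fintype K] {m : ℕ} (hm : 0 < m) :
    ∃ (E : Type) (_ : Field E) (_ : Finite E) (_ : Algebra K E), Nonempty (Sg K E m) := by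
  obtain ⟨p, hp⟩ := CharP.exists K
  have : Fact p.Prime := ⟨CharP.char_is_prime K p⟩
  have : NeZero (2 * m) := ⟨by omega⟩
  let E := FiniteField.Extension K p (2 * m)
  obtain ⟨g, hg⟩ := IsCyclic.exists_ofOrder_eq_natCard (α := Eˣ)
  have h1 : 1 < Fintype.card K ^ m := Nat.one_lt_pow hm.ne' Fintype.one_lt_card
  have h2 : Nat.card Eˣ = (Fintype.card K ^ m - 1) * (Fintype.card K ^ m + 1) := by
    rw [Nat.card_units, FiniteField.natCard_extension, Nat.card_eq_fintype_card, mul_comm 2 m, pow_mul,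
      mul_comm (_ - 1), ← Nat.sq_sub_sq, one_pow]
  refine ⟨E, inferInstance, inferInstance, inferInstance, ⟨⟨FiniteField.frobeniusAlgEquivOfAlgebraic K E ^ m,
    (g ^ (Fintype.card K ^ m - 1) : Eˣ), hm, FiniteField.finrank_extension K p (2 * m), fun x => ?_, ?_⟩⟩⟩
  · rw [AlgEquiv.coe_pow, FiniteField.coe_frobeniusAlgEquivOfAlgebraic_iterate]
  · rw [orderOf_units, orderOf_pow_of_dvd (by omega) (by rw [hg, h2]; exact dvd_mul_right _ _), hg, h2,
      Nat.mul_div_cancel_left _ (by omega)]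

namespace Sg

variable {K E : Type} [Field K] [Fintype K] [Field E] [Finite E] [Algebra K E] {m : ℕ} (s : Sg K E m)

include s in
theorem two_le : 2 ≤ Fintype.card K ^ m := Nat.one_lt_pow s.pos.ne' Fintype.one_lt_card

include s in
theorem card : Nat.card E = Fintype.card K ^ (2 * m) := by
  have : Module.Finite K E := Module.Finite.of_finite
  rw [Module.natCard_eq_pow_finrank (K := K), s.dim, Nat.card_eq_fintype_card]

theorem σσ (x : E) : s.σ (s.σ x) = x := by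
  have := Fintype.ofFinite E
  rw [s.σ_eq, s.σ_eq, ← pow_mul, ← pow_add, ← two_mul, ← s.card, Nat.card_eq_fintype_card, FiniteField.pow_card]

theorem lam_σ : s.lam * s.σ s.lam = 1 := by rw [s.σ_eq, ← pow_succ', ← s.ord, pow_orderOf_eq_one]

theorem lam_ne : s.lam ≠ 0 := left_ne_zero_of_mul_eq_one s.lam_σ

theorem pow_ne {j : ℕ} (h0 : j ≠ 0) (hj : j ≤ Fintype.card K ^ m) : s.lam ^ j ≠ 1 :=
  pow_ne_one_of_lt_orderOf h0 (by rw [s.ord]; omega)

/-- the skew element -/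
def δ : E := s.lam - s.σ s.lam

theorem σ_δ : s.σ s.δ = -s.δ := by rw [δ, map_sub, s.σσ, neg_sub]

theorem δ_ne : s.δ ≠ 0 := fun h => s.pow_ne two_ne_zero s.two_le (by
  rw [pow_two, ← s.lam_σ, ← sub_eq_zero.1 h])

/-- the alternating form -/
noncomputable def B : LinearMap.BilinForm K E :=
  LinearMap.mk₂ K (fun x y => Algebra.trace K E (s.δ * x * s.σ y)) (fun _ _ _ => by rw [mul_add, add_mul, map_add])
    (fun _ _ _ => by rw [mul_smul_comm, smul_mul_assoc, map_smul]) (fun _ _ _ => by rw [map_add, mul_add, map_add])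
    fun _ _ _ => by rw [map_smul, mul_smul_comm, map_smul]

theorem B_apply (x y : E) : s.B x y = Algebra.trace K E (s.δ * x * s.σ y) := rfl

theorem B_self (x : E) : s.B x x = 0 := by
  have h1 := Algebra.trace_eq_of_algEquiv s.σ (s.lam * x * s.σ x)
  rw [B_apply, show s.δ * x * s.σ x = s.lam * x * s.σ x - s.σ (s.lam * x * s.σ x) by
    rw [δ, map_mul, map_mul, s.σσ]; ring, map_sub, h1, sub_self]

theorem B_nd (x : E) (hx : ∀ y, s.B x y = 0) : x = 0 := by
  have : Module.Finite K E := Module.Finite.of_finite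
  refine (mul_eq_zero.1 ((traceForm_nondegenerate K E).1 (s.δ * x) fun y => ?_)).resolve_left s.δ_ne
  have h1 := hx (s.σ y)
  rwa [B_apply, s.σσ] at h1

theorem B_mul (z x y : E) : s.B (z * x) y = s.B x (s.σ z * y) := by
  rw [B_apply, B_apply, map_mul s.σ, s.σσ]
  congr 1
  ring

theorem B_iso {z : E} (hz : z * s.σ z = 1) (x y : E) : s.B (z * x) (z * y) = s.B x y := by
  rw [B_mul, ← mul_assoc, mul_comm _ z, hz, one_mul]

/-- `lam ^ j` generates `E` -/
theorem gen {j : ℕ} (hj : j = 1 ∨ (j = 2 ∧ 4 ≤ Fintype.card K ^ m)) : Algebra.adjoin K {s.lam ^ j} = ⊤ := by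
  have : Module.Finite K E := Module.Finite.of_finite
  have h2 := s.two_le
  have hq : 2 ≤ Fintype.card K := Fintype.one_lt_card
  let L := IntermediateField.adjoin K {s.lam ^ j}
  have := Fintype.ofFinite L
  have h1 : finrank K L ∣ 2 * m := s.dim ▸ Dvd.intro _ (finrank_mul_finrank K L E)
  have h3 : Fintype.card L = Fintype.card K ^ finrank K L := Module.card_eq_pow_finrank
  have h4 : Fintype.card K ^ m + 1 ∣ j * (Fintype.card K ^ finrank K L - 1) := by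
    rw [← s.ord, orderOf_dvd_iff_pow_eq_one, pow_mul, ← h3]
    exact congrArg Subtype.val (FiniteField.pow_card_sub_one_eq_one
      (⟨_, IntermediateField.mem_adjoin_simple_self K _⟩ : L) fun h => pow_ne_zero j s.lam_ne (congrArg Subtype.val h))
  have h5 : finrank K L = finrank K E := by
    by_contra h5
    have h6 : finrank K L ≤ m := by
      obtain ⟨c, hc⟩ := h1
      rw [s.dim] at h5
      have : 2 ≤ c := by
        by_contra h7
        have := s.pos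
        obtain rfl | rfl : c = 0 ∨ c = 1 := by omega
        all_goals omega
      nlinarith
    have h7 : 2 ≤ Fintype.card K ^ finrank K L := Nat.one_lt_pow finrank_pos.ne' hq
    have h8 := Nat.le_of_dvd (Nat.mul_pos (by omega) (by omega)) h4
    rcases h6.eq_or_lt with h9 | h9
    · rw [h9] at h4 h8
      rcases hj with rfl | ⟨rfl, h10⟩
      · omega
      · have h11 := Nat.le_of_dvd (by norm_num) ((Nat.dvd_add_right h4).1
          (show _ ∣ 2 * (Fintype.card K ^ m - 1) + 4 from ⟨2, by omega⟩))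
        omega
    · have h10 : Fintype.card K ^ finrank K L * 2 ≤ Fintype.card K ^ m :=
        (Nat.mul_le_mul_left _ hq).trans (by rw [← pow_succ]; exact Nat.pow_le_pow_right (by omega) h9)
      rcases hj with rfl | ⟨rfl, -⟩ <;> omega
  rw [← IntermediateField.adjoin_simple_toSubalgebra_of_isAlgebraic (Algebra.IsAlgebraic.isAlgebraic _),
    show IntermediateField.adjoin K {s.lam ^ j} = ⊤ from IntermediateField.eq_of_le_of_finrank_eq le_top
      (h5.trans IntermediateField.finrank_top'.symm), IntermediateField.top_toSubalgebra]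

/-- irreducibility -/
theorem irr {μ : E} (hμ : Algebra.adjoin K {μ} = ⊤) (U : Submodule K E) (hU : ∀ x ∈ U, μ * x ∈ U) {x : E} (hx : x ∈ U)
    (h0 : x ≠ 0) (y : E) : y ∈ U := by
  have h1 : ∀ z ∈ Algebra.adjoin K {μ}, ∀ x ∈ U, z * x ∈ U := fun z hz => by
    induction hz using Algebra.adjoin_induction with
    | mem z hz => exact hz ▸ hU
    | algebraMap c => exact fun x hx => Algebra.smul_def c x ▸ U.smul_mem c hx
    | add a b _ _ ha hb => exact fun x hx => add_mul a b x ▸ U.add_mem (ha x hx) (hb x hx)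
    | mul a b _ _ ha hb => exact fun x hx => mul_assoc a b x ▸ ha _ (hb x hx)
  have h2 := h1 (y * x⁻¹) (hμ ▸ trivial) x hx
  rwa [inv_mul_cancel_right₀ h0] at h2

end Sg

variable {K V E : Type} [Field K] [Fintype K] [AddCommGroup V] [Module K V] [Finite V] [Field E] [Finite E] [Algebra K E]
  {h : HF K V} {F : FR h.EB} {m : ℕ}

/-- the form as a bilinear form -/
def bil (o : IsSp h F) : LinearMap.BilinForm K V :=
  LinearMap.mk₂ K h.b h.add_left h.smul_left h.add_right fun c u v => by rw [h.smul_right, o.1, smul_eq_mul]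

theorem bil_nd (o : IsSp h F) (v : V) (hv : ∀ w, bil o v w = 0) : v = 0 :=
  h.nondeg v fun w => by rw [h.swap v w, show h.b v w = 0 from hv w, map_zero, mul_zero]

variable (h) in
/-- a block -/
structure Blk (s : Sg K E m) (e : h.EB) where
  /-- the embedding -/
  φ : E →ₗ[K] V
  /-- the projection -/
  ψ : V →ₗ[K] E
  ψφ : ∀ x, ψ (φ x) = x
  φψ : ∀ v, φ (ψ v) = h.ap e v
  b : ∀ x y, h.b (φ x) (φ y) = s.B x y

theorem b_idem {e : h.EB} (hs : star e = e) (x y : V) : h.b (h.ap e x) y = h.b x (h.ap e y) := by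
  rw [← h.b_star, hs]

/-- the image of a symmetric idempotent is non-degenerate -/
theorem range_nd (o : IsSp h F) {e : h.EB} (hi : e * e = e) (hs : star e = e) (v : LinearMap.range (h.ap e))
    (hv : ∀ w : LinearMap.range (h.ap e), (bil o).restrict _ v w = 0) : v = 0 := by
  obtain ⟨_, v, rfl⟩ := v
  refine Subtype.ext (bil_nd o _ fun w => ?_)
  have h1 : h.b (h.ap e v) (h.ap e w) = 0 := hv ⟨_, w, rfl⟩
  rwa [← b_idem hs, ← h.ap_mul, hi] at h1

theorem even_rk (o : IsSp h F) {e : h.EB} (hi : e * e = e) (hs : star e = e) : Even (rk h e) :=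
  have : Module.Finite K V := Module.Finite.of_finite
  H727.GW.even_finrank _ _ ((bil o).restrict _) (fun x => o.2.1 x) (range_nd o hi hs) rfl

theorem exists_blk (o : IsSp h F) (s : Sg K E m) {e : h.EB} (hi : e * e = e) (hs : star e = e) (hr : rk h e = 2 * m) :
    Nonempty (Blk h s e) := by
  have : Module.Finite K V := Module.Finite.of_finite
  have : Module.Finite K E := Module.Finite.of_finite
  obtain ⟨f, hf⟩ := ClassicalGeometry.SympIso.exists_linearEquiv_sympForm ((bil o).restrict (LinearMap.range (h.ap e)))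
    (fun x => o.2.1 x) (range_nd o hi hs) hr
  obtain ⟨g, hg⟩ := ClassicalGeometry.SympIso.exists_linearEquiv_sympForm s.B s.B_self s.B_nd s.dim
  refine ⟨⟨(LinearMap.range (h.ap e)).subtype ∘ₗ (g.symm.trans f).toLinearMap,
    (f.symm.trans g).toLinearMap ∘ₗ (h.ap e).rangeRestrict, fun x => ?_, fun v => ?_, fun x y => ?_⟩⟩
  · have h1 : (h.ap e).rangeRestrict (f (g.symm x)) = f (g.symm x) := by
      obtain ⟨v, hv⟩ := (f (g.symm x)).2
      exact Subtype.ext (show h.ap e _ = _ by rw [← hv, ← h.ap_mul, hi])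
    change g (f.symm ((h.ap e).rangeRestrict (f (g.symm x)))) = x
    rw [h1, f.symm_apply_apply, g.apply_symm_apply]
  · change ((f (g.symm (g (f.symm ((h.ap e).rangeRestrict v)))) : LinearMap.range (h.ap e)) : V) = _
    rw [g.symm_apply_apply, f.apply_symm_apply]
    rfl
  · exact (hf _ _).trans ((hg _ _).symm.trans 
      (congrArg₂ (fun a b => s.B a b) (g.apply_symm_apply x) (g.apply_symm_apply y)))

namespace Blk

variable {s : Sg K E m} {e e' : h.EB} (b : Blk h s e)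

theorem inj {x y : E} (hxy : b.φ x = b.φ y) : x = y := by rw [← b.ψφ x, hxy, b.ψφ]

theorem ap_φ (x : E) : h.ap e (b.φ x) = b.φ x := by rw [← b.φψ, b.ψφ]

theorem ψ_zero {v : V} (hv : h.ap e v = 0) : b.ψ v = 0 := b.inj (by rw [b.φψ, hv, map_zero])

theorem ap_other (he : e' * e = 0) (x : E) : h.ap e' (b.φ x) = 0 := by
  rw [← b.ap_φ, ← h.ap_mul, he, SB.Tor.ap_zero]

theorem b_zero (hs : star e = e) (x : E) {v : V} (hv : h.ap e v = 0) : h.b (b.φ x) v = 0 := by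
  rw [← b.ap_φ, b_idem hs, hv, h.zero_right]

theorem b_zero' (hs : star e = e) (x : E) {v : V} (hv : h.ap e v = 0) : h.b v (b.φ x) = 0 := by
  rw [h.swap, b.b_zero hs x hv, map_zero, mul_zero]

end Blk

/-- the simple group does not preserve a frame -/
theorem not_inv {A : Type} [Ring A] [StarRing A] [Finite A] {F : FR A} {H : Subgroup (RingAut A)} {p : ℕ} (c : Ctx F H p)
    {D : Finset A} (hD : Fr D) : ¬ Inv F.S D := by
  intro hI
  have : Finite (RingAut A) := Finite.of_injective (fun γ : RingAut A => (γ : A → A)) DFunLike.coe_injective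
  obtain ⟨M, -, hM⟩ := Finite.exists_le_maximal (p := fun M : Subgroup (RingAut A) => M ≤ F.Aut ∧ ¬ F.S ≤ M)
    ⟨c.le, c.not_le⟩
  exact hD.not_le_stab NCTV.boxNC
    ⟨c.ss, c.span, c.simple, c.noncomm, hM.prop.1, hM.prop.2, fun M' h1 h2 h3 => hM.le_of_ge ⟨h2, h3⟩ h1⟩ (le_setStab hI)

end Cfsg.Agent.N2C.FrSp

private theorem dce_067223a98ef4 : _root_.True := by
  try have : _root_.True := by simp only [_root_.Cfsg.Agent.N2C.FrSp.Sg.δ.eq_1]
  exact _root_.True.intro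
end

-- part: N2/Cl/FrSp/Two
section
prune_inst 0x2520744474c002002018059673201c62f6000522006b84000ce00f040fc9ef4528c10f21b7f0341f52be19cd403800481104002002c209c00e3c8000013d04811c40100490484119620088000b0861a000009040300000000000000000010004200400000
set_option linter.all false
open scoped Cfsg.Agent.FastGrp

/-!
# N2 (S3519), symplectic groups: two blocks (helper79)

`a` = Singer element on the bigger block, the identity on the other one; `a` fixes one conjugate of `{e, 1 - e}`.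
-/

set_option autoImplicit false
set_option linter.unusedSectionVars false

namespace Cfsg.Agent.N2C.FrSp

open Cfsg.Agent.DS.Cl Cfsg.Agent.DS.Cl.Fwd Cfsg.Agent.SB.Cl Module
open Cfsg.Agent.TH.Cl (KSp)

variable {K V E : Type} [Field K] [Fintype K] [AddCommGroup V] [Module K V] [Finite V] [Field E] [Finite E] [Algebra K E]
  {h : HF K V} {F : FR h.EB} {m k p : ℕ} {H : Subgroup (RingAut h.EB)}

theorem rk_map [Nontrivial V] {γ : RingAut h.EB} (hγ : γ ∈ SAut h.EB) (e : h.EB) : rk h (γ e) = rk h e := by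
  have : Module.Finite K V := Module.Finite.of_finite
  obtain ⟨L⟩ := SB.Tor.exists_SL h hγ
  have h1 : Nat.card (LinearMap.range (h.ap e)) = Nat.card (LinearMap.range (h.ap (γ e))) :=
    Nat.card_congr (L.g.toEquiv.subtypeEquiv fun x => ⟨by
      rintro ⟨y, rfl⟩
      exact ⟨L.g y, L.conj e y⟩, by
      rintro ⟨y, hy⟩
      obtain ⟨y, rfl⟩ := L.g.surjective y
      exact ⟨y, L.g.injective ((L.conj e y).symm.trans hy)⟩⟩)
  rw [Module.natCard_eq_pow_finrank (K := K),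
    Module.natCard_eq_pow_finrank (K := K) (V := LinearMap.range (h.ap (γ e)))] at h1
  exact (Nat.pow_right_injective Finite.one_lt_card h1).symm

theorem eq_of_rk {e f : h.EB} (hi : e * e = e) (hs : star e = e) (hs' : star f = f) (hfe : f * e = e)
    (hr : rk h f ≤ rk h e) : f = e := by
  have : Module.Finite K V := Module.Finite.of_finite
  have h1 : LinearMap.range (h.ap e) = LinearMap.range (h.ap f) := Submodule.eq_of_le_of_finrank_le (by
    rintro _ ⟨v, rfl⟩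
    exact ⟨h.ap e v, by rw [← h.ap_mul, hfe]⟩) hr
  have h2 : e * f = f := h.ap_ext fun v => by
    obtain ⟨w, hw⟩ : h.ap f v ∈ LinearMap.range (h.ap e) := h1 ▸ ⟨v, rfl⟩
    rw [h.ap_mul, ← hw, ← h.ap_mul, hi]
  have h3 := congrArg star h2
  rwa [star_mul, hs, hs', hfe, eq_comm] at h3

theorem nontrivial (o : KSp h F k) : Nontrivial V :=
  Module.nontrivial_of_finrank_pos (R := K) (by have := o.two; rw [o.dim]; omega)

namespace Blk

variable {s : Sg K E m} {e : h.EB} (b : Blk h s e)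

/-- multiplication by `z` on the block, the identity on the complement -/
def one (z : E) : h.EB := h.eb (b.φ ∘ₗ LinearMap.mulLeft K z ∘ₗ b.ψ) + (1 - e)

theorem ap_one (z : E) (v : V) : h.ap (b.one z) v = b.φ (z * b.ψ v) + (v - h.ap e v) := rfl

theorem one_φ (z x : E) : h.ap (b.one z) (b.φ x) = b.φ (z * x) := by rw [ap_one, b.ψφ, b.ap_φ, sub_self, add_zero]

include b in
theorem ap_compl (v : V) : h.ap e (v - h.ap e v) = 0 := by rw [map_sub, ← b.φψ v, b.ap_φ, sub_self]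

theorem one_iso (hs : star e = e) {z : E} (hz : z * s.σ z = 1) (v w : V) :
    h.b (h.ap (b.one z) v) (h.ap (b.one z) w) = h.b v w := by
  have h1 : ∀ x y, h.b (b.φ x + (v - h.ap e v)) (b.φ y + (w - h.ap e w)) =
      s.B x y + h.b (v - h.ap e v) (w - h.ap e w) := fun x y => by
    rw [h.add_left, h.add_right, h.add_right, b.b, b.b_zero hs _ (b.ap_compl w), b.b_zero' hs _ (b.ap_compl v), add_zero,
      zero_add]
  have h2 := h1 (b.ψ v) (b.ψ w)
  rw [b.φψ, b.φψ, add_sub_cancel, add_sub_cancel] at h2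
  rw [ap_one, ap_one, h1, s.B_iso hz, h2]

theorem one_comm (z : E) : b.one z * e = e * b.one z := h.ap_ext fun v => by
  rw [h.ap_mul, h.ap_mul, ← b.φψ v, one_φ, ap_one, map_add, b.ap_φ, b.ap_compl, add_zero]

theorem one_mul (z z' : E) : b.one z * b.one z' = b.one (z * z') := h.ap_ext fun v => by
  rw [h.ap_mul, ap_one _ z', map_add, one_φ, ap_one, ap_one, b.ψ_zero (b.ap_compl v), b.ap_compl, mul_zero, map_zero,
    zero_add, sub_zero, mul_assoc]

/-- an idempotent commuting with a generator kills or fixes the block -/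
theorem idem_cases {μ : E} (hμ : Algebra.adjoin K {μ} = ⊤) (h1 : μ ≠ 1) {f : h.EB} (hf : f * f = f)
    (hc : b.one μ * f = f * b.one μ) : f * e = 0 ∨ f * e = e := by
  have h2 : ∀ v, h.ap (b.one μ) (h.ap f v) = h.ap f (h.ap (b.one μ) v) := fun v => by rw [← h.ap_mul, hc, h.ap_mul]
  have h3 : ∀ x, h.ap e (h.ap f (b.φ x)) = h.ap f (b.φ x) := fun x => by
    have h4 : b.φ x = h.ap (b.one μ) (b.φ ((μ - 1)⁻¹ * x)) - b.φ ((μ - 1)⁻¹ * x) := by
      rw [one_φ, ← map_sub, ← mul_assoc, ← sub_mul, ← sub_one_mul, mul_inv_cancel₀ (sub_ne_zero.2 h1), _root_.one_mul]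
    rw [h4, map_sub (h.ap f), ← h2, ap_one, add_sub_right_comm, add_sub, sub_add_cancel,
      ← b.φψ (h.ap f _), ← map_sub b.φ, b.ap_φ]
  by_cases h0 : ∃ x, x ≠ 0 ∧ h.ap f (b.φ x) = 0
  · obtain ⟨x, hx0, hx⟩ := h0
    refine Or.inl (h.ap_ext fun v => ?_)
    rw [h.ap_mul, ← b.φψ]
    exact Sg.irr hμ (LinearMap.ker (h.ap f ∘ₗ b.φ)) (fun y (hy : h.ap f (b.φ y) = 0) =>
      show h.ap f (b.φ (μ * y)) = 0 by rw [← one_φ, ← h2, hy, map_zero]) hx hx0 _
  · refine Or.inr (h.ap_ext fun v => ?_)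
    rw [h.ap_mul, ← b.φψ]
    generalize b.ψ v = x
    have h4 : b.φ (x - b.ψ (h.ap f (b.φ x))) = b.φ x - h.ap f (b.φ x) := by rw [map_sub, b.φψ, h3]
    have h5 : x - b.ψ (h.ap f (b.φ x)) = 0 := by
      by_contra h5
      exact h0 ⟨_, h5, by rw [h4, map_sub, ← h.ap_mul, hf, sub_self]⟩
    rw [h5, map_zero] at h4
    exact (sub_eq_zero.1 h4.symm).symm

end Blk

theorem fr_pair [DecidableEq h.EB] {e : h.EB} (h0 : e ≠ 0) (h1 : e ≠ 1) (hi : e * e = e) (hs : star e = e) :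
    Fr ({e, 1 - e} : Finset h.EB) := by
  have h2 : e * (1 - e) = 0 := by rw [mul_sub, mul_one, hi, sub_self]
  have h3 : (1 - e) * e = 0 := by rw [sub_mul, one_mul, hi, sub_self]
  have h4 : e ≠ 1 - e := fun h4 => h0 (by rw [← hi, ← h2, ← h4])
  refine ⟨(Finset.card_pair h4).ge, ?_, ?_, ?_, ?_, by rw [Finset.sum_pair h4, add_sub_cancel]⟩ <;>
    simp only [Finset.mem_insert, Finset.mem_singleton, forall_eq_or_imp, forall_eq]
  · exact ⟨h0, sub_ne_zero.2 h1.symm⟩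
  · exact ⟨hi, by rw [mul_sub, mul_one, h3, sub_zero]⟩
  · exact ⟨hs, by rw [star_sub, star_one, hs]⟩
  · exact ⟨⟨fun h5 => absurd rfl h5, fun _ => h2⟩, fun _ => h3, fun h5 => absurd rfl h5⟩

theorem two_big (o : KSp h F k) (c : Ctx F H p) {e : h.EB} (h0 : e ≠ 0) (h1 : e ≠ 1) (hi : e * e = e) (hs : star e = e)
    (hI : ∀ γ ∈ H, γ e = e ∨ γ e = 1 - e) (hr : rk h (1 - e) ≤ rk h e) (hm : rk h e = 2 * m)
    (h4 : 4 ≤ Fintype.card K ^ m) : Gd F H := by
  classical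
  have := nontrivial o
  have hmem : ∀ γ ∈ F.S, (γ e = e ∨ γ e = 1 - e) → γ ∈ H := by
    have h5 : ∀ γ : RingAut h.EB, (γ e = e ∨ γ e = 1 - e) → ∀ x ∈ (({e, 1 - e} : Finset h.EB) : Set h.EB),
        γ x ∈ (({e, 1 - e} : Finset h.EB) : Set h.EB) := fun γ hγ x hx => by
      simp only [Finset.coe_insert, Finset.coe_singleton, Set.mem_insert_iff, Set.mem_singleton_iff] at hx ⊢
      rcases hx with rfl | rfl
      · exact hγ
      · rw [map_sub, map_one]
        exact hγ.elim (fun h6 => Or.inr (by rw [h6])) fun h6 => Or.inl (by rw [h6, sub_sub_cancel])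
    exact fun γ hγ h6 => c.mem_of_inv (fun δ hδ => h5 δ (hI δ hδ)) (not_inv c (fr_pair h0 h1 hi hs)) hγ (h5 γ h6)
  obtain ⟨E, _, _, _, ⟨s⟩⟩ := exists_sg K (m := m) (Nat.pos_of_ne_zero fun h5 => by rw [h5, pow_zero] at h4; omega)
  obtain ⟨b⟩ := exists_blk o.sp s hi hs hm
  let u := SB.Tor.isoU h _ (b.one_iso hs s.lam_σ)
  have hu : cj h.EB u ∈ F.S := TH.Cl.cj_mem_S (o.mem_comm (mem_Iso_max o.sp.2.2 (SB.Tor.isoU_ms _ _ _)))
  refine N2.good_of_one (a := ⟨_, hu⟩) (hmem _ hu (Or.inl (cj_eq_of_mul (b.one_comm _)))) (N2.fx_le_one fun t ht => ?_)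
  have hS : (t : RingAut h.EB) ∈ SAut h.EB := F.Aut_le_SAut (F.S_le_Aut t.2)
  have h5 : cj h.EB u (cj h.EB u (t.1 e)) = t.1 e := by
    rcases hI _ ht with h6 | h6
    · have h7 : cj h.EB u (t.1 e) = t.1 e := (ra_apply_inv t.1 _).symm.trans (congrArg t.1 h6)
      rw [h7, h7]
    · have h7 : cj h.EB u (t.1 e) = 1 - t.1 e :=
        (ra_apply_inv t.1 _).symm.trans ((congrArg t.1 h6).trans (by rw [map_sub, map_one]))
      rw [h7, map_sub, map_one, h7, sub_sub_cancel]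
  have h6 : b.one (s.lam ^ 2) * t.1 e = t.1 e * b.one (s.lam ^ 2) := by
    have h7 := cj_mul_eq (u * u) (t.1 e)
    rw [map_mul, ra_mul, h5] at h7
    rw [pow_two, ← b.one_mul]
    exact h7.symm
  have h7 : star (t.1 e) = t.1 e := by rw [← hS, hs]
  refine hmem _ t.2 ?_
  rcases b.idem_cases (s.gen (Or.inr ⟨rfl, h4⟩)) (s.pow_ne two_ne_zero s.two_le) (by rw [← map_mul, hi]) h6 with h8 | h8
  · right
    have h9 := eq_of_rk (f := 1 - t.1 e) hi hs (by rw [star_sub, star_one, h7]) (by rw [sub_mul, one_mul, h8, sub_zero])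
      (by rw [← map_one t.1, ← map_sub, rk_map hS]; exact hr)
    exact eq_sub_of_add_eq' (sub_eq_iff_eq_add.1 h9).symm
  · exact Or.inl (eq_of_rk hi hs h7 h8 (rk_map hS e).le)

/-- **two blocks** -/
theorem two (o : KSp h F k) (hk : 3 ≤ k ∨ 4 ≤ Fintype.card K) (c : Ctx F H p) {e : h.EB} (h0 : e ≠ 0) (h1 : e ≠ 1)
    (hi : e * e = e) (hs : star e = e) (hI : ∀ γ ∈ H, γ e = e ∨ γ e = 1 - e) : Gd F H := by
  classical
  wlog hr : rk h (1 - e) ≤ rk h e generalizing e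
  · refine this (e := 1 - e) (sub_ne_zero.2 h1.symm) (fun h2 => h0 (sub_eq_self.1 h2))
      (by rw [mul_sub, mul_one, sub_mul, one_mul, hi, sub_self, sub_zero]) (by rw [star_sub, star_one, hs])
      (fun γ hγ => ?_) (by rw [sub_sub_cancel]; omega)
    rw [map_sub, map_one]
    exact (hI γ hγ).imp (fun h2 => by rw [h2]) fun h2 => by rw [h2]
  obtain ⟨m, hm⟩ := even_rk o.sp hi hs
  have hD := fr_pair h0 h1 hi hs
  have h2 := SB.Tor.finrank_le_sum h hD.sum
  rw [Finset.sum_pair (fun h3 => h0 (by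
    rw [← hi]; nth_rewrite 2 [h3]; rw [mul_sub, mul_one, hi, sub_self])), o.dim] at h2
  have hq : 2 ≤ Fintype.card K := Fintype.one_lt_card
  have := o.two
  refine two_big o c h0 h1 hi hs hI hr (m := m) (by omega) ?_
  rcases hk with hk | hk
  · exact le_trans (Nat.pow_le_pow_left hq 2) (Nat.pow_le_pow_right (by omega) (by omega))
  · exact hk.trans (Nat.le_self_pow (by omega) _)

end Cfsg.Agent.N2C.FrSp

namespace Cfsg.Agent.N2C

/-- [FixSp] -/
theorem fixSp : OnSp 3 pFix := fun _ _ _ _ _ _ _ _ _ _ _ _ o hk c ⟨_, h0, h1, hi, hs, hI⟩ =>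
  FrSp.two o (Or.inl hk) c h0 h1 hi hs fun γ hγ => Or.inl (hI γ hγ)

end Cfsg.Agent.N2C
end

-- part: N2/Cl/Cases/Main
section
prune_inst 0x520344450c002002018058471201c46d60001b2006b84001cc00e40078aff04a0800f61b5f0381e52ba034d403100681304002040e209c0043c0800013900a0984000049008ec1956000f000b8c61a000009040300000000000000000051004000400000
set_option linter.all false
open scoped Cfsg.Agent.FastGrp

-- part: N2/Cl/Cases/Gal
section
/-!
# N2, classical socles: a proper form of a star-simple ring is fixed by a field or graph automorphism (helper48)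
-/

set_option autoImplicit false

namespace Cfsg.Agent.N2C.Cases

open Cfsg Cfsg.Agent.DS.Cl

section fld

variable {A : Type} [Ring A] [Finite A]

/-- a subfield -/
structure Fl (Z : Subring A) : Prop where
  comm : ∀ x ∈ Z, ∀ y ∈ Z, x * y = y * x
  unit : ∀ x ∈ Z, x ≠ 0 → IsUnit x

theorem Fl.isField [Nontrivial A] {Z : Subring A} (h : Fl Z) : IsField Z := by
  let : CommRing Z := { (inferInstance : Ring Z) with mul_comm := fun x y => Subtype.ext (h.comm x x.2 y y.2) }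
  have : NoZeroDivisors Z := ⟨fun {x y} hxy => by
    by_cases hx : x = 0
    · exact Or.inl hx
    · exact Or.inr (Subtype.ext ((h.unit x x.2 fun e => hx (Subtype.ext e)).mul_right_eq_zero.1
        (congrArg Subtype.val hxy)))⟩
  have : IsDomain Z := NoZeroDivisors.to_isDomain Z
  exact Finite.isField_of_domain Z

theorem Fl.card_pow [Nontrivial A] {Z : Subring A} (h : Fl Z) {p : ℕ} (hp : p.Prime) (h0 : (p : A) = 0) :
    ∃ k, k ≠ 0 ∧ Nat.card Z = p ^ k ∧ ∀ x ∈ Z, x ^ p ^ k = x := by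
  let := h.isField.toField
  have := Fintype.ofFinite Z
  have : CharP Z p := (CharP.charP_iff_prime_eq_zero hp).2 (Subtype.ext (by simpa using h0))
  obtain ⟨k, -, hk⟩ := FiniteField.card Z p
  refine ⟨k, k.ne_zero, by rw [Nat.card_eq_fintype_card, hk], fun x hx => ?_⟩
  have h1 := FiniteField.pow_card (⟨x, hx⟩ : Z)
  rw [hk] at h1
  exact congrArg Subtype.val h1

open Polynomial in
theorem Fl.card_le [Nontrivial A] {Z : Subring A} (h : Fl Z) {q : ℕ} (hq : 1 < q) (hx : ∀ x ∈ Z, x ^ q = x) :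
    Nat.card Z ≤ q := by
  let := h.isField.toField
  have := Fintype.ofFinite Z
  have h1 := card_le_degree_of_subset_roots (p := (X ^ q - X : Z[X])) (Z := Finset.univ) fun x _ => by
    rw [mem_roots (FiniteField.X_pow_card_sub_X_ne_zero Z hq), IsRoot, eval_sub, eval_pow, eval_X, sub_eq_zero]
    exact Subtype.ext (hx x x.2)
  rwa [FiniteField.X_pow_card_sub_X_natDegree_eq Z hq, Finset.card_univ, ← Nat.card_eq_fintype_card] at h1

theorem le_of_card {Z Z' : Subring A} (h : Z ≤ Z') (hc : Nat.card Z' ≤ Nat.card Z) : Z' ≤ Z :=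
  (Set.eq_of_subset_of_ncard_le (s := (Z : Set A)) (t := (Z' : Set A)) h hc).ge

theorem inv_mem_sub {Z : Subring A} {x : A} (hx : x ∈ Z) (hu : IsUnit x) : ∃ y ∈ Z, x * y = 1 := by
  obtain ⟨u, rfl⟩ := hu
  refine ⟨(u : A) ^ (orderOf u - 1), Z.pow_mem hx _, ?_⟩
  rw [← pow_succ', Nat.sub_add_cancel (orderOf_pos u), ← Units.val_pow_eq_pow_val, pow_orderOf_eq_one, Units.val_one]

end fld

section mu

variable {A : Type} [Ring A] {n : ℕ} {E : Fin n → Fin n → A}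

theorem coef_mul' (h : MU0 E) (a b : A) (i j : Fin n) : coef E (a * b) i j = ∑ m, coef E a i m * coef E b m j := by
  have h1 : ∀ m, coef E a i m * coef E b m j = ∑ k, E k i * a * E m m * b * E j k := fun m => by
    rw [show coef E b m j = ∑ k, E k m * b * E j k from rfl, Finset.mul_sum]
    exact Finset.sum_congr rfl fun k _ => by rw [← mul_assoc, ← mul_assoc, h.coef_mul]
  simp only [h1]
  rw [Finset.sum_comm]
  refine Finset.sum_congr rfl fun k _ => ?_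
  rw [← Finset.sum_mul, ← Finset.sum_mul, ← Finset.mul_sum, h.sum, mul_one, ← mul_assoc]

theorem coef_add' (a b : A) (i j : Fin n) : coef E (a + b) i j = coef E a i j + coef E b i j := by
  simp only [coef, mul_add, add_mul, Finset.sum_add_distrib]

theorem coef_neg' (a : A) (i j : Fin n) : coef E (-a) i j = -coef E a i j := by
  simp only [coef, mul_neg, neg_mul, Finset.sum_neg_distrib]

theorem coef_cen' (h : MU0 E) {c : A} (hc : c ∈ Subring.center A) (i j : Fin n) :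
    coef E c i j = if i = j then c else 0 := by
  have h1 : ∀ k, E k i * c * E j k = c * if i = j then E k k else 0 := fun k => by
    rw [cen_comm hc, mul_assoc, h.mul]
  simp only [coef, h1]
  split_ifs
  · rw [← Finset.mul_sum, h.sum, mul_one]
  · simp

end mu

variable {A : Type} [Ring A] [StarRing A]

/-- an endomorphism of the centre which commutes with `star` and fixes `D` -/
structure Sg (D : Subring A) (σ : A → A) : Prop where
  cen : ∀ c ∈ Subring.center A, σ c ∈ Subring.center A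
  add : ∀ c ∈ Subring.center A, ∀ d ∈ Subring.center A, σ (c + d) = σ c + σ d
  mul : ∀ c ∈ Subring.center A, ∀ d ∈ Subring.center A, σ (c * d) = σ c * σ d
  st : ∀ c ∈ Subring.center A, σ (star c) = star (σ c)
  fix : ∀ d ∈ D, σ d = d

theorem Sg.sum {D : Subring A} {σ : A → A} (h : Sg D σ) {ι : Type} (s : Finset ι) {f : ι → A}
    (hf : ∀ i, f i ∈ Subring.center A) : σ (∑ i ∈ s, f i) = ∑ i ∈ s, σ (f i) := by
  classical
  induction s using Finset.induction_on with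
  | empty => simpa using h.fix 0 D.zero_mem
  | insert a s ha ih =>
    rw [Finset.sum_insert ha, Finset.sum_insert ha, h.add _ (hf a) _ (Subring.sum_mem _ fun i _ => hf i), ih]

theorem sg_pow [Nontrivial A] {p : ℕ} (hp : p.Prime) (h0 : (p : A) = 0) {k : ℕ} {D : Subring A}
    (h : ∀ x ∈ D, x ^ p ^ k = x) : Sg D fun x => x ^ p ^ k := by
  have : Fact p.Prime := ⟨hp⟩
  have : CharP A p := (CharP.charP_iff_prime_eq_zero hp).2 h0
  exact ⟨fun c hc => Subring.pow_mem _ hc _, fun c _ d hd => add_pow_char_pow_of_commute p k (cen_comm hd c),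
    fun c _ d hd => Commute.mul_pow (cen_comm hd c) _, fun c _ => (star_pow c _).symm, h⟩

variable [Finite A]

theorem fl_C0 (ss : SS A) {D : Subring A} (h : D ≤ C0 A) : Fl D :=
  ⟨fun x _ _ hy => cen_comm (h hy).1 x, fun _ hx => ss.isUnit_of_cen (h hx).1 (h hx).2⟩

omit [Finite A] in
theorem eps_tr {ε c : A} (hε : Eps ε) (hc : c ∈ Subring.center A) :
    ε * c + star (ε * c) ∈ C0 A ∧ ε * (ε * c + star (ε * c)) = ε * c := by
  have h0 := Subring.mul_mem _ hε.cen hc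
  refine ⟨⟨Subring.add_mem _ h0 (star_cen h0), by rw [star_add, star_star, add_comm]⟩, ?_⟩
  rw [mul_add, star_mul, ← mul_assoc, hε.idem, ← mul_assoc, ← hε.comm (star c), mul_assoc, hε.ms, mul_zero, add_zero]

/-- a star-closed subring of the centre without the split idempotents is a field -/
theorem fl_of_not (ss : SS A) {D : Subring A} (hD : D ≤ Subring.center A) (hs : ∀ x ∈ D, star x ∈ D)
    (h : ∀ ε, Eps ε → ε ∉ D) : Fl D := by
  refine ⟨fun x _ _ hy => cen_comm (hD hy) x, fun x hx h0 => ?_⟩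
  by_cases hε : ∃ ε : A, Eps ε
  · have key : ∀ ε : A, Eps ε → ε * x ≠ 0 := fun ε hε h1 => by
      have h2 : star ε * x = x := by rw [hε.star_eq, sub_mul, one_mul, h1, sub_zero]
      obtain ⟨h3, h4⟩ := eps_tr hε.st (hD hx)
      rw [h2] at h3 h4
      obtain ⟨y, hy, h5⟩ := inv_mem_sub (D.add_mem hx (hs x hx)) (ss.isUnit_of_cen h3.1 h3.2 fun e => h0 (by
        rw [← h4, e, mul_zero]))
      refine h _ hε.st ?_
      rw [← mul_one (star ε), ← h5, ← mul_assoc, h4]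
      exact D.mul_mem hx hy
    obtain ⟨ε, hε⟩ := hε
    obtain ⟨d, -, h1⟩ := ss.eps_inv hε (hD hx) (key ε hε)
    obtain ⟨d', -, h2⟩ := ss.eps_inv hε.st (hD hx) (key _ hε.st)
    have h3 : (d + d') * x = 1 := by rw [add_mul, h1, h2, hε.add]
    exact ⟨⟨x, d + d', by rw [← cen_comm (hD hx), h3], h3⟩, rfl⟩
  · exact ss.isUnit_of_not_eps hε (hD hx) h0

/-- the exchange of the two factors over a diagonal field -/
theorem sg_swap (ss : SS A) {D : Subring A} (hD : D ≤ Subring.center A) (hs : ∀ x ∈ D, star x ∈ D) (hf : Fl D)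
    (hc : Nat.card (C0 A) ≤ Nat.card D) {ε : A} (hε : Eps ε) : ∃ σ, Sg D σ ∧ σ ε ≠ ε := by
  have := ss.nontrivial
  have inj : ∀ η : A, Eps η → ∀ a ∈ D, ∀ b ∈ D, η * a = η * b → a = b := fun η hη a ha b hb e => by
    by_contra hne
    refine hη.ne_zero ((hf.unit _ (D.sub_mem ha hb) (sub_ne_zero.2 hne)).mul_left_eq_zero.1 ?_)
    rw [mul_sub, e, sub_self]
  have sur : ∀ η : A, Eps η → ∀ c, ∃ a ∈ D, c ∈ Subring.center A → η * a = η * c := fun η hη c => by
    by_cases hcc : c ∈ Subring.center A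
    swap
    · exact ⟨0, D.zero_mem, fun h => absurd h hcc⟩
    let f : D → C0 A := fun a => ⟨η * a + star (η * a), (eps_tr hη (hD a.2)).1⟩
    have h1 : Function.Injective f := fun a b e => Subtype.ext (inj η hη a a.2 b b.2 (by
      rw [← (eps_tr hη (hD a.2)).2, ← (eps_tr hη (hD b.2)).2]
      exact congrArg (fun x : C0 A => η * (x : A)) e))
    obtain ⟨a, ha⟩ := (h1.bijective_of_nat_card_le hc).2 ⟨_, (eps_tr hη hcc).1⟩
    refine ⟨a, a.2, fun _ => ?_⟩
    rw [← (eps_tr hη (hD a.2)).2, ← (eps_tr hη hcc).2]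
    exact congrArg (fun x : C0 A => η * (x : A)) ha
  choose r hr hr' using sur
  have radd : ∀ η (hη : Eps η), ∀ c ∈ Subring.center A, ∀ d ∈ Subring.center A,
      r η hη (c + d) = r η hη c + r η hη d := fun η hη c hc d hd =>
    inj η hη _ (hr _ _ _) _ (D.add_mem (hr _ _ _) (hr _ _ _)) (by
      rw [mul_add, hr' _ _ _ hc, hr' _ _ _ hd, hr' _ _ _ (Subring.add_mem _ hc hd), mul_add])
  have rmul : ∀ η (hη : Eps η), ∀ c ∈ Subring.center A, ∀ d ∈ Subring.center A,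
      r η hη (c * d) = r η hη c * r η hη d := fun η hη c hc d hd =>
    inj η hη _ (hr _ _ _) _ (D.mul_mem (hr _ _ _) (hr _ _ _)) (by
      rw [← mul_assoc, hr' _ _ _ hc, ← hη.comm c, mul_assoc, hr' _ _ _ hd, hr' _ _ _ (Subring.mul_mem _ hc hd),
        ← mul_assoc, ← mul_assoc, hη.comm c])
  have rfix : ∀ η (hη : Eps η), ∀ d ∈ D, r η hη d = d := fun η hη d hd =>
    inj η hη _ (hr _ _ _) _ hd (hr' _ _ _ (hD hd))
  have rst : ∀ η (hη : Eps η) η' (hη' : Eps η'), η' = star η → ∀ c ∈ Subring.center A,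
      r η' hη' (star c) = star (r η hη c) := fun η hη η' hη' e c hc =>
    inj η' hη' _ (hr _ _ _) _ (hs _ (hr _ _ _)) (by
      rw [hr' _ _ _ (star_cen hc), e, ← star_mul, ← star_mul, hη.comm, hη.comm, hr' _ _ _ hc])
  refine ⟨fun c => ε * r _ hε.st c + star ε * r _ hε c, ⟨fun c _ => Subring.add_mem _
    (Subring.mul_mem _ hε.cen (hD (hr _ _ _))) (Subring.mul_mem _ hε.st.cen (hD (hr _ _ _))), fun c hc d hd => ?_,
    fun c hc d hd => ?_, fun c hc => ?_, fun d hd => ?_⟩, fun e => ?_⟩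
  · rw [radd _ _ c hc d hd, radd _ _ c hc d hd, mul_add, mul_add]
    abel
  · have h1 : ∀ η η' : A, Eps η' → ∀ x y : A, η * x * (η' * y) = η * η' * (x * y) := fun η η' hη x y => by
      rw [mul_assoc, ← mul_assoc x, hη.comm, mul_assoc, mul_assoc]
    rw [rmul _ _ c hc d hd, rmul _ _ c hc d hd, add_mul, mul_add, mul_add, h1 _ _ hε, h1 _ _ hε, h1 _ _ hε.st,
      h1 _ _ hε.st, hε.idem, hε.st.idem, hε.ms, hε.sm, zero_mul, zero_mul, add_zero, zero_add]
  · rw [rst ε hε _ hε.st rfl c hc, rst _ hε.st ε hε (star_star ε).symm c hc, star_add, star_mul, star_mul, star_star,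
      hε.comm, hε.st.comm, add_comm]
  · rw [rfix _ _ d hd, rfix _ _ d hd, ← hε.split]
  · have h1 : r _ hε.st ε = 0 := inj _ hε.st _ (hr _ _ _) _ D.zero_mem (by rw [hr' _ _ _ hε.cen, hε.sm, mul_zero])
    have h2 := congrArg (ε * ·) e
    simp only [h1, mul_zero, zero_add, ← mul_assoc, hε.ms, zero_mul, hε.idem] at h2
    exact hε.ne_zero h2.symm

/-- Galois theory of the centre -/
theorem exists_sg (ss : SS A) {p : ℕ} (hp : p.Prime) (h0 : (p : A) = 0) {D : Subring A} (hD : D ≤ Subring.center A)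
    (hs : ∀ x ∈ D, star x ∈ D) (hne : ¬ Subring.center A ≤ D) : ∃ σ, Sg D σ ∧ ∃ c ∈ Subring.center A, σ c ≠ c := by
  have := ss.nontrivial
  by_contra hcon
  have H : ∀ σ, Sg D σ → ∀ c ∈ Subring.center A, σ c = c := fun σ hσ c hc =>
    not_not.1 fun h => hcon ⟨σ, hσ, c, hc, h⟩
  have : Fact p.Prime := ⟨hp⟩
  by_cases h1 : ∃ ε, Eps ε ∧ ε ∈ D
  · obtain ⟨ε, hε, h1⟩ := h1
    obtain ⟨k, hk, h2, h3⟩ := (fl_C0 ss (D := D ⊓ C0 A) inf_le_right).card_pow hp h0
    have s0 := sg_pow hp h0 h3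
    have hq : p ^ k ≠ 0 := pow_ne_zero _ hp.ne_zero
    have h4 : ∀ η, Eps η → η ∈ D → ∀ x ∈ D, (η * x) ^ p ^ k = η * x := fun η hη h5 x hx => by
      obtain ⟨h6, h7⟩ := eps_tr hη (hD hx)
      rw [← h7, Commute.mul_pow (hη.comm _).symm, h3 _ ⟨D.add_mem (D.mul_mem h5 hx) (hs _ (D.mul_mem h5 hx)), h6⟩,
        IsIdempotentElem.pow_eq hη.idem hq]
    have h5 := H _ (sg_pow hp h0 (D := D) (k := k) fun x hx => by
      have h6 := s0.add _ (Subring.mul_mem _ hε.cen (hD hx)) _ (Subring.mul_mem _ hε.st.cen (hD hx))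
      rwa [h4 _ hε h1 x hx, h4 _ hε.st (hs _ h1) x hx, ← hε.split] at h6)
    have h6 : C0 A ≤ D ⊓ C0 A := le_of_card inf_le_right (h2 ▸ (fl_C0 ss le_rfl).card_le
      (Nat.one_lt_pow hk hp.one_lt) fun x hx => h5 x hx.1)
    refine hne fun c hc => ?_
    obtain ⟨c₁, h₁, c₂, h₂, rfl⟩ := hε.cen_split hc
    exact D.add_mem (D.mul_mem h1 (h6 h₁).1) (D.mul_mem (hs _ h1) (h6 h₂).1)
  have hf := fl_of_not ss hD hs fun ε hε h => h1 ⟨ε, hε, h⟩
  obtain ⟨k, hk, h2, h3⟩ := hf.card_pow hp h0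
  have h5 := H _ (sg_pow hp h0 h3)
  by_cases hε : ∃ ε : A, Eps ε
  · obtain ⟨ε, hε⟩ := hε
    obtain ⟨σ, hσ, h6⟩ := sg_swap ss hD hs hf (h2 ▸ (fl_C0 ss le_rfl).card_le
      (Nat.one_lt_pow hk hp.one_lt) fun x hx => h5 x hx.1) hε
    exact h6 (H σ hσ ε hε.cen)
  · exact hne (le_of_card hD (h2 ▸ Fl.card_le ⟨fun x _ _ hy => cen_comm hy x, fun _ => ss.isUnit_of_not_eps hε⟩
      (Nat.one_lt_pow hk hp.one_lt) h5))

/-- **a proper form of `A` is fixed by a non-trivial automorphism** -/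
theorem exists_aut (ss : SS A) {p : ℕ} (hp : p.Prime) (h0 : (p : A) = 0) {B : Subring A} {hs : ∀ x ∈ B, star x ∈ B}
    (hB : SS (Blk.ofSubring B hs).T) (hgen : Subring.closure ((Subring.center A : Set A) ∪ B) = ⊤) (hne : B ≠ ⊤) :
    ∃ φ ∈ SAut A, φ ≠ 1 ∧ ∀ b ∈ B, φ b = b := by
  have := ss.nontrivial
  obtain ⟨n, E, hE, hEm, hEc⟩ := exists_mu_sub hB
  have hcB : ∀ b ∈ B, ∀ i j, coef E b i j ∈ B ⊓ Subring.center A := fun b hb i j =>
    ⟨coef_mem hEm hb i j, cen_of_comm hgen (hEc _ (coef_mem hEm hb i j) (hE.coef_comm b i j))⟩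
  have hcc : ∀ c ∈ Subring.center A, ∀ i j, coef E c i j ∈ Subring.center A := fun c hc i j => by
    rw [coef_cen' hE hc]
    split_ifs
    exacts [hc, Subring.zero_mem _]
  have hc : ∀ a i j, coef E a i j ∈ Subring.center A := fun a => by
    have ha : a ∈ Subring.closure ((Subring.center A : Set A) ∪ B) := hgen ▸ Subring.mem_top a
    induction ha using Subring.closure_induction with
    | mem x hx => exact hx.elim (hcc x) fun hx i j => (hcB x hx i j).2
    | zero => exact hcc 0 (Subring.zero_mem _)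
    | one => exact hcc 1 (Subring.one_mem _)
    | add x y _ _ hx hy => exact fun i j => coef_add' x y i j ▸ Subring.add_mem _ (hx i j) (hy i j)
    | neg x _ hx => exact fun i j => coef_neg' x i j ▸ Subring.neg_mem _ (hx i j)
    | mul x y _ _ hx hy =>
      exact fun i j => coef_mul' hE x y i j ▸ Subring.sum_mem _ fun m _ => Subring.mul_mem _ (hx i m) (hy m j)
  obtain ⟨σ, hσ, c, hcm, hcne⟩ := exists_sg ss hp h0 (D := B ⊓ Subring.center A) inf_le_right
    (fun x hx => ⟨hs x hx.1, star_cen hx.2⟩) fun h => hne (by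
      rw [eq_top_iff, ← hgen, Subring.closure_le]
      exact Set.union_subset (fun x hx => (h hx).1) le_rfl)
  let g : A → A := fun a => ∑ i, ∑ j, σ (coef E a i j) * E i j
  have gB : ∀ b ∈ B, g b = b := fun b hb => by
    simp only [g, fun i j => hσ.fix _ (hcB b hb i j)]
    exact (hE.expand b).symm
  have gC : ∀ c ∈ Subring.center A, g c = σ c := fun c hc => by
    have h1 : ∀ i j, σ (coef E c i j) * E i j = if i = j then σ c * E i i else 0 := fun i j => by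
      rw [coef_cen' hE hc]
      split_ifs with e
      · rw [e]
      · rw [hσ.fix 0 (Subring.zero_mem _), zero_mul]
    simp only [g, h1, Finset.sum_ite_eq, Finset.mem_univ, if_true]
    rw [← Finset.mul_sum, hE.sum, mul_one]
  let f : A →+* A :=
    { toFun := g
      map_one' := gB 1 B.one_mem
      map_zero' := gB 0 B.zero_mem
      map_add' := fun a b => by
        simp only [g, coef_add', hσ.add _ (hc _ _ _) _ (hc _ _ _), add_mul, Finset.sum_add_distrib]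
      map_mul' := fun a b => by
        have h1 : ∀ i j k l, σ (coef E a i j) * E i j * (σ (coef E b k l) * E k l) =
            if j = k then σ (coef E a i j) * σ (coef E b j l) * E i l else 0 := fun i j k l => by
          rw [mul_assoc, ← mul_assoc (E i j), cen_comm (hσ.cen _ (hc b k l)), mul_assoc, hE.mul]
          split_ifs with e
          · rw [e, mul_assoc]
          · rw [mul_zero, mul_zero]
        have h2 : ∀ i l, σ (coef E (a * b) i l) = ∑ j, σ (coef E a i j) * σ (coef E b j l) := fun i l => by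
          rw [coef_mul' hE, hσ.sum _ fun m => Subring.mul_mem _ (hc _ _ _) (hc _ _ _)]
          exact Finset.sum_congr rfl fun m _ => hσ.mul _ (hc _ _ _) _ (hc _ _ _)
        have h3 : ∀ i j, σ (coef E a i j) * E i j * g b = ∑ l, σ (coef E a i j) * σ (coef E b j l) * E i l :=
          fun i j => by
            simp only [g, Finset.mul_sum, h1]
            rw [Finset.sum_comm]
            simp only [Finset.sum_ite_eq, Finset.mem_univ, if_true]
        rw [show g a = ∑ i, ∑ j, σ (coef E a i j) * E i j from rfl]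
        simp only [Finset.sum_mul, h3]
        simp only [g, h2, Finset.sum_mul]
        exact Finset.sum_congr rfl fun i _ => Finset.sum_comm }
  have hst : ∀ a, f (star a) = star (f a) := fun a => by
    have ha : a ∈ Subring.closure ((Subring.center A : Set A) ∪ B) := hgen ▸ Subring.mem_top a
    induction ha using Subring.closure_induction with
    | mem x hx =>
      rcases hx with hx | hx
      · exact (gC _ (star_cen hx)).trans ((hσ.st x hx).trans (congrArg star (gC x hx).symm))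
      · exact (gB _ (hs x hx)).trans (congrArg star (gB x hx).symm)
    | zero => simp
    | one => simp
    | add x y _ _ hx hy => rw [star_add, map_add, map_add, hx, hy, star_add]
    | neg x _ hx => rw [star_neg, map_neg, map_neg, hx, star_neg]
    | mul x y _ _ hx hy => rw [star_mul, map_mul, map_mul, hx, hy, star_mul]
  have hinj : Function.Injective f := by
    rw [RingHom.injective_iff_ker_eq_bot]
    refine (ss.eq_bot_or_top (I := RingHom.ker f) (fun x hx a => Ideal.mul_mem_right a _ hx) fun x hx => ?_).resolve_right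
      (RingHom.ker_ne_top f)
    rw [RingHom.mem_ker] at hx ⊢
    rw [hst, hx, star_zero]
  refine ⟨RingEquiv.ofBijective f ⟨hinj, Finite.surjective_of_injective hinj⟩, hst, fun e => hcne ?_, gB⟩
  exact (gC c hcm).symm.trans (DFunLike.congr_fun e c)

end Cfsg.Agent.N2C.Cases
end

-- part: N2/Cl/Cases/Main
section
/-!
# N2, classical socles: Aschbacher's case division `BoxCases` (helper48)
-/

set_option autoImplicit false

namespace Cfsg.Agent.N2C

open Cfsg Cfsg.Agent.DS Cfsg.Agent.H936 Cfsg.Agent.DS.Cl Cfsg.Agent.DS.Cl.Main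
open Cfsg.Agent.SB.Cl (ComSub)
open Cfsg.Agent.TH.Cl (ParD NSD Irr1 Irr2 FldD TenD ExD SimD)
open scoped commutatorElement

namespace Cases

variable {A : Type} [Ring A] [StarRing A] [Finite A] {F : FR A} {M N : Subgroup (RingAut A)}

/-- the reducible case -/
theorem red (ss : SS A) (hle : M ≤ F.Aut) (hD : ¬ FixD M) (hI : ¬ Irr M) : ParD F M ∨ NSD F M := by
  classical
  have := ss.nontrivial
  have hS : M ≤ SAut A := hle.trans F.Aut_le_SAut
  obtain ⟨R, hR, hR2⟩ : ∃ R : Ideal A, Inv M R ∧ ¬ Two R := by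
    by_contra hcon
    exact hI fun R hR => not_not.1 fun h1 => hcon ⟨R, hR, h1⟩
  have hT : ∀ x ∈ R ⊓ perp R, ∀ y ∈ R ⊓ perp R, x * star y = 0 := fun x hx y hy => hy.2 x hx.1
  have hTi : Inv M (R ⊓ perp R : Ideal A) := fun γ hγ x hx => ⟨hR γ hγ x hx.1, inv_perp hS hR γ hγ x hx.2⟩
  by_cases h0 : R ⊓ perp R = ⊥
  · obtain ⟨f, hf, hs, hi, h1⟩ := exists_symm_idem ss h0
    refine absurd ⟨f, fun e => hR2 fun x hx a => ?_, fun e => hR2 fun x _ a => ?_, hi, hs, fun γ hγ => ?_⟩ hD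
    · rw [← h1 x hx, e, mul_zero, zero_mul]
      exact R.zero_mem
    · rw [← mul_one (x * a), ← e]
      exact R.mul_mem_left _ hf
    · have h4 := congrArg γ (h1 _ (hR _ (inv_mem hγ) f hf))
      rw [map_mul, ra_apply_inv] at h4
      have h5 := congrArg star h4
      rw [star_mul, ← hS hγ, hs, h1 _ (hR γ hγ f hf)] at h5
      exact h5
  by_cases h1 : sing F _ hT = ⊥
  · refine Or.inr ⟨_, h0, hTi, hT, fun x hx hx' => ?_⟩
    have h2 : x ∈ sing F _ hT := ⟨hx, hx'⟩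
    rwa [h1] at h2
  refine Or.inl ⟨_, h1, fun γ hγ x hx => ⟨hTi γ hγ x hx.1, ?_⟩, fun x hx y hy => hT x hx.1 y hy.1,
    fun x hx => hx.2, fun h2 => ?_⟩
  · have h2 := F.L.sub_mem (F.map_mem (hS hγ) hx.2) (F.conj_mem (hle hγ).2 (γ x))
    convert h2 using 1
    rw [map_mul, map_mul, hS hγ]
    noncomm_ring
  · rcases ss.two_cases (I := sing F _ hT) h2 with h3 | h3 | ⟨ε, hε, h3⟩
    · exact h1 h3
    · have h4 : (1 : A) ∈ sing F _ hT := by rw [h3]; trivial
      simpa using hT 1 h4.1 1 h4.1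
    · have h4 := ((h3 ε).2 hε.idem).1
      refine hR2 fun x hx a => ?_
      have h5 := h4.2 x hx
      rw [hε.star_eq, mul_sub, mul_one, sub_eq_zero] at h5
      rw [h5, mul_assoc, ← hε.comm, ← mul_assoc]
      exact R.mul_mem_left _ h4.1

omit [Finite A] in
/-- without a fixed idempotent, invariant frames are permuted transitively -/
theorem trans_of (hD : ¬ FixD M) {D : Finset A} (h : Fr D) (hi : Inv M D) : ∀ e ∈ D, ∀ e' ∈ D, ∃ γ ∈ M, γ e = e' := by
  classical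
  intro e he e' he'
  by_contra hcon
  let O : Finset A := D.filter fun x => ∃ γ ∈ M, γ e = x
  have hO : ∀ x, x ∈ O ↔ x ∈ D ∧ ∃ γ ∈ M, γ e = x := fun x => Finset.mem_filter
  have h1 : ∀ x ∈ O, x * ∑ y ∈ O, y = x := fun x hx => by
    rw [Finset.mul_sum, Finset.sum_eq_single x (fun y hy e => h.orth x ((hO x).1 hx).1 y ((hO y).1 hy).1 e.symm)
      fun h => absurd hx h]
    exact h.idem x ((hO x).1 hx).1
  have h2 : ∀ γ ∈ M, ∀ x ∈ O, γ x ∈ O := fun γ hγ x hx => by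
    obtain ⟨h3, δ, hδ, rfl⟩ := (hO x).1 hx
    exact (hO _).2 ⟨hi γ hγ _ h3, γ * δ, mul_mem hγ hδ, rfl⟩
  refine hD ⟨∑ y ∈ O, y, fun h0 => h.ne e he ?_, fun h0 => h.ne e' he' ?_, ?_, ?_, fun γ hγ => ?_⟩
  · rw [← h1 e ((hO e).2 ⟨he, 1, one_mem _, rfl⟩), h0, mul_zero]
  · rw [← mul_one e', ← h0, Finset.mul_sum]
    exact Finset.sum_eq_zero fun y hy => h.orth e' he' y ((hO y).1 hy).1 fun e => hcon (e ▸ ((hO y).1 hy).2)
  · rw [Finset.sum_mul]
    exact Finset.sum_congr rfl h1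
  · rw [star_sum]
    exact Finset.sum_congr rfl fun y hy => h.symm y ((hO y).1 hy).1
  · rw [map_sum]
    exact Finset.sum_nbij' γ (fun x => γ⁻¹ x) (h2 γ hγ) (h2 _ (inv_mem hγ)) (fun x _ => ra_inv_apply γ x)
      (fun x _ => ra_apply_inv γ x) fun _ _ => rfl

section lft

omit [Finite A]

theorem lft_le : lft F N ≤ N.comap (cj A) ⊓ F.Iso := dS_le (N.comap (cj A) ⊓ F.Iso) 1

theorem exists_lft (hN : N ≤ F.PI) (hp : N ≤ ⁅N, N⁆) {s : RingAut A} (hs : s ∈ N) : ∃ u ∈ lft F N, cj A u = s := by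
  have h1 : (N.comap (cj A) ⊓ F.Iso).map (cj A) = N := by
    refine le_antisymm ?_ fun t ht => ?_
    · rintro _ ⟨u, hu, rfl⟩
      exact hu.1
    · obtain ⟨u, hu, rfl⟩ := hN ht
      exact ⟨u, ⟨ht, hu⟩, rfl⟩
  have h2 := hp hs
  rw [← h1, ← Subgroup.map_commutator] at h2
  exact h2

theorem um_mem_lft {γ : RingAut A} (hγ : γ ∈ F.Aut) (hn : ∀ x ∈ N, γ * x * γ⁻¹ ∈ N) {u : Aˣ} (hu : u ∈ lft F N) :
    um γ u ∈ lft F N := by
  have h1 : (N.comap (cj A) ⊓ F.Iso).map (um γ) ≤ N.comap (cj A) ⊓ F.Iso := by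
    rintro _ ⟨v, hv, rfl⟩
    exact ⟨Subgroup.mem_comap.2 (conj_cj γ v ▸ hn _ hv.1), FR.um_mem_Iso hγ hv.2⟩
  have h2 : (lft F N).map (um γ) ≤ lft F N := by
    rw [lft, Subgroup.map_commutator]
    exact Subgroup.commutator_mono h1 h1
  exact h2 ⟨u, hu, rfl⟩

/-- the ring generated by the perfect group of lifts -/
def A0 (F : FR A) (N : Subgroup (RingAut A)) : Subring A := Subring.closure ((fun u : Aˣ => (u : A)) '' lft F N)

theorem mem_A0 {u : Aˣ} (hu : u ∈ lft F N) : (u : A) ∈ A0 F N := Subring.subset_closure ⟨u, hu, rfl⟩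

theorem star_A0 : ∀ x ∈ A0 F N, star x ∈ A0 F N := by
  intro x hx
  induction hx using Subring.closure_induction with
  | mem x hx =>
    obtain ⟨u, hu, rfl⟩ := hx
    rw [← FR.Iso.inv_eq (lft_le hu).2]
    exact mem_A0 (inv_mem hu)
  | zero => rw [star_zero]; exact Subring.zero_mem _
  | one => rw [star_one]; exact Subring.one_mem _
  | add x y _ _ hx hy => rw [star_add]; exact Subring.add_mem _ hx hy
  | neg x _ hx => rw [star_neg]; exact Subring.neg_mem _ hx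
  | mul x y _ _ hx hy => rw [star_mul]; exact Subring.mul_mem _ hy hx

theorem inv_A0 (hle : M ≤ F.Aut) (hn : Nrm M N) : Inv M (A0 F N) := fun γ hγ =>
  (Subring.closure_le (t := (A0 F N).comap (γ : A →+* A))).2 (by
    rintro _ ⟨u, hu, rfl⟩
    exact mem_A0 (u := um γ u) (um_mem_lft (hle hγ) (hn γ hγ) hu))

theorem gen_A0 (hN : N ≤ F.PI) (hp : N ≤ ⁅N, N⁆) (htop : alg F N = ⊤) :
    Subring.closure ((Subring.center A : Set A) ∪ A0 F N) = ⊤ := by
  rw [eq_top_iff, ← htop]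
  refine alg_le (fun x hx => Subring.subset_closure (Or.inl hx)) fun u _ hu => ?_
  obtain ⟨w, hw, e⟩ := exists_lft hN hp hu
  obtain ⟨z, hz, rfl⟩ := cj_eq_iff.1 e.symm
  exact Subring.mul_mem _ (Subring.subset_closure (Or.inr (mem_A0 hw))) (Subring.subset_closure (Or.inl hz))

theorem irr_of_alg (htop : alg F N = ⊤) : Irr N := by
  intro R hR
  let T : Subring A :=
    { carrier := {a | ∀ x ∈ R, x * a ∈ R}
      mul_mem' := fun ha hb x hx => by rw [← mul_assoc]; exact hb _ (ha x hx)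
      one_mem' := fun x hx => by rwa [mul_one]
      add_mem' := fun ha hb x hx => by rw [mul_add]; exact R.add_mem (ha x hx) (hb x hx)
      zero_mem' := fun x _ => by rw [mul_zero]; exact R.zero_mem
      neg_mem' := fun ha x hx => by rw [mul_neg]; exact R.neg_mem (ha x hx) }
  have h1 : alg F N ≤ T := alg_le (fun a ha x hx => by rw [cen_comm ha]; exact R.mul_mem_left _ hx)
    fun u _ hu x hx => by
      have h3 := R.mul_mem_left u (hR (cj A u⁻¹) (by rw [map_inv]; exact inv_mem hu) x hx)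
      rw [cj_apply] at h3
      simpa [← mul_assoc] using h3
  exact fun x hx a => h1 (htop ▸ Subring.mem_top a) x hx

end lft

/-- the normaliser of an irreducible group of automorphisms of a form preserves the form -/
theorem mem_Aut_of_norm (ss : SS A) (hN : N ≤ F.Aut) (hI : Irr N) {γ : RingAut A} (hγ : γ ∈ SAut A)
    (hn : ∀ s ∈ N, γ⁻¹ * s * γ ∈ N) : γ ∈ F.Aut := by
  refine ⟨hγ, FR.mem_L_of_inv ss (hN.trans F.Aut_le_SAut) hI ?_ fun s hs => ?_⟩
  · have h1 : star F.l = 1 - F.l := eq_sub_of_add_eq' F.l_add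
    rw [star_sub, ← hγ, h1, map_sub, map_one]
    abel
  · have h1 := F.L.sub_mem (F.map_mem hγ (hN (hn s hs)).2) (hN hs).2
    rw [map_sub, ra_mul, ra_mul, ra_apply_inv] at h1
    convert h1 using 1
    rw [map_sub]
    abel

variable {H : Subgroup (RingAut A)} {p : ℕ}

/-- the almost simple case -/
theorem sim (c : Ctx F H p) (hI : Irr2 H) (hN : N ≤ H ⊓ F.S) (hn : Nrm H N) (hs : IsSimpleGroup N)
    (hc : ¬ IsMulCommutative N) (htop : alg F N = ⊤) : SubD F H ∨ QuadD F H ∨ Res F H N := by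
  have : Finite (RingAut A) := Finite.of_injective (fun γ : RingAut A => (γ : A → A)) DFunLike.coe_injective
  have hS : SimD F H := ⟨hI, N, hN, hn, hs, hc, htop⟩
  have hNP : N ≤ F.PI := (hN.trans inf_le_right).trans F.S_le_PI
  have hp := perfect_of_simple hs hc
  have hIN := irr_of_alg htop
  have hgen := gen_A0 hNP hp htop
  have hinv := inv_A0 c.le hn
  by_cases h1 : A0 F N ≠ ⊤
  · obtain ⟨φ₀, h2, h3, h4⟩ := exists_aut c.ss c.prime c.char
      (ss_of_inv c.ss c.le_SAut hI.1.1 hI.1.2 star_A0 hinv) hgen h1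
    obtain ⟨r, hr, h5⟩ := Nat.exists_prime_and_dvd (n := orderOf φ₀) (by rwa [Ne, orderOf_eq_one_iff])
    have h6 := orderOf_pow_orderOf_div (orderOf_pos φ₀).ne' h5
    set φ := φ₀ ^ (orderOf φ₀ / r)
    have hφ : φ ∈ SAut A := pow_mem h2 _
    have hf : φ ∈ DS.Cl.Fix (A0 F N : Set A) := pow_mem (show φ₀ ∈ DS.Cl.Fix (A0 F N : Set A) from h4) _
    have hcomm : ∀ γ ∈ H, γ * φ = φ * γ := fun γ hγ => by
      rw [← commutatorElement_eq_one_iff_mul_comm]
      refine eq_one_of_fix hgen (c.ss.commutator_SAut (Subgroup.commutator_mem_commutator (c.le_SAut hγ) hφ))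
        fun x hx => ?_
      rw [commutatorElement_def, ra_mul, ra_mul, ra_mul, (inv_mem hf) x hx, hf _ (hinv _ (inv_mem hγ) x hx), ra_apply_inv]
    refine Or.inl ⟨hS, φ, mem_Aut_of_norm c.ss (hNP.trans F.PI_le_Aut) hIN hφ fun s hs => ?_, fun h => ?_, h6 ▸ hr, hcomm⟩
    · rwa [mul_assoc, hcomm s (hN hs).1, inv_mul_cancel_left]
    · rw [eq_one_of_fix hgen h hf, orderOf_one] at h6
      exact hr.one_lt.ne h6
  by_cases h2 : ∀ l : A, l + star l = 1 → (∀ u ∈ lft F N, (u : A) * l * star (u : A) - l ∈ Lmin A) → F.L = Lmin A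
  · exact Or.inr (Or.inr ⟨hN, hn, hs, hc, not_not.1 h1, h2⟩)
  push Not at h2
  obtain ⟨l, h2, h3, h4⟩ := h2
  refine Or.inr (Or.inl ⟨hS, h4, l, h2, fun γ hγ => ?_⟩)
  refine (mem_Aut_of_norm (F := ⟨l, Lmin A, h2, Or.inl rfl⟩) c.ss (fun s hs => ?_) hIN (c.le_SAut hγ)
    fun s hs => by simpa using hn _ (inv_mem hγ) s hs).2
  obtain ⟨u, hu, rfl⟩ := exists_lft hNP hp hs
  exact ⟨c.le_SAut (hN hs).1, by rw [FR.Iso.cj_apply (lft_le hu).2]; exact h3 u hu⟩

/-- the families of the socle -/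
theorem res (c : Ctx F H p) (hI : Irr2 H) (hT : ¬ TenD H) (h : Res F H N) :
    ResD qDef F H ∨ ResD qAlt F H ∨ ResD qSpor F H ∨ ResD qCross F H := by
  have : Finite (RingAut A) := Finite.of_injective (fun γ : RingAut A => (γ : A → A)) DFunLike.coe_injective
  have := h.simple
  by_cases hl : IsLieTypeChar (ringChar A) N
  · exact Or.inl ⟨hI, hT, N, h, hl⟩
  by_cases ha : IsAlternating N
  · exact Or.inr (Or.inl ⟨hI, hT, N, h, hl, ha⟩)
  have hc : ¬ IsPrimeCyclic N := fun h1 => by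
    have : Fact (Nat.card N).Prime := ⟨h1⟩
    have := isCyclic_of_prime_card (α := N) rfl
    exact h.noncomm inferInstance
  rcases H912.Known.known_split (c.cf N) hc with h1 | h1 | h1 | h1
  · exact absurd h1 ha
  · exact Or.inr (Or.inr (Or.inr ⟨hI, hT, N, h, hl, ha, h1⟩))
  · exact Or.inr (Or.inr (Or.inl ⟨hI, hT, N, h, hl, Or.inr h1⟩))
  · exact Or.inr (Or.inr (Or.inl ⟨hI, hT, N, h, hl, Or.inl h1⟩))

end Cases

open Cases in
/-- **[Cases]** -/
theorem boxCases : BoxCases := by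
  intro A _ _ _ F H p c
  have : Finite (RingAut A) := Finite.of_injective (fun γ : RingAut A => (γ : A → A)) DFunLike.coe_injective
  have hle := c.le
  by_cases hX : FixD H
  · exact Or.inr (Or.inr (Or.inl hX))
  by_cases hI : ¬ Irr H
  · rcases red c.ss hle hX hI with h | h
    · exact Or.inl h
    · exact Or.inr (Or.inl h)
  refine Or.inr (Or.inr (Or.inr ?_))
  by_cases hD : ∃ D : Finset A, Fr D ∧ Inv H D
  · obtain ⟨D, h1, h2⟩ := hD
    exact Or.inl ⟨not_not.1 hI, hX, D, h1, h2, trans_of hX h1 h2⟩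
  replace hI : Irr1 H := ⟨not_not.1 hI, fun D h1 h2 => hD ⟨D, h1, h2⟩⟩
  refine Or.inr ?_
  by_cases hF : ∃ Z : Subring A, ComSub Z ∧ ¬ Z ≤ Subring.center A ∧ Inv H Z
  · exact Or.inl ⟨hI, hF⟩
  have hI2 : Irr2 H := ⟨hI, fun Z h1 h2 => not_not.1 fun h3 => hF ⟨Z, h1, h3, h2⟩⟩
  refine Or.inr ?_
  by_cases hT : TenD H
  · exact Or.inl hT
  refine Or.inr ?_
  obtain ⟨N, hN, hmin⟩ := exists_minN (M := H) (K := H ⊓ F.S) (fun γ hγ s hs => c.conj_inf hγ hs) c.inf_ne_bot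
  have hNP : N ≤ F.PI := (hN.trans inf_le_right).trans F.S_le_PI
  have hB : Inv H (alg F N) := fun γ hγ => apply_mem_alg (hle hγ) (hmin.nrm γ hγ)
  have hZ : cenOf (alg F N) ≤ Subring.center A := hI2.2 _
    ⟨fun x hx => ⟨cen_le_alg hx, fun y _ => cen_comm hx y⟩,
      fun x hx => ⟨star_alg x hx.1, star_centralizer star_alg x hx.2⟩, fun x hx y hy => hy.2 x hx.1⟩ (inv_cenOf hB)
  have htop : alg F N = ⊤ := not_not.1 fun htop =>
    hT (TH.Cl.Cases.ten_central c.ss hle hI2 cen_le_alg (alg_not_le hNP hmin.ne) star_alg hB hZ htop)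
  by_cases hc : ∀ x ∈ N, ∀ y ∈ N, x * y = y * x
  · exact Or.inl ⟨hI2, N, hN, hmin, hc, htop⟩
  obtain ⟨𝓣, h𝓣⟩ := hmin.exists_comp hc
  have h1 : N ∈ 𝓣 := not_not.1 fun h1 => hT (TH.Cl.Cases.ten_comp hle hI2 hNP hmin.ne htop h𝓣 h1)
  rcases sim c hI2 hN hmin.nrm (h𝓣.simple N h1) (h𝓣.noncomm N h1) htop with h | h | h
  · exact Or.inr (Or.inl h)
  · exact Or.inr (Or.inr (Or.inl h))
  · exact Or.inr (Or.inr (Or.inr (res c hI2 hT h)))

end Cfsg.Agent.N2C
end

private theorem dce_beb168004abb : _root_.True := by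
  try have : _root_.True := by simp only [_root_.Cfsg.Agent.N2C.lft.eq_1]
  try have : _root_.True := by simp only [_root_.Cfsg.Agent.DS.Cl.coef.eq_1]
  exact _root_.True.intro
end

-- part: N2/Cl/Fld/Red
section
prune_inst 0x2520344444e202002018058461201c46f60005b2004b800088a00d440588ae44a0810e21bef0201e52b8094d403000681304002040ca09c0043c0c00013d048118c810048008e919620008000b0861a000009040300000000000000000010004200400000
set_option linter.all false
open scoped Cfsg.Agent.FastGrp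

/-!
# N2 (S3519), class C3: reductions and criteria (helper95)

Kind-free: `gd_one` (one fixed point), `gd_cand` (counting the fixed points), `TR` (torus rings), `TR.sub_symF`, `TR.eq_or`,
`red_LU`.  Symplectic and orthogonal groups: `red` (a pair of totally singular subspaces, or a field of prime degree).
-/

set_option autoImplicit false
set_option linter.unusedSectionVars false

namespace Cfsg.Agent.N2C.Fld

open Cfsg.Agent.DS.Cl Cfsg.Agent.DS.Cl.Fwd Cfsg.Agent.SB.Cl Cfsg.Agent.SB.C2 Cfsg.Agent.TH.Cl.Fld Module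
open Cfsg.Agent.TH.Cl (Irr1 FldD)
open Cfsg.Agent.TH.Cl.FSO (SO FE comm_fix alg_cen cen_sym)
open scoped commutatorElement

section ring

variable {A : Type} [Ring A] [StarRing A] [Finite A] {F : FR A} {H : Subgroup (RingAut A)} {p : ℕ}

theorem finAut : Finite (RingAut A) := Finite.of_injective (fun γ : RingAut A => (γ : A → A)) DFunLike.coe_injective

omit [StarRing A] [Finite A] in
/-- if `t⁻¹ (cj u) t` has a power fixing `X`, the power of `u` commutes with `t X` -/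
theorem comm_of_conj {X : Set A} {u : Aˣ} {t : RingAut A} {j : ℕ} (h : (t⁻¹ * cj A u * t) ^ j ∈ DS.Cl.Fix X) {x : A}
    (hx : x ∈ X) : (u : A) ^ j * t x = t x * (u : A) ^ j := by
  have h1 : (t⁻¹ * cj A u * t) ^ j = t⁻¹ * cj A (u ^ j) * t := by
    simpa using conj_pow (i := j) (a := t⁻¹) (b := cj A u)
  have h2 := congrArg t (h x hx)
  rw [h1, ra_mul, ra_mul, ra_apply_inv] at h2
  rw [← Units.val_pow_eq_pow_val, ← cj_mul_eq, h2]

/-- **one fixed point** -/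
theorem gd_one (c : Ctx F H p) {X : Set A} (hX : Inv H X) (hS : ¬ Inv F.S X) {u : Aˣ}
    (hu : u ∈ (⁅F.Iso, F.Iso⁆ : Subgroup Aˣ)) (h1 : ∀ x ∈ X, (u : A) * x = x * u) {j : ℕ}
    (hj : ∀ γ ∈ H ⊓ F.S, γ ^ j ∈ DS.Cl.Fix X)
    (h : ∀ t ∈ F.S, (∀ x ∈ X, (u : A) ^ j * t x = t x * (u : A) ^ j) → ∀ x ∈ X, t x ∈ X) : Gd F H := by
  have := finAut (A := A)
  have hs : cj A u ∈ F.S := ⟨u, hu, rfl⟩
  refine N2.good_of_one (a := ⟨_, hs⟩) (c.mem_of_inv hX hS hs fun x hx => (cj_eq_of_mul (h1 x hx)).symm ▸ hx)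
    (N2.fx_le_one fun t ht => c.mem_of_inv hX hS t.2 (h t t.2 fun x hx => ?_))
  exact comm_of_conj (hj _ (Subgroup.mem_inf.2 ⟨Subgroup.mem_subgroupOf.1 ht,
    F.S.mul_mem (F.S.mul_mem (F.S.inv_mem t.2) hs) t.2⟩)) hx

/-- a non-central field is not invariant -/
theorem not_inv_fld (c : Ctx F H p) {W : Subring A} (hW : IsF W) (h : ¬ W ≤ Subring.center A) : ¬ Inv F.S W :=
  fun hS => h fun z hz => FR.cen_of_S c.span fun _ hs =>
    Subgroup.commutator_le.2 (fun _ hγ _ hδ => comm_fix hW hS hγ hδ) (perfect_of_simple c.simple c.noncomm hs) z hz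

omit [Finite A] in
theorem pair_swap {M : Subgroup (RingAut A)} (hM : M ≤ SAut A) {θ : A} (hi : Inv M {θ, star θ}) {γ : RingAut A}
    (hγ : γ ∈ M) : (γ θ = θ ∧ γ (star θ) = star θ) ∨ (γ θ = star θ ∧ γ (star θ) = θ) := by
  rcases hi γ hγ θ (Or.inl rfl) with e | e
  · exact Or.inl ⟨e, by rw [hM hγ, e]⟩
  · exact Or.inr ⟨e, by rw [hM hγ, show γ θ = star θ from e, star_star]⟩

omit [Finite A] in
/-- squares fix an invariant pair -/
theorem pair_sq {M : Subgroup (RingAut A)} (hM : M ≤ SAut A) {θ : A} (hi : Inv M {θ, star θ}) {γ : RingAut A}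
    (hγ : γ ∈ M) : γ ^ 2 ∈ DS.Cl.Fix {θ, star θ} := by
  rintro _ (rfl | rfl) <;> rw [pow_two, ra_mul] <;> rcases pair_swap hM hi hγ with e | e <;> simp only [e.1, e.2]

/-- a non-central pair is not invariant -/
theorem not_inv_pair (c : Ctx F H p) {θ : A} (h : θ ∉ Subring.center A) : ¬ Inv F.S {θ, star θ} := fun hS => by
  have hM := F.S_le_Aut.trans F.Aut_le_SAut
  have h1 : ⁅F.S, F.S⁆ ≤ DS.Cl.Fix {θ} := Subgroup.commutator_le.2 fun γ hγ δ hδ => by
    have h1 : ∀ y ∈ ({θ, star θ} : Set A), γ (δ y) = δ (γ y) := by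
      rintro _ (rfl | rfl) <;> rcases pair_swap hM hS hγ with e | e <;> rcases pair_swap hM hS hδ with e' | e' <;>
        simp only [e.1, e.2, e'.1, e'.2]
    rintro _ rfl
    rw [commutatorElement_def, ra_mul, ra_mul, ra_mul, h1 _ (hS _ (inv_mem hγ) _ (hS _ (inv_mem hδ) _ (Or.inl rfl))),
      ra_apply_inv, ra_apply_inv]
  exact h (FR.cen_of_S c.span fun _ hs => h1 (perfect_of_simple c.simple c.noncomm hs) θ rfl)

theorem pair_l (c : Ctx F H p) (hI : Irr H) {ε : A} (hH : Inv H {ε, star ε}) (h2 : ε + star ε = 1) : F.l - ε ∈ F.L := by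
  refine FR.mem_L_of_inv c.ss c.le_SAut hI ?_ fun γ hγ => ?_
  · rw [star_sub, eq_sub_of_add_eq' h2, eq_sub_of_add_eq' F.l_add]
    abel
  · have h3 : ε - γ ε ∈ F.L := by
      rcases hH γ hγ ε (Or.inl rfl) with h3 | h3
      · rw [h3, sub_self]; exact zero_mem _
      · rw [show γ ε = star ε from h3]; exact F.sub_star_mem ε
    convert F.L.add_mem (c.le hγ).2 h3 using 1
    rw [map_sub]
    abel

/-- **linear and unitary groups**: there is a central `z` such that `z - star z` is a unit -/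
theorem red_LU (c : Ctx F H p) {z : A} (hz : z ∈ Subring.center A) (hu : IsUnit (z - star z)) (hF : FldD H) :
    ∃ (W : Subring A) (r : ℕ), SymF W r ∧ Inv H W ∧ ¬ Inv F.S W ∧ ∀ γ ∈ H ⊓ F.S, γ ^ r ∈ DS.Cl.Fix (W : Set A) := by
  have := c.ss.nontrivial
  obtain ⟨hI, Z, hZ, hn, hi⟩ := hF
  rcases exists_symF c.ss c.le_SAut hI hZ hi with e | ⟨W, r, hW, -, hi'⟩
  · refine absurd (fun x hx => ?_) hn
    have h1 := e _ (add_mem hx (hZ.2.1 x hx)) (by rw [star_add, star_star, add_comm])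
    have h2 := mul_mem (hZ.1 hz) hx
    have h3 := e _ (add_mem h2 (hZ.2.1 _ h2)) (by rw [star_add, star_star, add_comm])
    have h4 := star_cen hz
    have h5 := sub_mem h3 (mul_mem h4 h1)
    rw [star_mul, Subring.mem_center_iff.1 h4 (star x), show z * x + star z * star x - star z * (x + star x) = (z - star z) * x by
      noncomm_ring] at h5
    refine Subring.mem_center_iff.2 fun y => hu.mul_left_cancel ?_
    rw [← mul_assoc, ← Subring.mem_center_iff.1 (sub_mem hz h4) y, mul_assoc, ← mul_assoc _ x,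
      Subring.mem_center_iff.1 h5]
  · exact ⟨W, r, hW, hi', not_inv_fld c hW.isF hW.not_le, fun γ hγ => hW.pow_fix (hi' γ hγ.1) fun x hx =>
      F.PI_le_Lin (F.S_le_PI hγ.2) x hx.1⟩

/-- torus rings: the centralisers of regular elements of the tori `q^k - 1`, `q^k + 1` -/
structure TR (R : Subring A) : Prop where
  comm : ∀ x ∈ R, ∀ y ∈ R, x * y = y * x
  star_mem : ∀ x ∈ R, star x ∈ R
  sym : ∀ x ∈ R, star x = x → x ≠ 0 → IsUnit x
  skew : ∀ x ∈ R, star x = -x → x ≠ 0 → IsUnit x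

namespace TR

variable {R : Subring A} (h : TR R)
include h

theorem isF : IsF (symS R h.comm) := ⟨fun x hx y hy => h.comm x hx.1 y hy.1, fun x hx h0 => by
  obtain ⟨y, hy⟩ := Finite.surjective_of_injective
    (f := fun y : symS R h.comm => (⟨x * y, mul_mem hx y.2⟩ : symS R h.comm))
    (fun a b e => Subtype.ext ((h.sym x hx.1 hx.2 h0).mul_left_cancel (congrArg Subtype.val e))) 1
  exact ⟨y, y.2, congrArg Subtype.val hy⟩⟩

/-- a torus ring contains only one symmetric field of each order -/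
theorem sub_symF [Nontrivial A] {W : Subring A} (hW : IsF W) (hs : ∀ x ∈ W, star x = x) (h1 : W ≤ R) {t : RingAut A}
    (ht : t ∈ SAut A) {x : A} (hx : x ∈ W) (h2 : t x ∈ R) : t x ∈ W :=
  mem_of_pow h.isF (fun y hy => ⟨h1 hy, hs y hy⟩) ⟨h2, by rw [← ht, hs x hx]⟩ (by rw [← map_pow, pow_card hW hx])

/-- elements with the same trace and the same norm -/
theorem eq_or {x y : A} (hx : x ∈ R) (hy : y ∈ R) (h1 : y + star y = x + star x) (h2 : y * star y = x * star x) :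
    y = x ∨ y = star x := by
  have h3 : star y = x + star x - y := eq_sub_of_add_eq' h1
  by_contra h4
  have h5 := h.skew _ (sub_mem hy hx) (by rw [star_sub, h3]; abel) fun e => h4 (Or.inl (sub_eq_zero.1 e))
  refine h4 (Or.inr (sub_eq_zero.1 (h5.mul_left_cancel ?_)))
  rw [h3, mul_sub, mul_add] at h2
  rw [mul_zero, sub_mul, mul_sub, mul_sub, ← h2, h.comm x hx y hy]
  abel

end TR

/-- **symmetric fields**: the centraliser of `u ^ j` lies in a torus ring -/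
theorem gd_sym (c : Ctx F H p) {W : Subring A} (hW : IsF W) (hs : ∀ x ∈ W, star x = x) (hi : Inv H W) (hS : ¬ Inv F.S W)
    {j : ℕ} (hj : ∀ γ ∈ H ⊓ F.S, γ ^ j ∈ DS.Cl.Fix (W : Set A)) {u : Aˣ} (hu : u ∈ (⁅F.Iso, F.Iso⁆ : Subgroup Aˣ))
    (h1 : ∀ x ∈ W, (u : A) * x = x * u) {R : Subring A} (hR : TR R) (h2 : ∀ x, (u : A) ^ j * x = x * (u : A) ^ j → x ∈ R) :
    Gd F H := by
  have := c.ss.nontrivial
  exact gd_one c hi hS hu h1 hj fun t ht h x hx => hR.sub_symF hW hs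
    (fun y hy => h2 y ((show Commute (u : A) y from h1 y hy).pow_left j)) (F.Aut_le_SAut (F.S_le_Aut ht)) hx (h2 _ (h x hx))

/-- **quadratic rings**: all traces and norms are central -/
theorem gd_quad (c : Ctx F H p) {X : Set A} (hs : ∀ x ∈ X, star x ∈ X) (h3 : ∀ x ∈ X, x + star x ∈ Subring.center A)
    (h4 : ∀ x ∈ X, x * star x ∈ Subring.center A) (hi : Inv H X) (hS : ¬ Inv F.S X)
    {j : ℕ} (hj : ∀ γ ∈ H ⊓ F.S, γ ^ j ∈ DS.Cl.Fix X) {u : Aˣ} (hu : u ∈ (⁅F.Iso, F.Iso⁆ : Subgroup Aˣ))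
    (h1 : ∀ x ∈ X, (u : A) * x = x * u) {R : Subring A} (hR : TR R) (h2 : ∀ x, (u : A) ^ j * x = x * (u : A) ^ j → x ∈ R) :
    Gd F H :=
  gd_one c hi hS hu h1 hj fun t ht h x hx => by
    have h5 := F.Aut_le_SAut (F.S_le_Aut ht)
    have h6 := F.PI_le_Lin (F.S_le_PI ht)
    rcases hR.eq_or (h2 x ((show Commute (u : A) x from h1 x hx).pow_left j)) (h2 _ (h x hx))
      (by rw [← h5, ← map_add, h6 _ (h3 x hx)]) (by rw [← h5, ← map_mul, h6 _ (h4 x hx)]) with e | e <;> rw [e]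
    exacts [hx, hs x hx]

end ring

/-! ### symplectic and orthogonal groups -/

variable {K V : Type} [Field K] [Fintype K] [AddCommGroup V] [Module K V] [Finite V] [Nontrivial V] {h : HF K V}
  {F : FR h.EB} {H : Subgroup (RingAut h.EB)} {p : ℕ} {s κ : K}

/-- an invariant pair of complementary totally singular subspaces -/
structure Pair (F : FR h.EB) (H : Subgroup (RingAut h.EB)) (ε : h.EB) : Prop where
  idem : ε * ε = ε
  add : ε + star ε = 1
  L : F.l - ε ∈ F.L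
  inv : Inv H {ε, star ε}
  ninv : ¬ Inv F.S {ε, star ε}
  pow : ∀ γ ∈ H ⊓ F.S, γ ^ 2 ∈ DS.Cl.Fix {ε, star ε}

/-- an invariant field of prime degree -/
structure Dat {E : Type} [Field E] [Algebra K E] [Module E V] (f : FE h E) (F : FR h.EB) (H : Subgroup (RingAut h.EB))
    (l : h.EB) : Prop where
  mem : l ∈ f.C
  L : F.l - l ∈ F.L
  prime : (finrank K E).Prime
  inv : Inv H f.ι.range
  ninv : ¬ Inv F.S f.ι.range
  pow : ∀ γ ∈ H ⊓ F.S, γ ^ finrank K E ∈ DS.Cl.Fix (f.ι.range : Set h.EB)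
  idx : (DS.Cl.Fix (f.ι.range : Set h.EB)).relIndex (H ⊓ F.S) ∣ finrank K E
  kind : (finrank K E = 2 ∧ ∃ θ, f.σ θ ≠ θ) ∨ ∀ θ, f.σ θ = θ

theorem Pair.swap {ε : h.EB} (P : Pair F H ε) : Pair F H (star ε) := by
  have e : ({star ε, star (star ε)} : Set h.EB) = {ε, star ε} := by rw [star_star, Set.pair_comm]
  refine ⟨by rw [← star_mul, P.idem], by rw [star_star, add_comm, P.add], ?_, e ▸ P.inv, e ▸ P.ninv, e ▸ P.pow⟩
  have := F.L.add_mem P.L (F.sub_star_mem ε)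
  rwa [sub_add_sub_cancel] at this

/-- **criterion for pairs** -/
theorem Pair.gd (c : Ctx F H p) {ε : h.EB} (P : Pair F H ε) {u : h.EBˣ} (hu : u ∈ (⁅F.Iso, F.Iso⁆ : Subgroup h.EBˣ))
    (h1 : (u : h.EB) * ε = ε * u) {R : Subring h.EB} (hR : TR R)
    (h2 : ∀ x, (u : h.EB) ^ 2 * x = x * (u : h.EB) ^ 2 → x ∈ R) : Gd F H := by
  have e : star ε = 1 - ε := eq_sub_of_add_eq' P.add
  refine gd_quad c ?_ ?_ ?_ P.inv P.ninv P.pow hu ?_ hR h2 <;> rintro _ (rfl | rfl)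
  · exact Or.inr rfl
  · exact Or.inl (star_star _)
  · exact P.add ▸ one_mem _
  · rw [star_star, add_comm, P.add]; exact one_mem _
  · rw [e, mul_sub, mul_one, P.idem, sub_self]; exact zero_mem _
  · rw [star_star, e, sub_mul, one_mul, P.idem, sub_self]; exact zero_mem _
  · exact h1
  · rw [e, mul_sub, sub_mul, h1, mul_one, one_mul]

section dat

variable {E : Type} [Field E] [Fintype E] [DecidableEq E] [Algebra K E] [Module E V] [IsScalarTower K E V] {f : FE h E}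
  {l : h.EB}

theorem ι_alg (f : FE h E) (a : K) : f.ι (algebraMap K E a) = h.eb (algebraMap K (End K V) a) :=
  h.ap_ext fun v => by rw [f.ap_ι, algebraMap_smul]; rfl

theorem isF_range (f : FE h E) : IsF f.ι.range :=
  ⟨by rintro _ ⟨a, rfl⟩ _ ⟨b, rfl⟩; rw [← map_mul, ← map_mul, mul_comm], by
    rintro _ ⟨a, rfl⟩ ha
    exact ⟨_, ⟨a⁻¹, rfl⟩, by rw [← map_mul, mul_inv_cancel₀ fun e => ha (by rw [e, map_zero]), map_one]⟩⟩

/-- the fixed field of the involution of a quadratic extension -/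
theorem fix_σ (o : SO h F s κ) (f : FE h E) (h2 : finrank K E = 2) (hσ : ∃ θ, f.σ θ ≠ θ) {z : E} (hz : f.σ z = z) :
    ∃ a, algebraMap K E a = z := by
  let σ : E ≃ₐ[K] E := AlgEquiv.ofBijective ⟨f.σ, f.σ_alg o⟩ (Finite.injective_iff_bijective.1 f.σ.injective)
  have h1 : σ ≠ 1 := fun e => hσ.elim fun θ hθ => hθ (AlgEquiv.congr_fun e θ)
  obtain ⟨τ, -, hτ⟩ := (Nat.card_eq_two_iff' (1 : E ≃ₐ[K] E)).1 ((IsGalois.card_aut_eq_finrank K E).trans h2)
  refine (IsGalois.mem_range_algebraMap_iff_fixed z).2 fun g => ?_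
  by_cases hg : g = 1
  · rw [hg]; rfl
  · rw [(hτ g hg).trans (hτ σ h1).symm]; exact hz

/-- **criterion for fields** -/
theorem Dat.gd (o : SO h F s κ) (c : Ctx F H p) (d : Dat f F H l) {u : h.EBˣ}
    (hu : u ∈ (⁅F.Iso, F.Iso⁆ : Subgroup h.EBˣ)) (h1 : (u : h.EB) ∈ f.C) {R : Subring h.EB} (hR : TR R)
    (h2 : ∀ x, (u : h.EB) ^ finrank K E * x = x * (u : h.EB) ^ finrank K E → x ∈ R) : Gd F H := by
  have h3 : ∀ x ∈ f.ι.range, (u : h.EB) * x = x * u := fun x hx => (h1 x hx).symm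
  rcases d.kind with ⟨k1, k2⟩ | k
  · have h4 : ∀ z, f.σ z = z → f.ι z ∈ Subring.center h.EB := fun z hz => by
      obtain ⟨a, rfl⟩ := fix_σ o f k1 k2 hz
      exact ι_alg f a ▸ alg_cen a
    refine gd_quad c ?_ ?_ ?_ d.inv d.ninv d.pow hu h3 hR h2 <;> rintro _ ⟨z, rfl⟩ <;> rw [f.star_ι]
    · exact ⟨_, rfl⟩
    · rw [← map_add]; exact h4 _ (by rw [map_add, f.σ_σ, add_comm])
    · rw [← map_mul]; exact h4 _ (by rw [map_mul, f.σ_σ, mul_comm])
  · exact gd_sym c (isF_range f) (by rintro _ ⟨z, rfl⟩; rw [f.star_ι, k]) d.inv d.ninv d.pow hu h3 hR h2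

end dat

variable (h F H) in
/-- there is an invariant field of prime degree -/
def Ex : Prop := ∃ (E : Type) (_ : Field E) (_ : Fintype E) (_ : DecidableEq E) (_ : Algebra K E) (_ : Module E V)
  (_ : IsScalarTower K E V) (f : FE h E) (l : h.EB), Dat f F H l

theorem setup (c : Ctx F H p) (hI : Irr1 H) {W : Subring h.EB} (hW : IsF W) (h1 : ComSub W) (hi : Inv H W) {r : ℕ}
    (hr : r.Prime) (hc : Nat.card W = Nat.card K ^ r) (hs : r = 2 ∨ ∀ x ∈ W, star x = x) : Ex h F H := by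
  classical
  have := c.ss.nontrivial
  let := hW.isField.toField
  have := Fintype.ofFinite W
  let : Algebra K W := (RingHom.codRestrict (R := K) (S := h.EB) (algebraMap K (End K V)) W
    fun c => h1.1 (alg_cen c)).toAlgebra
  let : Module W V := Module.compHom V (show W →+* End K V from W.subtype)
  have : IsScalarTower K W V := ⟨fun _ _ _ => rfl⟩
  let f : FE h W :=
    { ι := W.subtype
      σ :=
        { toFun := fun z => ⟨star z, h1.2.1 _ z.2⟩
          map_one' := Subtype.ext (star_one _)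
          map_mul' := fun x y => Subtype.ext ((star_mul x.1 y.1).trans (hW.comm _ (h1.2.1 _ y.2) _ (h1.2.1 _ x.2)))
          map_zero' := Subtype.ext (star_zero _)
          map_add' := fun x y => Subtype.ext (star_add x.1 y.1) }
      ap_ι := fun _ _ => rfl
      star_ι := fun _ => rfl }
  have e : f.ι.range = W := W.range_subtype
  have h2 : finrank K W = r := Nat.pow_right_injective (Finite.one_lt_card (α := K))
    ((Module.natCard_eq_pow_finrank (K := K) (V := W)).symm.trans hc)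
  obtain ⟨B, -, b1, b2⟩ := exists_bd_fld c.ss F c.le hI.1 hI.2 h1.2.1 h1.2.2 hi
  have h3 : Inv (H ⊓ F.S) W := fun γ hγ => hi γ hγ.1
  let φ : ↥(H ⊓ F.S) →* (W ≃ₐ[K] W) :=
    { toFun := fun γ => AlgEquiv.ofRingEquiv (f := resW W h3 γ) fun c => Subtype.ext
        (F.PI_le_Lin (F.S_le_PI γ.2.2) _ (alg_cen c))
      map_one' := rfl
      map_mul' := fun _ _ => rfl }
  have h4 : (DS.Cl.Fix (W : Set h.EB)).subgroupOf (H ⊓ F.S) = φ.ker :=
    Subgroup.ext fun γ => (resW_eq_one h3).symm.trans ⟨fun e => AlgEquiv.ext (RingEquiv.congr_fun e),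
      fun e => RingEquiv.ext (AlgEquiv.congr_fun e)⟩
  refine ⟨W, _, inferInstance, inferInstance, _, _, inferInstance, f, B.l,
    ⟨by rw [FE.C, e]; exact (b1 _).1 B.l_mem, b2, h2 ▸ hr, e.symm ▸ hi, e.symm ▸ not_inv_fld c hW fun h3 => ?_,
      fun γ hγ => ?_, ?_, ?_⟩⟩
  · have h4 := card_le_of_le h3
    rw [hc, card_center (A := h.EB) (RingEquiv.refl (End K V))] at h4
    exact h4.not_gt (by simpa using Nat.pow_lt_pow_right (Finite.one_lt_card (α := K)) hr.one_lt)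
  · rw [e]
    refine (h4.ge (show (⟨γ, hγ⟩ : ↥(H ⊓ F.S)) ^ finrank K W ∈ φ.ker from ?_) :)
    rw [MonoidHom.mem_ker, map_pow, ← IsGalois.card_aut_eq_finrank, pow_card_eq_one']
  · rw [e, Subgroup.relIndex, ← IsGalois.card_aut_eq_finrank, h4, Subgroup.index_ker]
    exact Subgroup.card_subgroup_dvd_card _
  · by_cases h5 : ∀ θ, f.σ θ = θ
    · exact Or.inr h5
    · exact Or.inl ⟨h2.trans (hs.resolve_right fun e => h5 fun θ => Subtype.ext (e _ θ.2)), not_forall.1 h5⟩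

variable (o : SO h F s κ) (c : Ctx F H p)
include o c

theorem pair_of (hI : Irr H) {ε : h.EB} (hi : Inv H {ε, star ε}) (h1 : ε * ε = ε) (h2 : ε + star ε = 1) : Pair F H ε := by
  have := c.ss.nontrivial
  refine ⟨h1, h2, pair_l c hI hi h2, hi, not_inv_pair c fun hz => ?_, fun γ hγ => pair_sq c.le_SAut hi hγ.1⟩
  rw [cen_sym o hz] at h2
  have h3 : ε = 0 := by rw [← add_eq_left (a := ε), ← h1, ← mul_add, h2, mul_one, h1]
  rw [h3, add_zero] at h2
  exact zero_ne_one h2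

theorem ex_two (hI : Irr1 H) {Z : Subring h.EB} (hZ : ComSub Z) (hi : Inv H Z) (hn : ∃ z ∈ Z, star z ≠ z) :
    (∃ ε, Pair F H ε) ∨ Ex h F H := by
  refine or_iff_not_imp_left.2 fun hp => ?_
  have := c.ss.nontrivial
  have hs := ss_of_inv c.ss c.le_SAut hI.1 hI.2 hZ.2.1 hi
  set B := Blk.ofSubring Z hZ.2.1
  have h1 : ∀ x : B.T, x ∈ Subring.center B.T := fun x => B.mem_center_iff.2 fun y hy => hZ.2.2 y hy _ (B.val_mem x)
  have h2 : IsF Z := ⟨hZ.2.2, fun x hx h0 => by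
    refine (Blk.isUnit_val (hs.isUnit_of_not_eps (fun ⟨ε, hε⟩ => ?_) (h1 (B.mk' x hx))
      fun e => h0 (congrArg B.val e))).imp fun y hy => ⟨hy.1, hy.2.1⟩
    have a1 : B.val ε * B.val ε = B.val ε := congrArg B.val hε.idem
    have a2 : B.val ε + star (B.val ε) = 1 := congrArg B.val hε.add
    have a3 : ∀ γ ∈ H, γ (B.val ε) = B.val ε ∨ γ (B.val ε) = star (B.val ε) := fun γ hγ =>
      (hs.eps_unique hε (ε' := B.mk' _ (hi γ hγ _ (B.val_mem ε))) ⟨h1 _, B.val_inj (by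
        change γ _ * γ _ = γ _
        rw [← map_mul, a1]), B.val_inj (by
        change γ _ + star (γ _) = 1
        rw [← c.le_SAut hγ, ← map_add, a2, map_one])⟩).imp (congrArg B.val) (congrArg B.val)
    refine hp ⟨_, pair_of o c hI.1 ?_ a1 a2⟩
    rintro γ hγ _ (rfl | rfl)
    · exact a3 γ hγ
    · rw [c.le_SAut hγ]
      rcases a3 γ hγ with h4 | h4 <;> rw [h4]
      · exact Or.inr rfl
      · exact Or.inl (star_star _)⟩
  obtain ⟨t, t0, ht⟩ := h2.quad (A := h.EB) (RingEquiv.refl (End K V)) hZ.1 hZ.2.1 (fun _ => cen_sym o) hn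
  have hq : 2 ≤ Nat.card K := Finite.one_lt_card
  obtain ⟨W, a1, a2, a3⟩ := h2.sub t0 (hq.trans (Nat.le_self_pow two_ne_zero _)) ht
  refine setup c hI a2 ⟨fun x hx => (a1 x).2 ⟨hZ.1 hx, ?_⟩, fun x hx => (a1 _).2 ⟨hZ.2.1 x ((a1 x).1 hx).1, by
    rw [← star_pow, ((a1 x).1 hx).2]⟩, a2.comm⟩ (fun γ hγ x hx => (a1 _).2 ⟨hi γ hγ x ((a1 x).1 hx).1, by
    rw [← map_pow, ((a1 x).1 hx).2]⟩) Nat.prime_two a3 (Or.inl rfl)
  have a4 := pow_card (isF_of_le h2 hZ.1) hx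
  rw [card_center (A := h.EB) (RingEquiv.refl (End K V))] at a4
  rw [pow_two, pow_mul, a4, a4]

/-- **the reduction** for symplectic and orthogonal groups -/
theorem red (hF : FldD H) : (∃ ε, Pair F H ε) ∨ Ex h F H := by
  obtain ⟨hI, Z, hZ, hn, hi⟩ := hF
  rcases exists_symF c.ss c.le_SAut hI hZ hi with e | ⟨W, r, hW, -, hi'⟩
  · refine ex_two o c hI hZ hi ?_
    by_contra a1
    push Not at a1
    exact hn fun x hx => e x hx (a1 x hx)
  have h1 : C0 h.EB = Subring.center h.EB := le_antisymm (fun _ hx => hx.1) fun _ hx => ⟨hx, cen_sym o hx⟩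
  exact Or.inr (setup c hI hW.isF ⟨h1 ▸ hW.le, fun x hx => by rwa [hW.sym x hx], hW.isF.comm⟩ hi' hW.prime
    (by rw [hW.card, h1, card_center (A := h.EB) (RingEquiv.refl (End K V))]) (Or.inr hW.sym))

end Cfsg.Agent.N2C.Fld
end

-- part: N2/G2/ATab
section
prune_inst 0x2520744474e202002018059473201c26b60004b2004b84009de007460fcfde66adc42e614fa02c0f5a3e8dd5383100681304003042d209c00e3c0000013d04a1986a52069348ed1d76009980338f79ac00009040300000000000000000051004200400000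
set_option linter.all false
open scoped Cfsg.Agent.FastGrp

/-!
# N2, `G₂(q)` and `³D₄(q)`, box [A]: facts on the root systems and their finite checks (helper52)
-/

set_option autoImplicit false
set_option linter.unusedSectionVars false

namespace Cfsg.Agent.N2.G2.A

open Subgroup Cfsg CoxeterSystem
open Cfsg.Agent.ChevalleyStructure.CoxeterGeom Cfsg.Agent.Tits.Roots Cfsg.Agent.Nodes.Reps Cfsg.Agent.Nodes.Coroot
  Cfsg.Agent.SB.Low

/-- tables -/
structure Tb (V M : Type) where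
  ap : M → V → V
  cp : V → V → ℤ
  RL : List V
  RP : List V
  BS : List V
  WL : List M
  TL : List M
  CL : List (List V)
  NG : List V

section Chk

variable {V M : Type} [AddCommGroup V] [DecidableEq V]

/-- membership up to sign -/
def ins (S : List V) (x : V) : Bool := S.contains x || S.contains (-x)

namespace Tb

variable (t : Tb V M)

/-- the sums of positive roots -/
def TR : List (V × V) := t.RP.flatMap fun a => (t.RP.filter fun b => t.RP.contains (a + b)).map fun b => (a, b)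

/-- closed sets -/
def cl (S : List V) : Bool := t.TR.all fun x =>
  if S.contains x.1 then S.contains x.2 == S.contains (x.1 + x.2) else true

/-- all simple roots -/
def full (S : List V) : Bool := t.BS.all S.contains

/-- stable sets -/
def stab (m : M) (S : List V) : Bool := S.all fun a => ins S (t.ap m a)

/-- the number of roots -/
def cnt (S : List V) : ℕ := (t.RL.filter (ins S)).length

/-- one reduction step -/
def rd (S : List V) (x : V) : V := S.foldl (fun y a => y - (t.cp y a).tdiv 2 • a) x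

/-- a test for membership in the span -/
def sp (S : List V) (x : V) : Bool := t.rd S (t.rd S (t.rd S x)) == 0

/-- the basic checks -/
def cBas : Bool := decide t.RL.Nodup && t.RL.all (ins t.RP) && t.RP.all t.RL.contains &&
  t.RP.sublists.all fun S => !t.cl S || t.CL.contains S

/-- classification -/
def cCls (k : ℕ) : Bool := t.CL.all fun S => t.full S || t.TL.all (fun m => !t.stab m S) ||
  ((t.cnt S == 0 || t.cnt S == 2 || (t.cnt S == 6 && (k != 1 || t.BS.all fun x => t.sp S ((3 : ℤ) • x))) ||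
    (t.cnt S == 2 * (k + 1) && t.BS.all fun x => t.sp S ((2 : ℤ) • x))) &&
  (t.cnt S == 2 * (k + 1) || t.RP.any fun a => t.RP.any fun b => !ins S a && !ins S b && t.RL.contains (a + b) &&
    !ins S (a + b)))

/-- the action on the quotient -/
def cPm : Bool := t.CL.all fun S => S.isEmpty || t.full S || (t.TL.filter (t.stab · S)).isEmpty ||
  (t.WL.filter (t.stab · S)).all fun v => (t.BS.all fun x => t.sp S (t.ap v x - x)) ||
    (t.BS.all fun x => t.sp S (t.ap v x + x)) || (t.TL.filter (t.stab · S)).all fun m => t.RL.any fun b =>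
      !ins S b && t.ap v b == -b && t.ap v (t.ap m b) == t.ap m b &&
        t.BS.all fun x => t.sp (b :: t.ap m b :: t.ap m (t.ap m b) :: S) ((2 : ℤ) • x)

/-- generators -/
def cGen : Bool := t.TL.all fun m =>
  (t.RP.any fun x => t.RP.any fun y => (t.CL.filter (t.stab m)).all fun S => !S.contains x || !S.contains y || t.full S) &&
  (t.CL.filter (t.stab m)).all fun S => S.isEmpty || t.RP.any fun y => (t.CL.filter (t.stab m)).all fun S' =>
    !S'.contains y || !S.all S'.contains || t.full S'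

/-- orders in the Weyl group -/
def cOrd (k : ℕ) : Bool := t.WL.all fun v =>
  ((t.BS.all fun x => t.ap v (t.ap v (t.ap v (t.ap v x))) == x) || t.RL.any fun x => t.RL.contains (t.ap v (t.ap v x) + x)) &&
  ((t.BS.all fun x => t.ap v (t.ap v (t.ap v (t.ap v (t.ap v (t.ap v x))))) == x) ||
    (k == 3 && t.BS.all fun x => t.ap v (t.ap v (t.ap v (t.ap v x))) == x))

/-- the element `-1` -/
def cNeg : Bool := t.NG.all t.RL.contains && t.BS.all fun x => t.NG.foldr (fun c y => y - t.cp y c • c) x == -x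

/-- rank two -/
def cG : Bool := (t.WL.all fun v => (t.BS.all fun x => t.ap v x == x) || (t.BS.all fun x => t.ap v x == -x) ||
    t.RL.any fun x => t.RL.contains (t.ap v x + x)) &&
  t.RP.any fun x => t.RP.any fun y => t.CL.all fun S => t.full S || ((!S.contains x || !S.contains y) &&
    (t.cnt S != 6 || S.contains y) &&
    (t.cnt S == 6 || !S.contains y || t.RL.any fun a => !ins S a && t.BS.any fun z => ins S (a + (3 : ℤ) • z)))

theorem rd_mem {Λ : AddSubgroup V} : ∀ {S : List V}, (∀ a ∈ S, a ∈ Λ) → ∀ x, t.rd S x ∈ Λ → x ∈ Λ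
  | [], _, _, h => h
  | a :: _, h, x, h1 => by
    have h2 := rd_mem (fun b hb => h b (List.mem_cons_of_mem a hb)) _ h1
    simpa using add_mem h2 (Λ.zsmul_mem (h a List.mem_cons_self) ((t.cp x a).tdiv 2))

theorem sp_mem {Λ : AddSubgroup V} {S : List V} (h : ∀ a ∈ S, a ∈ Λ) {x : V} (h1 : t.sp S x = true) : x ∈ Λ :=
  t.rd_mem h _ (t.rd_mem h _ (t.rd_mem h _ ((beq_iff_eq.1 h1).symm ▸ zero_mem _)))

open Classical in
/-- the positive roots in a subgroup -/
noncomputable def sel (Λ : AddSubgroup V) : List V := t.RP.filter fun x => x ∈ Λ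

variable {t} {Λ : AddSubgroup V}

theorem mem_sel {x : V} : x ∈ t.sel Λ ↔ x ∈ t.RP ∧ x ∈ Λ := by simp [sel]

theorem sel_sub : ∀ a ∈ t.sel Λ, a ∈ Λ := fun _ h => (mem_sel.1 h).2

theorem of_ins {x : V} (h : ins (t.sel Λ) x = true) : x ∈ Λ := by
  simp only [ins, Bool.or_eq_true, List.contains_iff_mem, mem_sel] at h
  exact h.elim And.right fun h => neg_mem_iff.1 h.2

variable (h : t.cBas = true)
include h

theorem bas : t.RL.Nodup ∧ (∀ x ∈ t.RL, x ∈ t.RP ∨ -x ∈ t.RP) ∧ (∀ x ∈ t.RP, x ∈ t.RL) ∧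
    ∀ S, S.Sublist t.RP → t.cl S = true → S ∈ t.CL := by
  simpa [cBas, ins, and_assoc, or_iff_not_imp_left] using h

theorem ins_sel {x : V} (hx : x ∈ t.RL) : ins (t.sel Λ) x = true ↔ x ∈ Λ :=
  ⟨of_ins, fun h1 => by
    simp only [ins, Bool.or_eq_true, List.contains_iff_mem, mem_sel]
    exact ((bas h).2.1 x hx).imp (⟨·, h1⟩) (⟨·, neg_mem h1⟩)⟩

variable (Λ) in
theorem sel_mem : t.sel Λ ∈ t.CL := by
  refine (bas h).2.2.2 _ List.filter_sublist (List.all_eq_true.2 fun x hx => ?_)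
  simp only [TR, List.mem_flatMap, List.mem_map, List.mem_filter, List.contains_iff_mem] at hx
  obtain ⟨a, -, b, ⟨hb, h1⟩, rfl⟩ := hx
  split_ifs with h2
  · rw [beq_iff_eq, Bool.eq_iff_iff, List.contains_iff_mem, List.contains_iff_mem, mem_sel, mem_sel, and_iff_right hb,
      and_iff_right h1, add_mem_cancel_left (sel_sub _ (List.contains_iff_mem.1 h2))]
  · rfl

end Tb

end Chk

section Root

variable {I W : Type} [Fintype I] [DecidableEq I] [Group W] {M₀ : CoxeterMatrix I} (cs : CoxeterSystem M₀ W)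
  {A : I → I → ℤ} (h : IsCartan M₀ A)

/-- `θ`-stable subgroups -/
def St (θ : (I → ℤ) →+ (I → ℤ)) (Λ : AddSubgroup (I → ℤ)) : Prop := ∀ x ∈ Λ, θ x ∈ Λ

/-- the facts which are checked on the tables -/
structure RB (k : ℕ) (θ : (I → ℤ) →+ (I → ℤ)) : Prop where
  cls : ∀ Λ, St θ Λ → (∃ x, x ∉ Λ) → (Ps cs h Λ).ncard = 0 ∨ (Ps cs h Λ).ncard = 2 ∨
    ((Ps cs h Λ).ncard = 6 ∧ (k = 1 → ∀ x, (3 : ℤ) • x ∈ Λ)) ∨ ((Ps cs h Λ).ncard = 2 * (k + 1) ∧ ∀ x, (2 : ℤ) • x ∈ Λ)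
  inv : ∀ Λ, St θ Λ → (∃ x, x ∉ Λ) → (∀ x y, x ∉ Λ → y ∉ Λ → x + y ∈ Λ) → (Ps cs h Λ).ncard = 2 * (k + 1)
  pm : ∀ (Λ : AddSubgroup (I → ℤ)) (v : W) (j : ℤ), (∀ x, θ x ∈ Λ ↔ x ∈ Λ) → (∀ x, rep cs h v x - j • x ∈ Λ) →
    (Ps cs h Λ).Nonempty → (∀ x, (j - 1) • x ∈ Λ) ∨ ∀ x, (j + 1) • x ∈ Λ
  two : ∃ x y, ∀ Λ, St θ Λ → x ∈ Λ → y ∈ Λ → ∀ z, z ∈ Λ
  one : ∀ Λ, St θ Λ → (Ps cs h Λ).Nonempty → ∃ y, ∀ Λ', Λ ≤ Λ' → St θ Λ' → y ∈ Λ' → ∀ z, z ∈ Λ'
  four : ∀ v : W, v ^ 4 = 1 ∨ ∃ x, IsRoot cs h (rep cs h v (rep cs h v x) + x)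
  six : ∀ v : W, v ^ 6 = 1 ∨ (k = 3 ∧ v ^ 4 = 1)
  neg : ∃ w : W, ∀ x, rep cs h w x = -x
  pm1 : k = 1 → ∀ v : W, (∀ x, rep cs h v x = x) ∨ (∀ x, rep cs h v x = -x) ∨ ∃ x, IsRoot cs h (rep cs h v x + x)
  g33 : k = 1 → ∃ x y, ∀ Λ : AddSubgroup (I → ℤ), (∃ z, z ∉ Λ) → (x ∈ Λ → y ∉ Λ) ∧
    ((∀ z, (3 : ℤ) • z ∈ Λ) → ((Ps cs h Λ).ncard = 6 ↔ y ∈ Λ))

variable {V M : Type} [AddCommGroup V] [DecidableEq V]

/-- the bridge to the tables -/
structure Br (t : Tb V M) (θ : (I → ℤ) →+ (I → ℤ)) (e : (I → ℤ) ≃+ V) : Prop where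
  root : ∀ x, IsRoot cs h x ↔ e x ∈ t.RL
  cp : ∀ x c, IsRoot cs h c → cpr cs h x c = t.cp (e x) (e c)
  bs : ∀ i, e (sr i) ∈ t.BS
  wl : ∀ w, ∃ m ∈ t.WL, ∀ x, e (rep cs h w x) = t.ap m (e x)
  tl : ∃ m ∈ t.TL, ∀ x, e (θ x) = t.ap m (e x)
  rt : ∀ a, IsRoot cs h a → IsRoot cs h (θ a)
  bas : t.cBas = true

variable {cs h} {t : Tb V M} {θ : (I → ℤ) →+ (I → ℤ)} {e : (I → ℤ) ≃+ V} {Λ : AddSubgroup (I → ℤ)}

/-- the transported subgroup -/
def tr (e : (I → ℤ) ≃+ V) (Λ : AddSubgroup (I → ℤ)) : AddSubgroup V := Λ.comap e.symm.toAddMonoidHom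

theorem mem_tr {x : I → ℤ} : e x ∈ tr e Λ ↔ x ∈ Λ := by simp [tr]

namespace Br

variable (B : Br cs h t θ e)
include B

theorem all_bs (f : (I → ℤ) →+ (I → ℤ)) (h1 : ∀ i, e (sr i) ∈ t.BS → f (sr i) ∈ Λ) (x : I → ℤ) : f x ∈ Λ :=
  mem_of_sr (Λ := Λ.comap f) (fun i => h1 i (B.bs i)) x

theorem of_full (h1 : t.full (t.sel (tr e Λ)) = true) (x : I → ℤ) : x ∈ Λ :=
  mem_of_sr (fun i => mem_tr.1 (Tb.sel_sub _ (List.contains_iff_mem.1 (List.all_eq_true.1 h1 _ (B.bs i))))) x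

theorem of_sp (f : (I → ℤ) →+ (I → ℤ)) {S : List V} (hS : ∀ a ∈ S, a ∈ tr e Λ) {g : V → V} (hg : ∀ x, e (f x) = g (e x))
    (h1 : (t.BS.all fun x => t.sp S (g x)) = true) (x : I → ℤ) : f x ∈ Λ :=
  B.all_bs f (fun _ hi => mem_tr.1 (hg _ ▸ t.sp_mem hS (List.all_eq_true.1 h1 _ hi))) x

theorem of_eq (f f' : (I → ℤ) →+ (I → ℤ)) {g g' : V → V} (hg : ∀ x, e (f x) = g (e x)) (hg' : ∀ x, e (f' x) = g' (e x))
    (h1 : (t.BS.all fun x => g x == g' x) = true) (x : I → ℤ) : f x = f' x :=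
  hom_ext_sr (fun i => e.injective (by rw [hg, hg']; exact beq_iff_eq.1 (List.all_eq_true.1 h1 _ (B.bs i)))) x

theorem stab {f : (I → ℤ) → (I → ℤ)} {m : M} (h1 : ∀ x, e (f x) = t.ap m (e x)) (h2 : ∀ a, IsRoot cs h a → IsRoot cs h (f a))
    (h3 : ∀ x ∈ Λ, f x ∈ Λ) : t.stab m (t.sel (tr e Λ)) = true := List.all_eq_true.2 fun a ha => by
  obtain ⟨a, rfl⟩ := e.surjective a
  rw [← h1, Tb.ins_sel B.bas ((B.root _).1 (h2 a ((B.root a).2 ((Tb.bas B.bas).2.2.1 _ (Tb.mem_sel.1 ha).1)))), mem_tr]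
  exact h3 a (mem_tr.1 (Tb.sel_sub _ ha))

theorem cnt (Λ : AddSubgroup (I → ℤ)) : (Ps cs h Λ).ncard = t.cnt (t.sel (tr e Λ)) := by
  rw [← Set.ncard_image_of_injective _ e.injective, Tb.cnt, ← List.toFinset_card_of_nodup ((Tb.bas B.bas).1.filter _),
    ← Set.ncard_coe_finset]
  congr 1
  ext x
  obtain ⟨x, rfl⟩ := e.surjective x
  rw [e.injective.mem_set_image, List.coe_toFinset, Set.mem_ofPred_eq, List.mem_filter, ← B.root]
  exact and_congr_right fun hx => by rw [Tb.ins_sel B.bas ((B.root x).1 hx), mem_tr]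

theorem nonempty (h1 : (Ps cs h Λ).Nonempty) : (t.sel (tr e Λ)).isEmpty = false := by
  obtain ⟨a, ha, h2⟩ := h1
  have h3 := (Tb.ins_sel B.bas ((B.root a).1 ha)).2 (mem_tr.2 h2)
  by_contra h4
  rw [List.isEmpty_iff.1 (Bool.of_not_eq_false h4)] at h3
  exact absurd h3 (by simp [ins])

theorem exists_word [Finite W] : ∀ L : List V, (∀ c ∈ L, c ∈ t.RL) →
    ∃ w : W, ∀ x, e (rep cs h w x) = L.foldr (fun c y => y - t.cp y c • c) (e x)
  | [], _ => ⟨1, fun x => by rw [map_one]; rfl⟩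
  | c :: L, h1 => by
    obtain ⟨w, hw⟩ := exists_word L fun d hd => h1 d (List.mem_cons_of_mem c hd)
    obtain ⟨c, rfl⟩ := e.surjective c
    have hc := (B.root c).2 (h1 _ List.mem_cons_self)
    obtain ⟨s, hs⟩ := Tab.exists_rf cs h hc
    exact ⟨s * w, fun x => by rw [rep_mul_apply, hs, map_sub, map_zsmul, B.cp _ _ hc, hw]; rfl⟩

variable [Finite W] {k : ℕ}

theorem pm (c : t.cPm = true) (v : W) (j : ℤ) (h1 : ∀ x, θ x ∈ Λ ↔ x ∈ Λ) (h2 : ∀ x, rep cs h v x - j • x ∈ Λ)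
    (h3 : (Ps cs h Λ).Nonempty) : (∀ x, (j - 1) • x ∈ Λ) ∨ ∀ x, (j + 1) • x ∈ Λ := by
  obtain ⟨m, hm, hθ⟩ := B.tl
  obtain ⟨u, hu, hv⟩ := B.wl v
  have h4 : m ∈ t.TL.filter (t.stab · (t.sel (tr e Λ))) := List.mem_filter.2 ⟨hm, B.stab hθ B.rt fun x => (h1 x).2⟩
  have h5 : u ∈ t.WL.filter (t.stab · (t.sel (tr e Λ))) := List.mem_filter.2 ⟨hu, B.stab hv (fun a ha => ha.act v) fun x hx => by
    simpa using add_mem (h2 x) (Λ.zsmul_mem hx j)⟩
  have h6 := List.all_eq_true.1 c _ (Tb.sel_mem (tr e Λ) B.bas)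
  simp only [Bool.or_eq_true, B.nonempty h3, Bool.false_eq_true, false_or] at h6
  rcases h6 with (h6 | h6) | h6
  · exact Or.inl fun x => B.of_full h6 _
  · rw [List.isEmpty_iff.1 h6] at h4
    exact absurd h4 List.not_mem_nil
  have h7 := List.all_eq_true.1 h6 _ h5
  simp only [Bool.or_eq_true] at h7
  rcases h7 with (h7 | h7) | h7
  · refine Or.inl fun x => ?_
    have h8 := sub_mem (B.of_sp ((rep cs h v).toAddMonoidHom - AddMonoidHom.id _) Tb.sel_sub
      (fun x => by rw [← hv, ← map_sub]; rfl) h7 x) (h2 x)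
    convert h8 using 1
    show _ = rep cs h v x - x - _
    module
  · refine Or.inr fun x => ?_
    have h8 := sub_mem (B.of_sp ((rep cs h v).toAddMonoidHom + AddMonoidHom.id _) Tb.sel_sub
      (fun x => by rw [← hv, ← map_add]; rfl) h7 x) (h2 x)
    convert h8 using 1
    show _ = rep cs h v x + x - _
    module
  obtain ⟨b, hb, h8⟩ := List.any_eq_true.1 (List.all_eq_true.1 h7 _ h4)
  obtain ⟨b, rfl⟩ := e.surjective b
  simp only [Bool.and_eq_true, Bool.not_eq_true', beq_iff_eq, ← hθ, ← hv, ← map_neg, e.injective.eq_iff,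
    ← Bool.not_eq_true, Tb.ins_sel B.bas hb, mem_tr] at h8
  obtain ⟨⟨⟨a1, a2⟩, a3⟩, a4⟩ := h8
  have a5 : (j + 1) • b ∈ Λ := by
    convert neg_mem (h2 b) using 1
    rw [a2]
    module
  have a6 : (j - 1) • b ∈ Λ := (h1 _).1 (by
    convert neg_mem (h2 (θ b)) using 1
    rw [a3, map_zsmul]
    module)
  have a7 : (2 : ℤ) • b ∈ Λ := by
    convert sub_mem a5 a6 using 1
    module
  let d : (I → ℤ) →+ (I → ℤ) := (2 : ℤ) • AddMonoidHom.id _
  have a8 : ∀ x, (4 : ℤ) • x ∈ Λ := fun x => by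
    have a9 := B.of_sp (Λ := Λ.comap d) d (fun a ha => ?_) (g := fun x => (2 : ℤ) • x) (fun x => map_zsmul e 2 x) a4 x
    · convert (show (2 : ℤ) • (2 : ℤ) • x ∈ Λ from a9) using 1
      module
    simp only [List.mem_cons] at ha
    rcases ha with rfl | rfl | rfl | ha
    · exact mem_tr.2 a7
    · exact mem_tr.2 (show (2 : ℤ) • θ b ∈ Λ from map_zsmul θ 2 b ▸ (h1 _).2 a7)
    · exact mem_tr.2 (show (2 : ℤ) • θ (θ b) ∈ Λ from map_zsmul θ 2 _ ▸ map_zsmul θ 2 b ▸ (h1 _).2 ((h1 _).2 a7))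
    · obtain ⟨a, rfl⟩ := e.surjective a
      exact mem_tr.2 (Λ.zsmul_mem (mem_tr.1 (Tb.sel_sub _ ha)) 2)
  obtain ⟨i, rfl | rfl | rfl | rfl⟩ : ∃ i, j = 4 * i ∨ j = 4 * i + 1 ∨ j = 4 * i + 2 ∨ j = 4 * i + 3 := ⟨j / 4, by omega⟩
  · refine absurd ?_ a1
    convert sub_mem a5 (Λ.zsmul_mem a7 (2 * i)) using 1
    module
  · exact Or.inl fun x => by
      convert a8 (i • x) using 1
      module
  · refine absurd ?_ a1
    convert sub_mem a6 (Λ.zsmul_mem a7 (2 * i)) using 1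
    module
  · exact Or.inr fun x => by
      convert a8 ((i + 1) • x) using 1
      module

theorem pow_eq (v : W) (n : ℕ) {g : V → V} (hg : ∀ x, e (rep cs h (v ^ n) x) = g (e x))
    (h1 : (t.BS.all fun x => g x == x) = true) : v ^ n = 1 :=
  eq_one_of_fix cs h _ fun _ => B.of_eq (rep cs h (v ^ n)).toAddMonoidHom (AddMonoidHom.id _) hg (fun _ => rfl) h1 _

theorem rb (c1 : t.cCls k = true) (c2 : t.cPm = true) (c3 : t.cGen = true) (c4 : t.cOrd k = true) (c5 : t.cNeg = true)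
    (c6 : k = 1 → t.cG = true) : RB cs h k θ := by
  obtain ⟨m, hm, hθ⟩ := B.tl
  have k1 : ∀ Λ, St θ Λ → t.sel (tr e Λ) ∈ t.CL.filter (t.stab m) := fun Λ h1 =>
    List.mem_filter.2 ⟨Tb.sel_mem _ B.bas, B.stab hθ B.rt h1⟩
  have k2 := fun Λ (h1 : St θ Λ) (h2 : ∃ x, x ∉ Λ) => Bool.and_eq_true_iff.1 <|
    (Bool.or_eq_true_iff.1 (List.all_eq_true.1 c1 _ (Tb.sel_mem (tr e Λ) B.bas))).resolve_left fun h3 =>
      (Bool.or_eq_true_iff.1 h3).elim (fun h4 => h2.elim fun x hx => hx (B.of_full h4 x)) fun h4 => by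
        simpa [B.stab hθ B.rt h1] using List.all_eq_true.1 h4 m hm
  have k3 := Bool.and_eq_true_iff.1 (List.all_eq_true.1 c3 m hm)
  have k4 : ∀ {x} {Λ}, e x ∈ t.RP → ((t.sel (tr e Λ)).contains (e x) = true ↔ x ∈ Λ) := fun hx => by
    rw [List.contains_iff_mem, Tb.mem_sel, and_iff_right hx, mem_tr]
  refine ⟨fun Λ h1 h2 => ?_, fun Λ h1 h2 h3 => ?_, fun Λ => B.pm c2, ?_, fun Λ h1 h2 => ?_, fun v => ?_, fun v => ?_, ?_,
    fun hk v => ?_, fun hk => ?_⟩
  · have h3 := (k2 Λ h1 h2).1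
    simp only [Bool.or_eq_true, Bool.and_eq_true, beq_iff_eq, bne_iff_ne, ← B.cnt, or_assoc] at h3
    exact h3.imp_right (Or.imp_right (Or.imp (And.imp_right fun h4 hk => B.of_sp ((3 : ℤ) • AddMonoidHom.id _) Tb.sel_sub
      (fun x => map_zsmul e 3 x) (h4.resolve_left fun h5 => h5 hk))
      (And.imp_right (B.of_sp ((2 : ℤ) • AddMonoidHom.id _) Tb.sel_sub fun x => map_zsmul e 2 x))))
  · have h4 := (k2 Λ h1 h2).2
    simp only [Bool.or_eq_true, Bool.and_eq_true, beq_iff_eq, ← B.cnt, List.any_eq_true, Bool.not_eq_true',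
      ← Bool.not_eq_true, List.contains_iff_mem] at h4
    refine h4.resolve_right ?_
    rintro ⟨a, ha, b, hb, ⟨⟨h5, h6⟩, h7⟩, h8⟩
    obtain ⟨a, rfl⟩ := e.surjective a
    obtain ⟨b, rfl⟩ := e.surjective b
    rw [Tb.ins_sel B.bas ((Tb.bas B.bas).2.2.1 _ ha), mem_tr] at h5
    rw [Tb.ins_sel B.bas ((Tb.bas B.bas).2.2.1 _ hb), mem_tr] at h6
    rw [Tb.ins_sel B.bas h7, ← map_add, mem_tr] at h8
    exact h8 (h3 a b h5 h6)
  · obtain ⟨x, hx, h1⟩ := List.any_eq_true.1 k3.1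
    obtain ⟨y, hy, h2⟩ := List.any_eq_true.1 h1
    obtain ⟨x, rfl⟩ := e.surjective x
    obtain ⟨y, rfl⟩ := e.surjective y
    refine ⟨x, y, fun Λ h3 h4 h5 => B.of_full ?_⟩
    simpa only [(k4 hx).2 h4, (k4 hy).2 h5, Bool.not_true, Bool.false_or] using List.all_eq_true.1 h2 _ (k1 Λ h3)
  · have h3 := List.all_eq_true.1 k3.2 _ (k1 Λ h1)
    rw [B.nonempty h2, Bool.false_or] at h3
    obtain ⟨y, hy, h4⟩ := List.any_eq_true.1 h3
    obtain ⟨y, rfl⟩ := e.surjective y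
    refine ⟨y, fun Λ' h5 h6 h7 => B.of_full ?_⟩
    have h8 : (t.sel (tr e Λ)).all (t.sel (tr e Λ')).contains = true := List.all_eq_true.2 fun a ha =>
      List.contains_iff_mem.2 (Tb.mem_sel.2 ⟨(Tb.mem_sel.1 ha).1, h5 (Tb.mem_sel.1 ha).2⟩)
    simpa only [(k4 hy).2 h7, h8, Bool.not_true, Bool.false_or] using List.all_eq_true.1 h4 _ (k1 Λ' h6)
  · obtain ⟨u, hu, hv⟩ := B.wl v
    refine (Bool.or_eq_true_iff.1 (Bool.and_eq_true_iff.1 (List.all_eq_true.1 c4 u hu)).1).imp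
      (B.pow_eq v 4 fun x => by simp only [pow_succ', pow_zero, mul_one, rep_mul_apply, hv]) fun h1 => ?_
    obtain ⟨x, -, h2⟩ := List.any_eq_true.1 h1
    obtain ⟨x, rfl⟩ := e.surjective x
    exact ⟨x, (B.root _).2 (by rw [map_add, hv, hv]; exact List.contains_iff_mem.1 h2)⟩
  · obtain ⟨u, hu, hv⟩ := B.wl v
    exact (Bool.or_eq_true_iff.1 (Bool.and_eq_true_iff.1 (List.all_eq_true.1 c4 u hu)).2).imp
      (B.pow_eq v 6 fun x => by simp only [pow_succ', pow_zero, mul_one, rep_mul_apply, hv]) fun h1 =>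
      (Bool.and_eq_true_iff.1 h1).imp beq_iff_eq.1
        (B.pow_eq v 4 fun x => by simp only [pow_succ', pow_zero, mul_one, rep_mul_apply, hv])
  · obtain ⟨h1, h2⟩ := Bool.and_eq_true_iff.1 c5
    obtain ⟨w, hw⟩ := B.exists_word t.NG fun c hc => List.contains_iff_mem.1 (List.all_eq_true.1 h1 c hc)
    exact ⟨w, B.of_eq (rep cs h w).toAddMonoidHom (-AddMonoidHom.id _)
      (g := fun y => t.NG.foldr (fun c y => y - t.cp y c • c) y) hw (fun x => map_neg e x) h2⟩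
  · obtain ⟨u, hu, hv⟩ := B.wl v
    have h1 := List.all_eq_true.1 (Bool.and_eq_true_iff.1 (c6 hk)).1 u hu
    simp only [Bool.or_eq_true, or_assoc] at h1
    refine h1.imp (B.of_eq (rep cs h v).toAddMonoidHom (AddMonoidHom.id _) hv fun _ => rfl)
      (Or.imp (B.of_eq (rep cs h v).toAddMonoidHom (-AddMonoidHom.id _) hv fun x => map_neg e x) fun h2 => ?_)
    obtain ⟨x, -, h3⟩ := List.any_eq_true.1 h2
    obtain ⟨x, rfl⟩ := e.surjective x
    exact ⟨x, (B.root _).2 (by rw [map_add, hv]; exact List.contains_iff_mem.1 h3)⟩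
  · obtain ⟨x, hx, h1⟩ := List.any_eq_true.1 (Bool.and_eq_true_iff.1 (c6 hk)).2
    obtain ⟨y, hy, h2⟩ := List.any_eq_true.1 h1
    obtain ⟨x, rfl⟩ := e.surjective x
    obtain ⟨y, rfl⟩ := e.surjective y
    refine ⟨x, y, fun Λ ⟨z, hz⟩ => ?_⟩
    have h3 := (Bool.or_eq_true_iff.1 (List.all_eq_true.1 h2 _ (Tb.sel_mem (tr e Λ) B.bas))).resolve_left
      fun h4 => hz (B.of_full h4 z)
    simp only [Bool.or_eq_true, Bool.and_eq_true, beq_iff_eq, bne_iff_ne, ← B.cnt, Bool.not_eq_true', ← Bool.not_eq_true,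
      k4 hx, k4 hy, List.any_eq_true] at h3
    obtain ⟨⟨h4, h5⟩, h6⟩ := h3
    refine ⟨fun a b => h4.elim (· a) (· b), fun h7 => ⟨fun a => h5.resolve_left (· a), fun a => ?_⟩⟩
    refine (h6.resolve_right ?_).resolve_right (· a)
    rintro ⟨b, hb, h8, c, -, h9⟩
    obtain ⟨b, rfl⟩ := e.surjective b
    obtain ⟨c, rfl⟩ := e.surjective c
    have h10 := Tb.of_ins h9
    rw [← map_zsmul, ← map_add, mem_tr, add_mem_cancel_right (h7 c)] at h10
    exact h8 ((Tb.ins_sel B.bas hb).2 (mem_tr.2 h10))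

end Br

end Root

end Cfsg.Agent.N2.G2.A

private theorem dce_a63c003bb256 : _root_.True := by
  try have : _root_.True := by simp only [_root_.Cfsg.Agent.N2.G2.A.Tb.cnt.eq_1]
  try have : _root_.True := by simp only [_root_.Cfsg.Agent.N2.G2.A.Tb.full.congr_simp]
  try have : _root_.True := by simp only [_root_.Cfsg.Agent.N2.G2.A.Tb.cl.congr_simp]
  try have : _root_.True := by simp only [_root_.Cfsg.Agent.N2.G2.A.tr.eq_1]
  try have : _root_.True := by simp only [_root_.Cfsg.Agent.N2.G2.A.Tb.cBas.eq_1]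
  try have : _root_.True := by simp only [_root_.Cfsg.Agent.N2.G2.A.ins.eq_1]
  try have : _root_.True := by simp only [_root_.Cfsg.Agent.N2.G2.A.Tb.sel.eq_1]
  try have : _root_.True := by simp only [_root_.Cfsg.Agent.N2.G2.A.Tb.stab.congr_simp]
  try have : _root_.True := by simp only [_root_.Cfsg.Agent.N2.G2.A.ins.congr_simp]
  try have : _root_.True := by simp only [_root_.Cfsg.Agent.N2.G2.A.Tb.sp.congr_simp]
  try have : _root_.True := by simp only [_root_.Cfsg.Agent.N2.G2.A.Tb.TR.eq_1]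
  try have : _root_.True := by simp only [_root_.Cfsg.Agent.N2.G2.A.Tb.cnt.congr_simp]
  try have : _root_.True := by simp only [_root_.Cfsg.Agent.SB.Low.Ps.congr_simp]
  exact _root_.True.intro
end

-- part: N2/G2/ATabI
section
set_option linter.all false
open scoped Cfsg.Agent.FastGrp

/-!
# N2, `G₂(q)` and `³D₄(q)`, box [A]: the tables (helper52)
-/

set_option autoImplicit false
set_option maxRecDepth 100000

namespace Cfsg.Agent.N2.G2.A

open Cfsg.Agent.SB.Low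

/-- the table of `G₂` -/
def tG : Tb Tab.G.T2 Tab.G.M2 where
  ap := Tab.G.ap
  cp x c := 2 * Tab.G.bf x c / Tab.G.bf c c
  RL := Tab.G.RL
  RP := [(0, 1), (1, 0), (1, 1), (2, 1), (3, 1), (3, 2)]
  BS := [(1, 0), (0, 1)]
  WL := Tab.G.WL
  TL := Tab.G.WL
  CL := [[], [(0, 1)], [(1, 0)], [(1, 1)], [(2, 1)], [(0, 1), (2, 1)], [(3, 1)], [(1, 1), (3, 1)], [(3, 2)], [(1, 0), (3, 2)],
    [(0, 1), (3, 1), (3, 2)], [(0, 1), (1, 0), (1, 1), (2, 1), (3, 1), (3, 2)]]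
  NG := [(1, 0), (3, 2)]

open Tab.D in
/-- the table of `D₄` with the triality -/
def tD : Tb T4 M4 where
  ap := ap
  cp := ip
  RL := RL
  RP := [r12, r13, r14, r15, r16, r17, r18, r19, r20, r21, r22, r23]
  BS := [r18, r14, r13, r12]
  WL := WL
  TL := WL.map tm
  CL := [[], [r12], [r13], [r12, r13], [r14], [r15], [r12, r14, r15], [r16], [r13, r14, r16], [r15, r16], [r17], [r14, r17],
    [r13, r15, r17], [r12, r16, r17], [r12, r13, r14, r15, r16, r17], [r18], [r12, r18], [r13, r18], [r12, r13, r18],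
    [r19], [r15, r19], [r16, r19], [r15, r16, r19], [r14, r18, r19], [r20], [r14, r20], [r17, r20], [r14, r17, r20], [r15,
    r18, r20], [r12, r19, r20], [r12, r14, r15, r18, r19, r20], [r21], [r14, r21], [r17, r21], [r14, r17, r21], [r16, r18,
    r21], [r13, r19, r21], [r13, r14, r16, r18, r19, r21], [r20, r21], [r14, r20, r21], [r17, r20, r21], [r14, r17, r20,
    r21], [r22], [r15, r22], [r16, r22], [r15, r16, r22], [r17, r18, r22], [r19, r22], [r15, r19, r22], [r16, r19, r22],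
    [r15, r16, r19, r22], [r13, r20, r22], [r13, r15, r17, r18, r20, r22], [r12, r21, r22], [r12, r16, r17, r18, r21,
    r22], [r12, r13, r19, r20, r21, r22], [r23], [r12, r23], [r13, r23], [r12, r13, r23], [r18, r23], [r12, r18, r23],
    [r13, r18, r23], [r12, r13, r18, r23], [r17, r19, r23], [r16, r20, r23], [r12, r16, r17, r19, r20, r23], [r15, r21,
    r23], [r13, r15, r17, r19, r21, r23], [r15, r16, r18, r20, r21, r23], [r14, r22, r23], [r14, r17, r18, r19, r22, r23],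
    [r13, r14, r16, r20, r22, r23], [r12, r14, r15, r21, r22, r23], [r12, r13, r14, r15, r16, r17, r18, r19, r20, r21,
    r22, r23]]
  NG := [r12, r13, r18, r23]

theorem gBas : tG.cBas = true := by decide +kernel
theorem gCls : tG.cCls 1 = true := by decide +kernel
theorem gPm : tG.cPm = true := by decide +kernel
theorem gGen : tG.cGen = true := by decide +kernel
theorem gOrd : tG.cOrd 1 = true := by decide +kernel
theorem gNeg : tG.cNeg = true := by decide +kernel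
theorem gG : tG.cG = true := by decide +kernel

noncomputable section Fast

open Tab.D

attribute [-instance] instBEqProd

private def hh (x : T4) : ℤ := x.1 + 8 * x.2.1 + 2 * x.2.2.1 + 4 * x.2.2.2

private def hq (m : M4) (a : T4) : ℕ :=
  (a.1 * hh m.1 + a.2.1 * hh m.2.1 + a.2.2.1 * hh m.2.2.1 + a.2.2.2 * hh m.2.2.2).natAbs

private theorem hq_eq (m : M4) (a : T4) : hq m a = (hh (ap m a)).natAbs := by
  unfold hq hh ap
  congr 1
  ring

private def mk (S : List T4) : ℕ := List.rec 0 (fun a _ n => Nat.lor n (Nat.pow 2 (hh a).natAbs)) S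

private def tb (n i : ℕ) : Bool := Nat.beq (Nat.land (Nat.shiftRight n i) 1) 1

private theorem tb_of {n i : ℕ} (h : n.testBit i = true) : tb n i = true := by
  have h1 : tb n i = Nat.beq ((n >>> i) &&& 1) 1 := rfl
  rw [Nat.testBit_eq_decide_div_mod_eq, decide_eq_true_eq] at h
  rw [h1, Nat.and_one_is_mod, Nat.shiftRight_eq_div_pow, h]
  rfl

private theorem tb_mem {x : T4} : ∀ {S : List T4}, x ∈ S → (mk S).testBit (hh x).natAbs = true
  | a :: S, h => by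
    have h1 : mk (a :: S) = mk S ||| 2 ^ (hh a).natAbs := rfl
    rw [h1, Nat.testBit_or]
    rcases List.mem_cons.1 h with rfl | h
    · rw [Nat.testBit_two_pow_self, Bool.or_true]
    · rw [tb_mem h, Bool.true_or]

private theorem tb_ins {x : T4} {S : List T4} (h : ins S x = true) : tb (mk S) (hh x).natAbs = true := by
  simp only [ins, Bool.or_eq_true, List.contains_iff_mem] at h
  rcases h with h | h
  · exact tb_of (tb_mem h)
  · have h1 : hh (-x) = -hh x := by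
      show -x.1 + 8 * -x.2.1 + 2 * -x.2.2.1 + 4 * -x.2.2.2 = -(x.1 + 8 * x.2.1 + 2 * x.2.2.1 + 4 * x.2.2.2)
      ring
    have h2 := tb_of (tb_mem h)
    rwa [h1, Int.natAbs_neg] at h2

private def stF (m : M4) (S : List T4) : Bool := S.all fun a => tb (mk S) (hq m a)

private theorem stF_of {m : M4} {S : List T4} (h : tD.stab m S = true) : stF m S = true :=
  List.all_eq_true.2 fun a ha => hq_eq m a ▸ tb_ins (List.all_eq_true.1 h a ha)

private def fn (n : ℕ) (k : ℕ → Bool) : Bool := Nat.rec (k 0) (fun n _ => k (Nat.succ n)) n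

private theorem fn_eq (n : ℕ) (k : ℕ → Bool) : fn n k = k n := by cases n <;> rfl

private def fi (x : ℤ) (k : ℤ → Bool) : Bool :=
  Int.rec (fun n => fn n fun n => k (Int.ofNat n)) (fun n => fn n fun n => k (Int.negSucc n)) x

private theorem fi_eq (x : ℤ) (k : ℤ → Bool) : fi x k = k x := by
  rcases x with (_ | _) | (_ | _) <;> rfl

private def f4 (x : T4) (k : T4 → Bool) : Bool :=
  fi x.1 fun a => fi x.2.1 fun b => fi x.2.2.1 fun c => fi x.2.2.2 fun d => k (a, b, c, d)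

private theorem f4_eq (x : T4) (k : T4 → Bool) : f4 x k = k x := by
  simp only [f4, fi_eq]

private def cc (b : Bool) : Bool := Bool.rec false true b

private theorem cc_eq (b : Bool) : cc b = b := by cases b <;> rfl

private def rdK (S : List T4) (k : T4 → Bool) : T4 → Bool :=
  List.rec k (fun a _ ih y => fi ((ip y a).tdiv 2) fun c =>
    f4 (Int.sub y.1 (Int.mul c a.1), Int.sub y.2.1 (Int.mul c a.2.1), Int.sub y.2.2.1 (Int.mul c a.2.2.1),
      Int.sub y.2.2.2 (Int.mul c a.2.2.2)) ih) S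

private theorem rdK_eq (k : T4 → Bool) : ∀ (S : List T4) (x : T4), rdK S k x = k (tD.rd S x)
  | [], _ => rfl
  | a :: S, x => (fi_eq ((ip x a).tdiv 2) fun c => f4 (x - c • a) (rdK S k)).trans
      ((f4_eq _ _).trans (rdK_eq k S (x - (ip x a).tdiv 2 • a)))

private def s3 (S : List T4) (y : T4) : Bool := rdK S (fun z => decide (z = 0)) y
private def s2 (S : List T4) (y : T4) : Bool := rdK S (fun z => cc (s3 S z)) y
private def s1 (S : List T4) (y : T4) : Bool := rdK S (fun z => cc (s2 S z)) y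
private def spF (S : List T4) (x : T4) : Bool := f4 x fun y => cc (s1 S y)

private theorem spF_eq (S : List T4) (x : T4) : spF S x = tD.sp S x := by
  simp only [spF, s1, s2, s3, f4_eq, cc_eq, rdK_eq]
  rfl

private theorem all_mono {α : Type} {L : List α} {p q f g : α → Bool} (h1 : ∀ x, p x = true → q x = true)
    (h : (L.filter q).all f = true) (h2 : ∀ x, f x = true → g x = true) : (L.filter p).all g = true :=
  List.all_eq_true.2 fun x hx => h2 x (List.all_eq_true.1 h x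
    (List.mem_filter.2 ⟨(List.mem_filter.1 hx).1, h1 x (List.mem_filter.1 hx).2⟩))

private theorem any_mono {α : Type} {L : List α} {f g : α → Bool} (h : L.any f = true) (h2 : ∀ x, f x = true → g x = true) :
    L.any g = true :=
  let ⟨x, h3, h4⟩ := List.any_eq_true.1 h
  List.any_eq_true.2 ⟨x, h3, h2 x h4⟩

private theorem or_mono {a b c d : Bool} (h : (a || b) = true) (h1 : a = true → c = true) (h2 : b = true → d = true) :
    (c || d) = true := Bool.or_eq_true_iff.2 ((Bool.or_eq_true_iff.1 h).imp h1 h2)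

private def clsF : Bool := tD.CL.all fun S => tD.full S || (tD.TL.filter (stF · S)).isEmpty ||
  ((tD.cnt S == 0 || tD.cnt S == 2 || (tD.cnt S == 6 && (3 != 1 || tD.BS.all fun x => spF S ((3 : ℤ) • x))) ||
    (tD.cnt S == 2 * (3 + 1) && tD.BS.all fun x => spF S ((2 : ℤ) • x))) &&
  (tD.cnt S == 2 * (3 + 1) || tD.RP.any fun a => tD.RP.any fun b => !ins S a && !ins S b && tD.RL.contains (a + b) &&
    !ins S (a + b)))

private def pmF : Bool := tD.CL.all fun S => S.isEmpty || tD.full S || (tD.TL.filter (stF · S)).isEmpty ||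
  (tD.WL.filter (stF · S)).all fun v => (tD.BS.all fun x => spF S (ap v x - x)) ||
    (tD.BS.all fun x => spF S (ap v x + x)) || (tD.TL.filter (stF · S)).all fun m => tD.RL.any fun b =>
      Nat.beq (hq v b) (hh b).natAbs && (!ins S b && f4 (ap v b) (fun c => decide (c = -b)) && f4 (ap m b) fun c =>
        f4 (ap v c) (fun d => decide (d = c)) &&
        f4 (ap m c) fun d => cc (tD.BS.all fun x => spF (b :: c :: d :: S) ((2 : ℤ) • x)))

private def genF : Bool := tD.TL.all fun m =>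
  (tD.RP.any fun x => tD.RP.any fun y => (tD.CL.filter (stF m)).all fun S =>
    !S.contains x || !S.contains y || tD.full S) &&
  (tD.CL.filter (stF m)).all fun S => S.isEmpty || tD.RP.any fun y => (tD.CL.filter (stF m)).all fun S' =>
    !S'.contains y || !S.all S'.contains || tD.full S'

private theorem emp {L : List M4} {S : List T4} (h : (L.filter (stF · S)).isEmpty = true) : ∀ m ∈ L, ¬ tD.stab m S = true :=
  fun m hm e => List.filter_eq_nil_iff.1 (List.isEmpty_iff.1 h) m hm (stF_of e)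

theorem dCls : tD.cCls 3 = true := List.all_eq_true.2 fun S hS =>
  or_mono (List.all_eq_true.1 (show clsF = true by decide +kernel) S hS)
    (or_mono · id fun h => List.all_eq_true.2 fun m hm => by simpa using emp h m hm) fun h => by simpa only [spF_eq] using h

theorem dPm : tD.cPm = true := List.all_eq_true.2 fun S hS =>
  or_mono (List.all_eq_true.1 (show pmF = true by decide +kernel) S hS)
    (or_mono · id fun h => List.isEmpty_iff.2 (List.filter_eq_nil_iff.2 (emp h))) fun h =>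
    all_mono (fun _ => stF_of) h fun v h => or_mono h (fun h => by simp only [spF_eq] at h; exact h) fun h =>
      all_mono (fun _ => stF_of) h fun m h => any_mono h fun b h => by
        have h1 := (Bool.and_eq_true_iff.1 h).2
        simp only [spF_eq, f4_eq, cc_eq, ← Bool.and_assoc] at h1
        exact h1

theorem dGen : tD.cGen = true := List.all_eq_true.2 fun m hm =>
  have h := Bool.and_eq_true_iff.1 (List.all_eq_true.1 (show genF = true by decide +kernel) m hm)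
  Bool.and_eq_true_iff.2 ⟨any_mono h.1 fun _ h => any_mono h fun _ h => all_mono (fun _ => stF_of) h fun _ => id,
    all_mono (fun _ => stF_of) h.2 fun _ h => or_mono h id fun h => any_mono h fun _ h =>
      all_mono (fun _ => stF_of) h fun _ => id⟩

private def p2 (v : M4) (x : T4) (k : T4 → Bool) : Bool := f4 (ap v x) fun y => f4 (ap v y) k

private def ordF : Bool := tD.WL.all fun v =>
  ((tD.BS.all fun x => p2 v x fun y => p2 v y fun z => decide (z = x)) ||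
    tD.RL.any fun x => p2 v x fun y => f4 (y + x) fun z => tD.RL.contains z) &&
  ((tD.BS.all fun x => p2 v x fun y => p2 v y fun z => decide (z = x)) ||
    (tD.BS.all fun x => p2 v x fun y => p2 v y fun y => p2 v y fun z => decide (z = x)))

theorem dOrd : tD.cOrd 3 = true := List.all_eq_true.2 fun v hv => by
  have h := List.all_eq_true.1 (show ordF = true by decide +kernel) v hv
  simp only [p2, f4_eq] at h
  exact Bool.and_eq_true_iff.2 ((Bool.and_eq_true_iff.1 h).imp_right fun h =>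
    Bool.or_eq_true_iff.2 (Bool.or_eq_true_iff.1 h).symm)

private def TRi : List (ℕ × ℕ × ℕ) := tD.TR.map fun x => ((hh x.1).natAbs, (hh x.2).natAbs, (hh (x.1 + x.2)).natAbs)
private def basF : Bool := tD.RP.sublists.all fun S =>
  fn (mk S) (fun n => TRi.any fun x => tb n x.1 && tb n x.2.1 != tb n x.2.2) || tD.CL.contains S

private theorem mem_tb {i : ℕ} : ∀ {S : List T4}, (mk S).testBit i = true → ∃ a ∈ S, (hh a).natAbs = i
  | [], h => absurd h (by simp [show mk [] = 0 from rfl])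
  | a :: S, h => by
    have h1 : mk (a :: S) = mk S ||| 2 ^ (hh a).natAbs := rfl
    rw [h1, Nat.testBit_or, Bool.or_eq_true, Nat.testBit_two_pow, decide_eq_true_eq] at h
    exact h.elim (fun h => let ⟨b, h2, h3⟩ := mem_tb h; ⟨b, List.mem_cons_of_mem _ h2, h3⟩) fun h => ⟨a, List.mem_cons_self, h⟩

private theorem tb_eq {S : List T4} (hS : S ⊆ tD.RP) {x : T4} (hx : x ∈ tD.RP) : tb (mk S) (hh x).natAbs = S.contains x := by
  have h0 : ∀ a ∈ tD.RP, ∀ b ∈ tD.RP, (hh a).natAbs = (hh b).natAbs → a = b := by decide +kernel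
  rw [Bool.eq_iff_iff, List.contains_iff_mem]
  refine ⟨fun h => ?_, fun h => tb_of (tb_mem h)⟩
  have h1 : ((mk S) >>> (hh x).natAbs) &&& 1 = 1 := Nat.eq_of_beq_eq_true h
  rw [Nat.and_one_is_mod, Nat.shiftRight_eq_div_pow] at h1
  obtain ⟨a, h2, h3⟩ := mem_tb (Nat.testBit_eq_decide_div_mod_eq.trans (decide_eq_true h1))
  exact h0 a (hS h2) x hx h3 ▸ h2

theorem dBas : tD.cBas = true := by
  refine Bool.and_eq_true_iff.2 ⟨by decide +kernel, List.all_eq_true.2 fun S hS =>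
    or_mono (List.all_eq_true.1 (show basF = true by decide +kernel) S hS) (fun h => ?_) id⟩
  have h0 : ∀ x ∈ tD.TR, x.1 ∈ tD.RP ∧ x.2 ∈ tD.RP ∧ x.1 + x.2 ∈ tD.RP := by decide +kernel
  have h1 := (List.mem_sublists.1 hS).subset
  rw [fn_eq, TRi, List.any_map, List.any_eq_true] at h
  obtain ⟨x, hx, h⟩ := h
  obtain ⟨h2, h3, h4⟩ := h0 x hx
  simp only [Function.comp, tb_eq h1 h2, tb_eq h1 h3, tb_eq h1 h4, Bool.and_eq_true, bne_iff_ne] at h
  rw [Bool.not_eq_true', ← Bool.not_eq_true]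
  intro e
  have h5 := List.all_eq_true.1 e x hx
  rw [if_pos h.1] at h5
  exact h.2 (beq_iff_eq.1 h5)

theorem dNeg : tD.cNeg = true := by decide +kernel

end Fast

end Cfsg.Agent.N2.G2.A
end

-- part: N2/G2/ABr
section
prune_inst 0x9040300000000000000000010000000400000
set_option linter.all false
open scoped Cfsg.Agent.FastGrp

/-!
# N2, `G₂(q)` and `³D₄(q)`, box [A]: the two root systems (helper52)

`Ty cs h k θ` : the facts on the root system and the twisted action `θ`; `tyG`, `tyD`.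
-/

set_option autoImplicit false
set_option linter.unusedSectionVars false

namespace Cfsg.Agent.N2.G2.A

open Subgroup Cfsg Cfsg.Lie CoxeterSystem
open Cfsg.Agent.ChevalleyStructure Cfsg.Agent.ChevalleyStructure.CoxeterGeom Cfsg.Agent.Tits.Roots Cfsg.Agent.Nodes.Reps
  Cfsg.Agent.Nodes.Coroot Cfsg.Agent.SB.Low

section Root

variable {I W : Type} [Fintype I] [DecidableEq I] [Group W] {M₀ : CoxeterMatrix I} (cs : CoxeterSystem M₀ W)
  {A : I → I → ℤ} (h : IsCartan M₀ A)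

/-- the facts on the root system -/
structure Ty (k : ℕ) (θ : (I → ℤ) →+ (I → ℤ)) : Prop extends RB cs h k θ where
  cardI : Fintype.card I = k + 1
  pp : PPr cs h
  cw : {v : W | ∀ x, θ (rep cs h v x) = rep cs h v (θ x)}.ncard ≤ ww k
  dvd : Nat.card W ∣ 192
  w12 : k = 1 → Nat.card W = 12
  inn : k = 1 → ∃ w, ∀ x, θ x = rep cs h w x
  tor : ∀ (q : ℕ) (ψ : (I → ℤ) →ₗ[ℤ] (I → ℤ)), 1 ≤ q → (∀ x, ψ (θ x) = (q : ℤ) • x) →
    Tor k q (LinearMap.det (ψ - 1)).natAbs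

omit [Group W] in
theorem det_psi {θ : (I → ℤ) →+ (I → ℤ)} {q : ℕ} {ψ : (I → ℤ) →ₗ[ℤ] (I → ℤ)} (hψ : ∀ x, ψ (θ x) = (q : ℤ) • x)
    (h1 : (LinearMap.det θ.toIntLinearMap).natAbs = 1) :
    (LinearMap.det (ψ - 1)).natAbs = (LinearMap.det ((q : ℤ) • 1 - θ.toIntLinearMap)).natAbs := by
  have h3 : (ψ - 1) * θ.toIntLinearMap = (q : ℤ) • 1 - θ.toIntLinearMap := LinearMap.ext fun x => by simp [hψ x]
  rw [← h3, map_mul, Int.natAbs_mul, h1, mul_one]

end Root

theorem nat_eq {z : ℤ} {n : ℕ} (h : z = n ∨ z = -n) : z.natAbs = n := by rcases h with rfl | rfl <;> simp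

/-! ### `G₂` -/

/-- coordinates -/
def eG : (Fin 2 → ℤ) ≃+ Tab.G.T2 := ⟨⟨Tab.G.vt, Tab.G.tv, Tab.G.tv_vt, fun _ => rfl⟩, Tab.G.vt_add⟩

theorem gTor : (Tab.G.WL.all fun m => [((2 : ℤ), (1 : ℤ)), (-2, 1), (0, -1), (-1, 1), (1, 1)].contains
    (m.1.1 + m.2.2, Tab.G.dt m.1 m.2)) = true := by decide +kernel

theorem detG (f : (Fin 2 → ℤ) →ₗ[ℤ] (Fin 2 → ℤ)) :
    LinearMap.det f = Tab.G.dt (Tab.G.vt (f (sr 0))) (Tab.G.vt (f (sr 1))) := by
  rw [← LinearMap.det_toMatrix', Matrix.det_fin_two]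
  simp only [LinearMap.toMatrix'_apply, Tab.G.dt, Tab.G.vt, sr]
  ring

theorem tyG (w : CoxeterMatrix.G₂.Group) : Ty CoxeterMatrix.G₂.toCoxeterSystem hpG2.isCartan 1
    (tw CoxeterMatrix.G₂.toCoxeterSystem hpG2.isCartan w (AddEquiv.refl (Fin 2 → ℤ)).toAddMonoidHom) := by
  have := Nodes.RGDChev.finite_W hpG2 CoxeterMatrix.G₂.toCoxeterSystem
  have h12 : Nat.card CoxeterMatrix.G₂.Group = 12 := WeylData.certG2.card_group.trans WeylData.size_G2
  have B : Br _ hpG2.isCartan tG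
      (tw CoxeterMatrix.G₂.toCoxeterSystem hpG2.isCartan w (AddEquiv.refl (Fin 2 → ℤ)).toAddMonoidHom) eG :=
    ⟨Tab.G.root_iff _, fun x _ hc => Tab.G.cpr_eq _ x hc, by decide +kernel,
      fun v => ⟨_, Tab.G.mat_mem _ v, Tab.G.ap_mat _ v⟩, ⟨_, Tab.G.mat_mem _ w, Tab.G.ap_mat _ w⟩, fun _ ha => ha.act w, gBas⟩
  refine ⟨B.rb gCls gPm gGen gOrd gNeg fun _ => gG, rfl, boxTabG.pp, ?_, h12 ▸ by norm_num, fun _ => h12,
    fun _ => ⟨w, fun _ => rfl⟩, fun q ψ hq hψ => Or.inl ⟨rfl, ?_⟩⟩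
  · exact (Set.ncard_le_card _).trans h12.le
  have h1 := List.contains_iff_mem.1 (List.all_eq_true.1 gTor _ (Tab.G.mat_mem CoxeterMatrix.G₂.toCoxeterSystem w))
  have h2 : LinearMap.det (tw CoxeterMatrix.G₂.toCoxeterSystem hpG2.isCartan w
      (AddEquiv.refl (Fin 2 → ℤ)).toAddMonoidHom).toIntLinearMap =
      Tab.G.dt (Tab.G.mat CoxeterMatrix.G₂.toCoxeterSystem w).1 (Tab.G.mat CoxeterMatrix.G₂.toCoxeterSystem w).2 := detG _
  have h3 : LinearMap.det ((q : ℤ) • 1 - (tw CoxeterMatrix.G₂.toCoxeterSystem hpG2.isCartan w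
      (AddEquiv.refl (Fin 2 → ℤ)).toAddMonoidHom).toIntLinearMap) = q ^ 2 -
      ((Tab.G.mat CoxeterMatrix.G₂.toCoxeterSystem w).1.1 + (Tab.G.mat CoxeterMatrix.G₂.toCoxeterSystem w).2.2) * q +
      Tab.G.dt (Tab.G.mat CoxeterMatrix.G₂.toCoxeterSystem w).1 (Tab.G.mat CoxeterMatrix.G₂.toCoxeterSystem w).2 := by
    rw [detG]
    simp [Tab.G.mat, Tab.G.dt, Tab.G.vt, sr, tw]
    ring
  generalize (Tab.G.mat CoxeterMatrix.G₂.toCoxeterSystem w).1.1 + (Tab.G.mat CoxeterMatrix.G₂.toCoxeterSystem w).2.2 = a at h1 h3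
  generalize Tab.G.dt (Tab.G.mat CoxeterMatrix.G₂.toCoxeterSystem w).1 (Tab.G.mat CoxeterMatrix.G₂.toCoxeterSystem w).2 = b
    at h1 h2 h3
  simp only [List.mem_cons, Prod.mk.injEq, List.not_mem_nil, or_false] at h1
  rw [det_psi hψ (by rw [h2]; rcases h1 with h | h | h | h | h <;> rw [h.2] <;> rfl), h3]
  obtain ⟨q, rfl⟩ := Nat.exists_eq_add_of_le' hq
  have e2 : (q + 1) ^ 2 - 1 = q ^ 2 + 2 * q := Nat.sub_eq_of_eq_add (by ring)
  have e3 : (q + 1) ^ 2 - (q + 1) = q ^ 2 + q := Nat.sub_eq_of_eq_add (by ring)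
  rw [e2, e3, Nat.add_sub_cancel]
  rcases h1 with ⟨rfl, rfl⟩ | ⟨rfl, rfl⟩ | ⟨rfl, rfl⟩ | ⟨rfl, rfl⟩ | ⟨rfl, rfl⟩
  · exact Or.inl (nat_eq (Or.inl (by push_cast; ring)))
  · exact Or.inr (Or.inl (nat_eq (Or.inl (by push_cast; ring))))
  · exact Or.inr (Or.inr (Or.inl (nat_eq (Or.inl (by push_cast; ring)))))
  · exact Or.inr (Or.inr (Or.inr (Or.inl (nat_eq (Or.inl (by push_cast; ring))))))
  · exact Or.inr (Or.inr (Or.inr (Or.inr (nat_eq (Or.inl (by push_cast; ring))))))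

/-! ### `D₄` -/

/-- coordinates -/
def eD : (Fin 4 → ℤ) ≃+ Tab.D.T4 := ⟨⟨Tab.D.vt, Tab.D.tv, Tab.D.tv_vt, fun _ => rfl⟩, Tab.D.vt_add⟩

open Tab.D in
theorem dTor : (WL.all fun m => [((1 : ℤ), (0 : ℤ), (1 : ℤ), (1 : ℤ)), (-1, 0, 1, -1), (1, 0, -1, -1), (-1, 0, -1, 1),
    (-2, 3, -2, 1), (2, 3, 2, 1), (0, -1, 0, 1)].contains (e1 (tm m), e2 (tm m), e3 (tm m), e4 (tm m))) = true := by
  decide +kernel

open Tab.D Nodes.RGDTwD4 in
theorem tyD (w : coxeterD4.Group) : Ty coxeterD4.toCoxeterSystem hp.isCartan 3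
    (tw coxeterD4.toCoxeterSystem hp.isCartan w (H720.TwFr.permE H720.TwFr.rho4).toAddMonoidHom) := by
  have := Nodes.RGDChev.finite_W hp coxeterD4.toCoxeterSystem
  have hT := boxTabD.2 w
  have hm := mat_mem coxeterD4.toCoxeterSystem w
  have hθ : ∀ x, vt (tw coxeterD4.toCoxeterSystem hp.isCartan w (H720.TwFr.permE H720.TwFr.rho4).toAddMonoidHom x) =
      ap (tm (mat coxeterD4.toCoxeterSystem w)) (vt x) := fun x => by
    show vt (rep _ hp.isCartan w (H720.TwFr.permE H720.TwFr.rho4 x)) = _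
    rw [ap_mat, g_eq]
    simp only [ap, tm, id4, r18, r14, r13, r12]
    refine Prod.ext ?_ (Prod.ext ?_ (Prod.ext ?_ ?_)) <;> simp only <;> ring
  have hr : ∀ a, IsRoot coxeterD4.toCoxeterSystem hp.isCartan a → IsRoot coxeterD4.toCoxeterSystem hp.isCartan
      (tw coxeterD4.toCoxeterSystem hp.isCartan w (H720.TwFr.permE H720.TwFr.rho4).toAddMonoidHom a) := fun a ha => by
    refine IsRoot.act ((root_iff _ _).2 ?_) w
    show vt (H720.TwFr.permE H720.TwFr.rho4 a) ∈ RL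
    rw [g_eq]
    exact List.contains_iff_mem.1 (List.all_eq_true.1 chk_g _ ((root_iff _ a).1 ha))
  generalize tw coxeterD4.toCoxeterSystem hp.isCartan w (H720.TwFr.permE H720.TwFr.rho4).toAddMonoidHom = θ at hT hθ hr
  generalize mat coxeterD4.toCoxeterSystem w = m at hm hθ
  have B : Br _ hp.isCartan tD θ eD :=
    ⟨root_iff _, fun x _ hc => cpr_eq _ x hc, by decide +kernel, fun v => ⟨_, mat_mem _ v, ap_mat _ v⟩,
      ⟨_, List.mem_map_of_mem hm, hθ⟩, hr, dBas⟩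
  refine ⟨B.rb dCls dPm dGen dOrd dNeg fun h => absurd h (by norm_num), rfl, boxTabD.1.pp, hT.cw,
    (WeylData.certD4.card_group.trans WeylData.size_D4).dvd, fun h => absurd h (by norm_num), fun h => absurd h (by norm_num),
    fun q ψ hq hψ => Or.inr ⟨rfl, ?_⟩⟩
  have h1 := List.contains_iff_mem.1 (List.all_eq_true.1 dTor m hm)
  have h2 : mt θ = tm m := by
    simp only [Tab.D.mt, hθ]
    simp [ap, vt, sr]
  have h5 : LinearMap.det ((q : ℤ) • 1 - θ.toIntLinearMap) =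
      q ^ 4 - e1 (mt θ) * q ^ 3 + e2 (mt θ) * q ^ 2 - e3 (mt θ) * q + e4 (mt θ) := by
    rw [det_eq]
    simp [Tab.D.mt, e1, e2, e3, e4, dt, cr, vt, sr]
    ring
  have h6 : LinearMap.det θ.toIntLinearMap = e4 (mt θ) := det_eq _
  rw [h2] at h5 h6
  generalize e1 (tm m) = a at h1 h5
  generalize e2 (tm m) = b at h1 h5
  generalize e3 (tm m) = c at h1 h5
  generalize e4 (tm m) = d at h1 h5 h6
  simp only [List.mem_cons, Prod.mk.injEq, List.not_mem_nil, or_false] at h1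
  rw [det_psi hψ (by rw [h6]; rcases h1 with h | h | h | h | h | h | h <;> rw [h.2.2.2] <;> rfl), h5]
  obtain ⟨q, rfl⟩ := Nat.exists_eq_add_of_le' hq
  have a3 : (q + 1) ^ 3 - 1 = q ^ 3 + 3 * q ^ 2 + 3 * q := Nat.sub_eq_of_eq_add (by ring)
  have a2 : (q + 1) ^ 2 - (q + 1) = q ^ 2 + q := Nat.sub_eq_of_eq_add (by ring)
  have a4 : (q + 1) ^ 4 - (q + 1) ^ 2 = q ^ 4 + 4 * q ^ 3 + 5 * q ^ 2 + 2 * q := Nat.sub_eq_of_eq_add (by ring)
  rw [a3, a2, a4, Nat.add_sub_cancel]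
  rcases h1 with ⟨rfl, rfl, rfl, rfl⟩ | ⟨rfl, rfl, rfl, rfl⟩ | ⟨rfl, rfl, rfl, rfl⟩ | ⟨rfl, rfl, rfl, rfl⟩ |
    ⟨rfl, rfl, rfl, rfl⟩ | ⟨rfl, rfl, rfl, rfl⟩ | ⟨rfl, rfl, rfl, rfl⟩
  · exact Or.inl (nat_eq (Or.inl (by push_cast; ring)))
  · exact Or.inr (Or.inl (nat_eq (Or.inl (by push_cast; ring))))
  · exact Or.inr (Or.inr (Or.inl (nat_eq (Or.inl (by push_cast; ring)))))
  · exact Or.inr (Or.inr (Or.inr (Or.inl (nat_eq (Or.inl (by push_cast; ring))))))
  · exact Or.inr (Or.inr (Or.inr (Or.inr (Or.inl (nat_eq (Or.inl (by push_cast; ring)))))))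
  · exact Or.inr (Or.inr (Or.inr (Or.inr (Or.inr (Or.inl (nat_eq (Or.inl (by push_cast; ring))))))))
  · exact Or.inr (Or.inr (Or.inr (Or.inr (Or.inr (Or.inr (nat_eq (Or.inl (by push_cast; ring))))))))

end Cfsg.Agent.N2.G2.A

private theorem dce_ccdb8b6de20c : _root_.True := by
  try have : _root_.True := by simp only [_root_.Cfsg.Agent.SB.Low.tw.eq_1]
  exact _root_.True.intro
end

-- part: N2/Ex/K/C4Core
section
prune_inst 0x9040300000000000000000010000000400000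
set_option linter.all false
open scoped Cfsg.Agent.FastGrp

-- part: N2/Ex/K/C4Tab
section
/-!
# S3519, exceptional groups, box (K): the shift and the invariant form of `F₄` in characteristic two (helper68)
-/

set_option autoImplicit false
set_option linter.unusedSectionVars false

namespace Cfsg.Agent.N2.Ex.K.C4

open Matrix Cfsg Cfsg.Lie Cfsg.Lie.ChevalleyDatum
open Cfsg.Agent.ChevalleyStructure Cfsg.Agent.ChevalleyStructure.GraphSparse Cfsg.Agent.ChevalleyStructure.GraphColumns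
  Cfsg.Agent.ChevalleyStructure.GraphCheck Cfsg.Agent.ChevalleyStructure.GraphSound
  Cfsg.Agent.ChevalleyStructure.GraphTabF4
open Cfsg.Agent.H79.SimpleGen Cfsg.Agent.H296.FFour

set_option maxRecDepth 100000

/-- decoding of a shifted index -/
def dc (n : ℕ) : Option chevF4.Idx :=
  if h : n - 1 < chevF4.rank then (if n = 0 then none else some (Sum.inl ⟨n - 1, h⟩))
  else if h' : n - 5 < chevF4.nroots then some (Sum.inr ⟨n - 5, h'⟩) else none

/-- the pairing of the indices outside the short ideal -/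
def piL : List ℕ := [0, 0, 4, 3, 52, 51, 50, 0, 48, 47, 46, 0, 0, 0, 0, 0, 0, 0, 0, 37, 36, 35, 0, 0, 0, 31, 30, 29, 28, 27,
  26, 0, 0, 0, 22, 21, 20, 0, 0, 0, 0, 0, 0, 0, 0, 11, 10, 9, 0, 7, 6, 5]

/-- the inverse of the shift -/
def tauL : List ℕ := [4, 3, 0, 0, 0, 0, 0, 5, 0, 0, 0, 6, 7, 9, 20, 10, 21, 26, 28, 0, 0, 0, 11, 22, 27, 0, 0, 0, 0, 0, 0,
  30, 35, 46, 0, 0, 0, 29, 31, 36, 47, 37, 48, 50, 51, 0, 0, 0, 52, 0, 0, 0]

/-- the partial map of a list -/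
def pf (L : List ℕ) (a : chevF4.Idx) : Option chevF4.Idx := dc (L.getD (enc chevF4 a) 0)

private noncomputable def _root_.Cfsg.Agent.KOda99b9c.k0 : type_of% @Decidable.decide := @(fun x0 x1 => @Decidable.rec.{1} _ @(fun x2 => @Bool) @(fun x2 => @Bool.false) @(fun x2 => @Bool.true) @x1)
private theorem _root_.Cfsg.Agent.KOda99b9c.e0 : @Decidable.decide = @_root_.Cfsg.Agent.KOda99b9c.k0 := by delta _root_.Cfsg.Agent.KOda99b9c.k0; rfl'
private noncomputable def _root_.Cfsg.Agent.KOda99b9c.k1.{ku0, ku1} : type_of% @Quot.rec.{ku0, ku1} := @(fun x0 x1 x2 x3 x4 x5 => @Eq.rec.{ku1, ku0} (@Quot.{ku0} _ @x1) (@PSigma.fst.{ku0, ku1} _ _ (@Quot.lift.{ku0, (max (max 1 ku1) ku0)} _ _ _ (@Quot.indep.{ku0, ku1} _ _ _ @x3) (@Quot.indepCoherent.{ku0, ku1} _ _ _ @x3 @x4) @x5)) @(fun x6 x7 => @x2 @x6) (@PSigma.snd.{ku0, ku1} _ _ (@Quot.lift.{ku0, (max (max 1 ku1) ku0)} _ _ _ (@Quot.indep.{ku0, ku1} _ _ _ @x3) (@Quot.indepCoherent.{ku0,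 ku1} _ _ _ @x3 @x4) @x5)) @x5 (@Quot.liftIndepPr1.{ku0, ku1} _ _ _ @x3 @x4 @x5))
private theorem _root_.Cfsg.Agent.KOda99b9c.e1.{ku0, ku1} : @Quot.rec.{ku0, ku1} = @_root_.Cfsg.Agent.KOda99b9c.k1.{ku0, ku1} := by delta _root_.Cfsg.Agent.KOda99b9c.k1; rfl'
private noncomputable def _root_.Cfsg.Agent.KOda99b9c.k2.{ku0, ku1} : type_of% @Quot.recOnSubsingleton.{ku0, ku1} := @(fun x0 x1 x2 x3 x4 x5 => @Cfsg.Agent.KOda99b9c.k1.{ku0, ku1} _ _ @(fun x6 => @x2 @x6) @(fun x6 => @x5 @x6) (@Quot.recOnSubsingleton._proof_1.{ku1, ku0} _ _ _ _ @x5) @x4)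
private theorem _root_.Cfsg.Agent.KOda99b9c.e2.{ku0, ku1} : @Quot.recOnSubsingleton.{ku0, ku1} = @_root_.Cfsg.Agent.KOda99b9c.k2.{ku0, ku1} := by delta _root_.Cfsg.Agent.KOda99b9c.k2; rewrite [← Cfsg.Agent.KOda99b9c.e1.{ku0, ku1}]; rfl'
private theorem _root_.Cfsg.Agent.KOda99b9c.e3.{ku, kv} {α : Type kv} {M : List α → Sort ku} (φ : ∀ l, M l) {z : M List.nil} {s : ∀ a l, M l → M (List.cons a l)} (h0 : φ List.nil = z) (hs : ∀ a l, φ (List.cons a l) = s a l (φ l)) (l : List α) : φ l = @List.rec α M z s l := List.rec h0 (fun a l ih => (hs a l).trans (congrArg (s a l) ih)) l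
private noncomputable def _root_.Cfsg.Agent.KOda99b9c.k4.{ku0} : type_of% @List.decidableBAll.{ku0} := @(fun x0 x1 x2 x3 => @List.rec.{1, ku0} @x0 @(fun x4 => @Decidable ((x5 : @x0) → (@Membership.mem.{ku0, ku0} _ _ _ @x4 @x5) → @x1 @x5)) (@Decidable.isTrue _ (@List.decidableBAll._proof_1.{ku0} _ @x1)) @(fun x4 x5 x6 => @Decidable.rec.{1} _ @(fun x7 => @Decidable ((x8 : @x0) → (@Membership.mem.{ku0, ku0} _ _ _ (@x4 :: @x5) @x8) → @x1 @x8)) @(fun x7 => @Decidable.isFalse _ (@List.decidableBAll._proof_4.{ku0} _ @x1 @x4 @x5 @x7)) @(fun x7 => @Decidable.rec.{1} _ @(fun x8 => @Decidable ((x9 : @x0) → (@Membership.mem.{ku0, ku0} _ _ _ (@x4 :: @x5) @x9) → @x1 @x9)) @(fun x8 => @Decidable.isFalse _ (@List.decidableBAll._proof_3.{ku0} _ @x1 @x4 @x5 @x8)) @(fun x8 => @Decidable.isTrue _ (@List.decidableBAll._proof_2.{ku0} _ @x1 @x4 @x5 @x7 @x8)) @x6) (@x2 @x4)) @x3)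
private theorem _root_.Cfsg.Agent.KOda99b9c.e4.{ku0} : @List.decidableBAll.{ku0} = @_root_.Cfsg.Agent.KOda99b9c.k4.{ku0} := by delta _root_.Cfsg.Agent.KOda99b9c.k4; funext a0 a1 a2 a3; refine (_root_.Cfsg.Agent.KOda99b9c.e3 (fun a3 => @List.decidableBAll.{ku0} a0 a1 a2 a3) ?_ (fun c0 c1 => ?_) a3 :) <;> (rfl')
private noncomputable def _root_.Cfsg.Agent.KOda99b9c.k5.{ku0} : type_of% @Multiset.decidableForallMultiset.{ku0} := @(fun (x0 : Sort (ku0+1)) (x1 : @Multiset.{ku0} @x0) (x2 : (x0 → Prop)) (x3 : ((x3 : x0) → @Decidable (@x2 @x3))) => @Cfsg.Agent.KOda99b9c.k2.{(ku0+1), 1} (@List.{ku0} @x0) (@Setoid.r.{(ku0+1)} (@List.{ku0} @x0) (@List.isSetoid.{ku0} @x0)) @(fun (x4 : @Quotient.{(ku0+1)} (@List.{ku0} @x0) (@List.isSetoid.{ku0} @x0)) => @Decidable ((x5 : x0) → ((@Membership.mem.{ku0, ku0} @x0 (@Multiset.{ku0} @x0) (@Multiset.instMembership.{ku0} @x0) @x4 @x5) → @x2 @x5))) (@Multiset.decidableForallMultiset._proof_2.{ku0}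 @x0 @x2) @x1 @(fun (x4 : @List.{ku0} @x0) => @Decidable.rec.{1} ((x5 : x0) → ((@Membership.mem.{ku0, ku0} @x0 (@List.{ku0} @x0) (@List.instMembership.{ku0} @x0) @x4 @x5) → @x2 @x5)) @(fun (x5 : @Decidable ((x5 : x0) → ((@Membership.mem.{ku0, ku0} @x0 (@List.{ku0} @x0) (@List.instMembership.{ku0} @x0) @x4 @x5) → @x2 @x5))) => @Decidable ((x6 : x0) → ((@Membership.mem.{ku0, ku0} @x0 (@Multiset.{ku0} @x0) (@Multiset.instMembership.{ku0} @x0) (@Quotient.mk.{(ku0+1)} (@List.{ku0} @x0) (@List.isSetoid.{ku0} @x0) @x4) @x6) → @x2 @x6))) @(fun (x5 : @Not ((x5 : x0) → ((@Membership.mem.{ku0, ku0} @x0 (@List.{ku0} @x0) (@List.instMembership.{ku0} @x0) @x4 @x5) → @x2 @x5))) => @Decidable.isFalse ((x6 : x0) → ((@Membership.mem.{ku0, ku0} @x0 (@Multiset.{ku0} @x0) (@Multiset.instMembership.{ku0} @x0) (@Quotient.mk.{(ku0+1)} (@List.{ku0} @x0) (@List.isSetoid.{ku0} @x0) @x4) @x6) → @x2 @x6)) (@decidable_of_decidable_of_iff._proof_1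 ((x6 : x0) → ((@Membership.mem.{ku0, ku0} @x0 (@List.{ku0} @x0) (@List.instMembership.{ku0} @x0) @x4 @x6) → @x2 @x6)) ((x6 : x0) → ((@Membership.mem.{ku0, ku0} @x0 (@Multiset.{ku0} @x0) (@Multiset.instMembership.{ku0} @x0) (@Quotient.mk.{(ku0+1)} (@List.{ku0} @x0) (@List.isSetoid.{ku0} @x0) @x4) @x6) → @x2 @x6)) (@Multiset.decidableForallMultiset._proof_1.{ku0} @x0 @x2 @x4) @x5)) @(fun (x5 : ((x5 : x0) → ((@Membership.mem.{ku0, ku0} @x0 (@List.{ku0} @x0) (@List.instMembership.{ku0} @x0) @x4 @x5) → @x2 @x5))) => @Decidable.isTrue ((x6 : x0) → ((@Membership.mem.{ku0, ku0} @x0 (@Multiset.{ku0} @x0) (@Multiset.instMembership.{ku0} @x0) (@Quotient.mk.{(ku0+1)} (@List.{ku0} @x0) (@List.isSetoid.{ku0} @x0) @x4) @x6) → @x2 @x6)) (@Iff.mp ((x6 : x0) → ((@Membership.mem.{ku0, ku0} @x0 (@List.{ku0} @x0) (@List.instMembership.{ku0} @x0) @x4 @x6) → @x2 @x6)) ((x6 : x0) → ((@Membership.mem.{ku0, ku0} @x0 (@Multiset.{ku0} @x0)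 (@Multiset.instMembership.{ku0} @x0) (@Quotient.mk.{(ku0+1)} (@List.{ku0} @x0) (@List.isSetoid.{ku0} @x0) @x4) @x6) → @x2 @x6)) (@Multiset.decidableForallMultiset._proof_1.{ku0} @x0 @x2 @x4) @x5)) (@Cfsg.Agent.KOda99b9c.k4.{ku0} @x0 @x2 @x3 @x4)))
private theorem _root_.Cfsg.Agent.KOda99b9c.e5.{ku0} : @Multiset.decidableForallMultiset.{ku0} = @_root_.Cfsg.Agent.KOda99b9c.k5.{ku0} := by delta _root_.Cfsg.Agent.KOda99b9c.k5; rewrite [← Cfsg.Agent.KOda99b9c.e4.{ku0}, ← Cfsg.Agent.KOda99b9c.e2.{(ku0+1), 1}]; rfl'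
private noncomputable def _root_.Cfsg.Agent.KOda99b9c.k9.{ku0} : type_of% @Multiset.decidableDforallMultiset.{ku0} := @(fun x0 x1 x2 x3 => @Decidable.rec.{1} _ @(fun x4 => @Decidable ((x5 : @x0) → (x6 : @Membership.mem.{ku0, ku0} _ _ _ @x1 @x5) → @x2 @x5 @x6)) @(fun x4 => @Decidable.isFalse _ (@decidable_of_decidable_of_iff._proof_1 _ _ (@Multiset.decidableDforallMultiset._proof_2.{ku0} _ _ _) @x4)) @(fun x4 => @Decidable.isTrue _ (@Iff.mp _ _ (@Multiset.decidableDforallMultiset._proof_2.{ku0} _ _ _) @x4)) (@Cfsg.Agent.KOda99b9c.k5.{ku0} _ _ @(fun x4 => @x2 (@Subtype.val.{(ku0+1)} _ @(fun x5 => @Membership.mem.{ku0, ku0} _ _ _ @x1 @x5) @x4) (@Multiset.decidableDforallMultiset._proof_1.{ku0} _ _ @x4)) @(fun x4 => @x3 (@Subtype.val.{(ku0+1)} _ @(fun x5 => @Membership.mem.{ku0, ku0} _ _ _ @x1 @x5) @x4) (@Multiset.decidableDforallMultiset._proof_1.{ku0} _ _ @x4))))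
private theorem _root_.Cfsg.Agent.KOda99b9c.e9.{ku0} : @Multiset.decidableDforallMultiset.{ku0} = @_root_.Cfsg.Agent.KOda99b9c.k9.{ku0} := by delta _root_.Cfsg.Agent.KOda99b9c.k9; rewrite [← Cfsg.Agent.KOda99b9c.e5.{ku0}]; rfl'
private noncomputable def _root_.Cfsg.Agent.KOda99b9c.k10.{ku0} : type_of% @Finset.decidableDforallFinset.{ku0} := @(fun x0 x1 x2 x3 => @Cfsg.Agent.KOda99b9c.k9.{ku0} _ _ _ @x3)
private theorem _root_.Cfsg.Agent.KOda99b9c.e10.{ku0} : @Finset.decidableDforallFinset.{ku0} = @_root_.Cfsg.Agent.KOda99b9c.k10.{ku0} := by delta _root_.Cfsg.Agent.KOda99b9c.k10; rewrite [← Cfsg.Agent.KOda99b9c.e9.{ku0}]; rfl'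
private noncomputable def _root_.Cfsg.Agent.KOda99b9c.k11.{ku0} : type_of% @Fintype.decidableForallFintype.{ku0} := @(fun x0 x1 x2 x3 => @Decidable.rec.{1} _ @(fun x4 => @Decidable ((x5 : @x0) → @x1 @x5)) @(fun x4 => @Decidable.isFalse _ (@decidable_of_decidable_of_iff._proof_1 _ _ (@Fintype.decidableForallFintype._proof_1.{ku0} _ _ _) @x4)) @(fun x4 => @Decidable.isTrue _ (@Iff.mp _ _ (@Fintype.decidableForallFintype._proof_1.{ku0} _ _ _) @x4)) (@Cfsg.Agent.KOda99b9c.k10.{ku0} _ _ @(fun x4 x5 => @x1 @x4) @(fun x4 x5 => @x2 @x4)))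
private theorem _root_.Cfsg.Agent.KOda99b9c.e11.{ku0} : @Fintype.decidableForallFintype.{ku0} = @_root_.Cfsg.Agent.KOda99b9c.k11.{ku0} := by delta _root_.Cfsg.Agent.KOda99b9c.k11; rewrite [← Cfsg.Agent.KOda99b9c.e10.{ku0}]; rfl'
private noncomputable def _root_.Cfsg.Agent.KOda99b9c.k12 : type_of% @instDecidableIff := @(fun x0 x1 x2 x3 => @Decidable.rec.{1} _ @(fun x4 => @Decidable (@Iff @x0 @x1)) @(fun x4 => @Decidable.rec.{1} _ @(fun x5 => @Decidable (@Iff @x0 @x1)) @(fun x5 => @Decidable.isTrue _ (@instDecidableIff._proof_4 _ _ @x4 @x5)) @(fun x5 => @Decidable.isFalse _ (@instDecidableIff._proof_3 _ _ @x4 @x5)) @x3) @(fun x4 => @Decidable.rec.{1} _ @(fun x5 => @Decidable (@Iff @x0 @x1)) @(fun x5 => @Decidable.isFalse _ (@instDecidableIff._proof_2 _ _ @x4 @x5)) @(fun x5 => @Decidable.isTrue _ (@instDecidableIff._proof_1 _ _ @x4 @x5)) @x3) @x2)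
private theorem _root_.Cfsg.Agent.KOda99b9c.e12 : @instDecidableIff = @_root_.Cfsg.Agent.KOda99b9c.k12 := by delta _root_.Cfsg.Agent.KOda99b9c.k12; rfl'
private noncomputable def _root_.Cfsg.Agent.KOda99b9c.k13.{ku0} : type_of% @Option.instDecidableEq.{ku0} := @(fun x0 x1 x2 x3 => @Option.rec.{1, ku0} @x0 @(fun x4 => @Decidable (@Eq.{(ku0+1)} _ @x4 @x3)) (@Option.rec.{1, ku0} @x0 @(fun x4 => @Decidable (@Eq.{(ku0+1)} _ (@Option.none.{ku0} _) @x4)) (@Decidable.isTrue _ (@Option.instDecidableEq._proof_1.{ku0} _)) @(fun x4 => @Decidable.isFalse _ (@Option.instDecidableEq._proof_2.{ku0} _ @x4)) @x3) @(fun x4 => @Option.rec.{1, ku0} @x0 @(fun x5 => @Decidable (@Eq.{(ku0+1)} _ (@Option.some.{ku0} _ @x4) @x5)) (@Decidable.isFalse _ (@Option.instDecidableEq._proof_3.{ku0} _ @x4)) @(fun x5 => @Decidable.rec.{1} _ @(fun x6 => @Decidable (@Eq.{(ku0+1)} _ (@Option.some.{ku0} _ @x4) (@Option.some.{ku0} _ @x5))) @(fun x6 =>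 @Decidable.isFalse _ (@Option.instDecidableEq._proof_5.{ku0} _ @x4 @x5 @x6)) @(fun x6 => @Decidable.isTrue _ (@Option.instDecidableEq._proof_4.{ku0} _ @x4 @x5 @x6)) (@x1 @x4 @x5)) @x3) @x2)
private theorem _root_.Cfsg.Agent.KOda99b9c.e13.{ku0} : @Option.instDecidableEq.{ku0} = @_root_.Cfsg.Agent.KOda99b9c.k13.{ku0} := by delta _root_.Cfsg.Agent.KOda99b9c.k13; rfl'
private noncomputable def _root_.Cfsg.Agent.KOda99b9c.k14.{ku0, ku1} : type_of% @instDecidableEqSum.decEq.{ku0, ku1} := @(fun x0 x1 x2 x3 x4 x5 => @Sum.rec.{1, ku0, ku1} @x0 @x1 @(fun x6 => @Decidable (@Eq.{(max (ku1+1) (ku0+1))} _ @x6 @x5)) @(fun x6 => @Sum.rec.{1, ku0, ku1} @x0 @x1 @(fun x7 => @Decidable (@Eq.{(max (ku1+1) (ku0+1))} _ (@Sum.inl.{ku0, ku1} _ _ @x6) @x7)) @(fun x7 => @Decidable.rec.{1} _ @(fun x8 => @Decidable (@Eq.{(max (ku1+1) (ku0+1))} _ (@Sum.inl.{ku0, ku1} _ _ @x6) (@Sum.inl.{ku0, ku1} _ _ @x7))) @(fun x8 => @Decidable.isFalse _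 (@instDecidableEqSum.decEq._proof_3.{ku1, ku0} _ _ @x6 @x7 @x8)) @(fun x8 => @Eq.rec.{1, (ku0+1)} @x0 @x6 @(fun x9 x10 => @Decidable (@Eq.{(max (ku1+1) (ku0+1))} _ (@Sum.inl.{ku0, ku1} _ _ @x6) (@Sum.inl.{ku0, ku1} _ _ @x9))) (@Decidable.isTrue _ (@instDecidableEqSum.decEq._proof_1.{ku1, ku0} _ _ @x6)) @x7 @x8) (@x2 @x6 @x7)) @(fun x7 => @Decidable.isFalse _ (@instDecidableEqSum.decEq._proof_4.{ku1, ku0} _ _ @x6 @x7)) @x5) @(fun x6 => @Sum.rec.{1, ku0, ku1} @x0 @x1 @(fun x7 => @Decidable (@Eq.{(max (ku1+1) (ku0+1))} _ (@Sum.inr.{ku0, ku1} _ _ @x6) @x7)) @(fun x7 => @Decidable.isFalse _ (@instDecidableEqSum.decEq._proof_5.{ku1, ku0} _ _ @x6 @x7)) @(fun x7 => @Decidable.rec.{1} _ @(fun x8 => @Decidable (@Eq.{(max (ku1+1) (ku0+1))} _ (@Sum.inr.{ku0, ku1} _ _ @x6) (@Sum.inr.{ku0, ku1} _ _ @x7))) @(fun x8 => @Decidable.isFalse _ (@instDecidableEqSum.decEq._proof_6.{ku1, ku0} _ _ @x6 @x7 @x8)) @(fun x8 => @Eq.rec.{1,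 (ku1+1)} @x1 @x6 @(fun x9 x10 => @Decidable (@Eq.{(max (ku1+1) (ku0+1))} _ (@Sum.inr.{ku0, ku1} _ _ @x6) (@Sum.inr.{ku0, ku1} _ _ @x9))) (@Decidable.isTrue _ (@instDecidableEqSum.decEq._proof_2.{ku1, ku0} _ _ @x6)) @x7 @x8) (@x3 @x6 @x7)) @x5) @x4)
private theorem _root_.Cfsg.Agent.KOda99b9c.e14.{ku0, ku1} : @instDecidableEqSum.decEq.{ku0, ku1} = @_root_.Cfsg.Agent.KOda99b9c.k14.{ku0, ku1} := by delta _root_.Cfsg.Agent.KOda99b9c.k14; rfl'
private noncomputable def _root_.Cfsg.Agent.KOda99b9c.k15.{ku0, ku1} : type_of% @instDecidableEqSum.{ku0, ku1} := @(fun x0 x1 x2 x3 => @Cfsg.Agent.KOda99b9c.k14.{ku0, ku1} _ _ @x2 @x3)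
private theorem _root_.Cfsg.Agent.KOda99b9c.e15.{ku0, ku1} : @instDecidableEqSum.{ku0, ku1} = @_root_.Cfsg.Agent.KOda99b9c.k15.{ku0, ku1} := by delta _root_.Cfsg.Agent.KOda99b9c.k15; rewrite [← Cfsg.Agent.KOda99b9c.e14.{ku0, ku1}]; rfl'
private noncomputable def _root_.Cfsg.Agent.KOda99b9c.k16 : type_of% @Nat.decEq := @(fun x0 x1 => @Bool.rec.{1} @(fun x2 => (@Eq.{1} _ (@Nat.beq @x0 @x1) @x2) → @Decidable (@Eq.{1} _ @x0 @x1)) @(fun x2 => @Decidable.isFalse _ (@Nat.ne_of_beq_eq_false _ _ @x2)) @(fun x2 => @Decidable.isTrue _ (@Nat.eq_of_beq_eq_true _ _ @x2)) (@Nat.beq @x0 @x1) (@Eq.refl.{1} _ (@Nat.beq @x0 @x1)))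
private theorem _root_.Cfsg.Agent.KOda99b9c.e16 : @Nat.decEq = @_root_.Cfsg.Agent.KOda99b9c.k16 := by delta _root_.Cfsg.Agent.KOda99b9c.k16; rfl'
private noncomputable def _root_.Cfsg.Agent.KOda99b9c.k17 : type_of% @instDecidableEqFin := @(fun x0 x1 x2 => @Decidable.rec.{1} _ @(fun x3 => @Decidable (@Eq.{1} _ @x1 @x2)) @(fun x3 => @Decidable.isFalse _ (@instDecidableEqFin._proof_1 @x0 @x1 @x2 @x3)) @(fun x3 => @Decidable.isTrue _ (@Fin.eq_of_val_eq _ _ _ @x3)) (@Cfsg.Agent.KOda99b9c.k16 (@Fin.val _ @x1) (@Fin.val _ @x2)))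
private theorem _root_.Cfsg.Agent.KOda99b9c.e17 : @instDecidableEqFin = @_root_.Cfsg.Agent.KOda99b9c.k17 := by delta _root_.Cfsg.Agent.KOda99b9c.k17; rewrite [← Cfsg.Agent.KOda99b9c.e16]; rfl'
private noncomputable def _root_.Cfsg.Agent.KOda99b9c.oEq.{ku} (α : Sort ku) (a b : Nat) (f t : α) : α := @Decidable.rec (a = b) (fun _ => α) (fun _ => f) (fun _ => t) (Nat.decEq a b)
private noncomputable def _root_.Cfsg.Agent.KOda99b9c.k18.{ku} (α : Sort ku) (a b : Nat) (f t : α) : α := @Bool.rec (fun _ => α) f t (Nat.beq a b)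
private theorem _root_.Cfsg.Agent.KOda99b9c.e18.{ku} : @_root_.Cfsg.Agent.KOda99b9c.oEq.{ku} = @_root_.Cfsg.Agent.KOda99b9c.k18.{ku} := funext fun α => funext fun a => funext fun b => funext fun f => funext fun t => by delta _root_.Cfsg.Agent.KOda99b9c.oEq _root_.Cfsg.Agent.KOda99b9c.k18; cases h : Nat.beq a b <;> cases Nat.decEq a b <;> rename_i g <;> first | rfl | exact absurd g (Nat.ne_of_beq_eq_false h) | exact absurd (Nat.eq_of_beq_eq_true h) g
private noncomputable def _root_.Cfsg.Agent.KOda99b9c.k19 : type_of% @Bool.decEq := @(fun x0 x1 => @Bool.rec.{1} @(fun x2 => @Decidable (@Eq.{1} _ @x2 @x1)) (@Bool.rec.{1} @(fun x2 => @Decidable (@Eq.{1} _ @Bool.false @x2)) (@Decidable.isTrue _ (@rfl.{1} _ _)) (@Decidable.isFalse _ @(fun x2 => @Bool.noConfusion.{0} _ _ _ @x2)) @x1) (@Bool.rec.{1} @(fun x2 => @Decidable (@Eq.{1} _ @Bool.true @x2)) (@Decidable.isFalse _ @(fun x2 => @Bool.noConfusion.{0} _ _ _ @x2)) (@Decidable.isTrue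 _ (@rfl.{1} _ _)) @x1) @x0)
private theorem _root_.Cfsg.Agent.KOda99b9c.e19 : @Bool.decEq = @_root_.Cfsg.Agent.KOda99b9c.k19 := by delta _root_.Cfsg.Agent.KOda99b9c.k19; rfl'
private noncomputable def _root_.Cfsg.Agent.KOda99b9c.k20 : type_of% @Nat.decLe := @(fun x0 x1 => @Decidable.rec.{1} _ @(fun x2 => @Decidable (@LE.le.{0} _ _ @x0 @x1)) @(fun x2 => @Decidable.isFalse _ (@Nat.not_le_of_not_ble_eq_true _ _ @x2)) @(fun x2 => @Decidable.isTrue _ (@Nat.le_of_ble_eq_true _ _ @x2)) (@Cfsg.Agent.KOda99b9c.k19 (@Nat.ble @x0 @x1) @Bool.true))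
private theorem _root_.Cfsg.Agent.KOda99b9c.e20 : @Nat.decLe = @_root_.Cfsg.Agent.KOda99b9c.k20 := by delta _root_.Cfsg.Agent.KOda99b9c.k20; rewrite [← Cfsg.Agent.KOda99b9c.e19]; rfl'
private noncomputable def _root_.Cfsg.Agent.KOda99b9c.k21 : (by first | exact type_of% @Cfsg.Agent.N2.Ex.K.C4.dc | exact Unit : Sort _) := by first | (refine @Subtype.val _ (fun g => @Cfsg.Agent.N2.Ex.K.C4.dc = @g) (@Subtype.mk _ _ (@(fun x0 => @Decidable.rec.{1} _ @(fun x1 => @Option.{0} (@Cfsg.Lie.ChevalleyDatum.Idx @Cfsg.Lie.chevF4)) @(fun x1 => @Decidable.rec.{1} _ @(fun x2 => @Option.{0} (@Cfsg.Lie.ChevalleyDatum.Idx @Cfsg.Lie.chevF4)) @(fun x2 => @Option.none.{0} _) @(fun x2 => @Option.some.{0} _ (@Sum.inr.{0, 0} _ _ (@Fin.mk _ (@Nat.sub @x0 (nat_lit 5)) @x2))) (@Cfsg.Agent.KOda99b9c.k20 (@Nat.succ (@Nat.sub @x0 (nat_lit 5))) (@Cfsg.Lie.ChevalleyDatum.nroots @Cfsg.Lie.chevF4))) @(fun x1 => @Cfsg.Agent.KOda99b9c.k18.{1} (@Option.{0}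 (@Cfsg.Lie.ChevalleyDatum.Idx @Cfsg.Lie.chevF4)) @x0 (nat_lit 0) (@Option.some.{0} _ (@Sum.inl.{0, 0} _ _ (@Fin.mk _ (@Nat.sub @x0 (nat_lit 1)) @x1))) (@Option.none.{0} _)) (@Cfsg.Agent.KOda99b9c.k20 (@Nat.succ (@Nat.sub @x0 (nat_lit 1))) (@Cfsg.Lie.ChevalleyDatum.rank @Cfsg.Lie.chevF4)))) ?_); rewrite [← Cfsg.Agent.KOda99b9c.e18.{1}, ← Cfsg.Agent.KOda99b9c.e20]; (try delta Cfsg.Agent.N2.Ex.K.C4.dc); (try generalize @Cfsg.Lie.chevF4 = g0); rfl') | exact @Cfsg.Agent.N2.Ex.K.C4.dc | exact ()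
private theorem _root_.Cfsg.Agent.KOda99b9c.e21 : (by first | exact @Cfsg.Agent.N2.Ex.K.C4.dc = @_root_.Cfsg.Agent.KOda99b9c.k21 | exact True : Prop) := by first | (delta _root_.Cfsg.Agent.KOda99b9c.k21; exact @Subtype.property _ (fun g => @Cfsg.Agent.N2.Ex.K.C4.dc = @g) _) | rfl | trivial
private noncomputable def _root_.Cfsg.Agent.KOda99b9c.k23.{ku0} : type_of% @List.get?Internal.{ku0} := @(fun x0 x1 x2 => @List.rec.{(ku0+1), ku0} @x0 @(fun x3 => ℕ → @Option.{ku0} @x0) @(fun x3 => @Option.none.{ku0} _) @(fun x3 x4 x5 x6 => @Nat.rec.{(ku0+1)} @(fun x7 => @Option.{ku0} @x0) (@Option.some.{ku0} _ @x3) @(fun x7 x8 => @x5 @x7) @x6) @x1 @x2)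
private theorem _root_.Cfsg.Agent.KOda99b9c.e23.{ku0} : @List.get?Internal.{ku0} = @_root_.Cfsg.Agent.KOda99b9c.k23.{ku0} := by delta _root_.Cfsg.Agent.KOda99b9c.k23; funext a0 a1 a2; refine (congrFun (_root_.Cfsg.Agent.KOda99b9c.e3 (fun a1 a2 => @List.get?Internal.{ku0} a0 a1 a2) ?_ (fun c0 c1 => ?_) a1) a2 :) <;> [(funext b0; (rfl')); (funext b0; (cases b0 with | @zero  => (rfl') | @succ b0_0 => (rfl')))]
private noncomputable def _root_.Cfsg.Agent.KOda99b9c.k24 : (by first | exact type_of% @Cfsg.Agent.ChevalleyStructure.GraphColumns.enc | exact Unit : Sort _) := by first | (refine @Subtype.val _ (fun g => @Cfsg.Agent.ChevalleyStructure.GraphColumns.enc = @g) (@Subtype.mk _ _ (@(fun x0 x1 => @Sum.rec.{1, 0, 0} (@Fin (@Cfsg.Lie.ChevalleyDatum.rank @x0)) (@Fin (@Cfsg.Lie.ChevalleyDatum.nroots @x0)) @(fun x2 => ℕ) @(fun x2 => @Fin.val _ @x2) @(fun x2 => @Nat.add (@Cfsg.Lie.ChevalleyDatum.rank @x0) (@Fin.val _ @x2))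 @x1)) ?_); rfl') | exact @Cfsg.Agent.ChevalleyStructure.GraphColumns.enc | exact ()
private theorem _root_.Cfsg.Agent.KOda99b9c.e24 : (by first | exact @Cfsg.Agent.ChevalleyStructure.GraphColumns.enc = @_root_.Cfsg.Agent.KOda99b9c.k24 | exact True : Prop) := by first | (delta _root_.Cfsg.Agent.KOda99b9c.k24; exact @Subtype.property _ (fun g => @Cfsg.Agent.ChevalleyStructure.GraphColumns.enc = @g) _) | rfl | trivial
private noncomputable def _root_.Cfsg.Agent.KOda99b9c.k25 : (by first | exact type_of% @Cfsg.Agent.N2.Ex.K.C4.pf | exact Unit : Sort _) := by first | (refine @Subtype.val _ (fun g => @Cfsg.Agent.N2.Ex.K.C4.pf = @g) (@Subtype.mk _ _ (@(fun x0 x1 => @Cfsg.Agent.KOda99b9c.k21 (@Option.rec.{1, 0} ℕ @(fun x2 => ℕ) (nat_lit 0) @(fun x2 => @x2) (@Cfsg.Agent.KOda99b9c.k23.{0} _ @x0 (@Cfsg.Agent.KOda99b9c.k24 @Cfsg.Lie.chevF4 @x1))))) ?_); rewrite [← Cfsg.Agent.KOda99b9c.e24, ← Cfsg.Agent.KOda99b9c.e23.{0},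 ← Cfsg.Agent.KOda99b9c.e21]; (try delta Cfsg.Agent.N2.Ex.K.C4.pf); (try generalize @Cfsg.Lie.chevF4 = g0); (try generalize @Cfsg.Agent.N2.Ex.K.C4.dc = g1); (try generalize @Cfsg.Agent.ChevalleyStructure.GraphColumns.enc = g2); rfl') | exact @Cfsg.Agent.N2.Ex.K.C4.pf | exact ()
private theorem _root_.Cfsg.Agent.KOda99b9c.e25 : (by first | exact @Cfsg.Agent.N2.Ex.K.C4.pf = @_root_.Cfsg.Agent.KOda99b9c.k25 | exact True : Prop) := by first | (delta _root_.Cfsg.Agent.KOda99b9c.k25; exact @Subtype.property _ (fun g => @Cfsg.Agent.N2.Ex.K.C4.pf = @g) _) | rfl | trivial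
private noncomputable def _root_.Cfsg.Agent.KOda99b9c.k26 : type_of% @instDecidableEqNat := @Cfsg.Agent.KOda99b9c.k16
private theorem _root_.Cfsg.Agent.KOda99b9c.e26 : @instDecidableEqNat = @_root_.Cfsg.Agent.KOda99b9c.k26 := by delta _root_.Cfsg.Agent.KOda99b9c.k26; rewrite [← Cfsg.Agent.KOda99b9c.e16]; rfl'
private noncomputable def _root_.Cfsg.Agent.KOda99b9c.k27.{ku0} : type_of% @List.getD.{ku0} := @(fun x0 x1 x2 x3 => @Option.rec.{(ku0+1), ku0} @x0 @(fun x4 => @x0) @x3 @(fun x4 => @x4) (@Cfsg.Agent.KOda99b9c.k23.{ku0} _ @x1 @x2))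
private theorem _root_.Cfsg.Agent.KOda99b9c.e27.{ku0} : @List.getD.{ku0} = @_root_.Cfsg.Agent.KOda99b9c.k27.{ku0} := by delta _root_.Cfsg.Agent.KOda99b9c.k27; rewrite [← Cfsg.Agent.KOda99b9c.e23.{ku0}]; rfl'

theorem tau_iff : ∀ a c, pf tauL a = some c ↔ tabF4.sig.getD (enc chevF4 c) 0 = enc chevF4 a + 1 := by (first | (refine of_decide_eq_true ?_; rewrite [Cfsg.Agent.KOda99b9c.e0, Cfsg.Agent.KOda99b9c.e11.{0}, Cfsg.Agent.KOda99b9c.e12, Cfsg.Agent.KOda99b9c.e13.{0}, Cfsg.Agent.KOda99b9c.e15.{0, 0}, Cfsg.Agent.KOda99b9c.e17, Cfsg.Agent.KOda99b9c.e25, Cfsg.Agent.KOda99b9c.e26, Cfsg.Agent.KOda99b9c.e27.{0}, Cfsg.Agent.KOda99b9c.e24]; decide +kernel) | decide +kernel)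

theorem pi_iff : ∀ a c, pf piL a = some c ↔ piL.getD (enc chevF4 a) 0 = enc chevF4 c + 1 := by (first | (refine of_decide_eq_true ?_; rewrite [Cfsg.Agent.KOda99b9c.e0, Cfsg.Agent.KOda99b9c.e11.{0}, Cfsg.Agent.KOda99b9c.e12, Cfsg.Agent.KOda99b9c.e13.{0}, Cfsg.Agent.KOda99b9c.e15.{0, 0}, Cfsg.Agent.KOda99b9c.e17, Cfsg.Agent.KOda99b9c.e25, Cfsg.Agent.KOda99b9c.e26, Cfsg.Agent.KOda99b9c.e27.{0}, Cfsg.Agent.KOda99b9c.e24]; decide +kernel) | decide +kernel)

theorem tau_sig : ∀ a c, pf tauL a = some c ↔ pf tabF4.sig c = some a := by (first | (refine of_decide_eq_true ?_; rewrite [Cfsg.Agent.KOda99b9c.e0, Cfsg.Agent.KOda99b9c.e11.{0}, Cfsg.Agent.KOda99b9c.e12, Cfsg.Agent.KOda99b9c.e13.{0}, Cfsg.Agent.KOda99b9c.e15.{0, 0}, Cfsg.Agent.KOda99b9c.e17, Cfsg.Agent.KOda99b9c.e25]; decide +kernel) | decide +kernel)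

theorem pi_pi : ∀ a c, pf piL a = some c ↔ pf piL c = some a := by (first | (refine of_decide_eq_true ?_; rewrite [Cfsg.Agent.KOda99b9c.e0, Cfsg.Agent.KOda99b9c.e11.{0}, Cfsg.Agent.KOda99b9c.e12, Cfsg.Agent.KOda99b9c.e13.{0}, Cfsg.Agent.KOda99b9c.e15.{0, 0}, Cfsg.Agent.KOda99b9c.e17, Cfsg.Agent.KOda99b9c.e25]; decide +kernel) | decide +kernel)

private noncomputable def _root_.Cfsg.Agent.KOda99b9c.k28.{ku0, ku1} : type_of% @Option.bind.{ku0, ku1} := @(fun x0 x1 x2 x3 => @Option.rec.{(ku1+1), ku0} @x0 @(fun x4 => @Option.{ku1} @x1) (@Option.none.{ku1} _) @(fun x4 => @x3 @x4) @x2)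
private theorem _root_.Cfsg.Agent.KOda99b9c.e28.{ku0, ku1} : @Option.bind.{ku0, ku1} = @_root_.Cfsg.Agent.KOda99b9c.k28.{ku0, ku1} := by delta _root_.Cfsg.Agent.KOda99b9c.k28; rfl'

theorem t1 : ∀ a, ((pf tauL a).bind (pf piL)).bind (pf piL) = pf tauL a := by (first | (refine of_decide_eq_true ?_; rewrite [Cfsg.Agent.KOda99b9c.e0, Cfsg.Agent.KOda99b9c.e11.{0}, Cfsg.Agent.KOda99b9c.e13.{0}, Cfsg.Agent.KOda99b9c.e15.{0, 0}, Cfsg.Agent.KOda99b9c.e17, Cfsg.Agent.KOda99b9c.e28.{0, 0}, Cfsg.Agent.KOda99b9c.e25]; decide +kernel) | decide +kernel)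

private noncomputable def _root_.Cfsg.Agent.KOda99b9c.k29 : type_of% @instDecidableOr := @(fun x0 x1 x2 x3 => @Decidable.rec.{1} _ @(fun x4 => @Decidable (@Or @x0 @x1)) @(fun x4 => @Decidable.rec.{1} _ @(fun x5 => @Decidable (@Or @x0 @x1)) @(fun x5 => @Decidable.isFalse _ (@instDecidableOr._proof_1 _ _ @x4 @x5)) @(fun x5 => @Decidable.isTrue _ (@Or.inr _ _ @x5)) @x3) @(fun x4 => @Decidable.isTrue _ (@Or.inl _ _ @x4)) @x2)
private theorem _root_.Cfsg.Agent.KOda99b9c.e29 : @instDecidableOr = @_root_.Cfsg.Agent.KOda99b9c.k29 := by delta _root_.Cfsg.Agent.KOda99b9c.k29; rfl'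
private noncomputable def _root_.Cfsg.Agent.KOda99b9c.k30 : type_of% @instDecidableAnd := @(fun x0 x1 x2 x3 => @Decidable.rec.{1} _ @(fun x4 => @Decidable (@And @x0 @x1)) @(fun x4 => @Decidable.isFalse _ (@instDecidableAnd._proof_2 _ _ @x4)) @(fun x4 => @Decidable.rec.{1} _ @(fun x5 => @Decidable (@And @x0 @x1)) @(fun x5 => @Decidable.isFalse _ (@instDecidableAnd._proof_1 _ _ @x5)) @(fun x5 => @Decidable.isTrue _ (@And.intro _ _ @x4 @x5)) @x3) @x2)
private theorem _root_.Cfsg.Agent.KOda99b9c.e30 : @instDecidableAnd = @_root_.Cfsg.Agent.KOda99b9c.k30 := by delta _root_.Cfsg.Agent.KOda99b9c.k30; rfl'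
private noncomputable def _root_.Cfsg.Agent.KOda99b9c.k31.{ku0} : type_of% @Option.decidableEqNone.{ku0} := @(fun x0 x1 => @Option.rec.{1, ku0} @x0 @(fun x2 => @Decidable (@Eq.{(ku0+1)} _ @x2 (@Option.none.{ku0} _))) (@Decidable.isTrue _ (@Option.instDecidableEq._proof_1.{ku0} _)) @(fun x2 => @Decidable.isFalse _ (@Option.instDecidableEq._proof_3.{ku0} _ @x2)) @x1)
private theorem _root_.Cfsg.Agent.KOda99b9c.e31.{ku0} : @Option.decidableEqNone.{ku0} = @_root_.Cfsg.Agent.KOda99b9c.k31.{ku0} := by delta _root_.Cfsg.Agent.KOda99b9c.k31; rfl'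

theorem t2 : ∀ a, (pf piL a).bind (pf piL) = some a ∧ (pf tauL a).bind (pf tabF4.sig) = none ∨
    (pf piL a).bind (pf piL) = none ∧ (pf tauL a).bind (pf tabF4.sig) = some a := by (first | (refine of_decide_eq_true ?_; rewrite [Cfsg.Agent.KOda99b9c.e0, Cfsg.Agent.KOda99b9c.e11.{0}, Cfsg.Agent.KOda99b9c.e29, Cfsg.Agent.KOda99b9c.e30, Cfsg.Agent.KOda99b9c.e13.{0}, Cfsg.Agent.KOda99b9c.e15.{0, 0}, Cfsg.Agent.KOda99b9c.e17, Cfsg.Agent.KOda99b9c.e28.{0, 0}, Cfsg.Agent.KOda99b9c.e25, Cfsg.Agent.KOda99b9c.e31.{0}]; decide +kernel) | decide +kernel)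

theorem t3 : ∀ a, (pf tabF4.sig a).bind (pf tauL) = (pf piL a).bind (pf piL) := by (first | (refine of_decide_eq_true ?_; rewrite [Cfsg.Agent.KOda99b9c.e0, Cfsg.Agent.KOda99b9c.e11.{0}, Cfsg.Agent.KOda99b9c.e13.{0}, Cfsg.Agent.KOda99b9c.e15.{0, 0}, Cfsg.Agent.KOda99b9c.e17, Cfsg.Agent.KOda99b9c.e28.{0, 0}, Cfsg.Agent.KOda99b9c.e25]; decide +kernel) | decide +kernel)

theorem pi_le : ∀ i < 52, piL.getD i 0 ≤ 52 := by decide +kernel

theorem tau_inl : ∀ i : Fin chevF4.rank, pf tauL (Sum.inl i) = none ∨ i = ⟨0, by decide⟩ ∨ i = ⟨1, by decide⟩ := by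
  decide +kernel

/-- the table of the form -/
noncomputable def actB (i j : ℕ) : SV := bif Nat.beq (piL.getD i 0) (j + 1) then [(0, 0, 1)] else []

/-- the invariance of the form -/
noncomputable def chkB (r : ℕ) : Bool :=
  allB 52 fun j => allB 52 fun k => eqv 2 (ap2 actB (tabF4.col r j) (tabF4.col r k)) (actB j k)

theorem cB1 : ∀ i < 4, chkB (chevF4.simple i) = true := by decide +kernel

theorem cB2 : ∀ i < 4, chkB (chevF4.neg (chevF4.simple i)) = true := by decide +kernel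

variable {K : Type} [Field K] [CharP K 2]

theorem shift_eq : shift tabF4 chevF4 K = pm K (pf tauL) := by
  ext a c
  simp only [shift, pm, of_apply, tau_iff, Tab.sigCol]
  cases tabF4.sig.getD (enc chevF4 c) 0 with
  | zero => exact (if_neg (by omega)).symm
  | succ s =>
    change ev (bas chevF4 K) (1 : K) [(s, 0, 1)] a = _
    simp [ev_cons, ev_nil, bas, eq_comm]

theorem form_bas (t : K) (i j : ℕ) : toLinearMap₂' K (pm K (pf piL)) (bas chevF4 K i) (bas chevF4 K j) =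
    ev (fun _ => (1 : K)) t (actB i j) := by
  have h0 : ev (fun _ => (1 : K)) t (actB i j) = if piL.getD i 0 = j + 1 then 1 else 0 := by
    unfold actB
    split_ifs with h
    · rw [h, Nat.beq_refl, cond_true, ev_cons, ev_nil]
      simp
    · rw [Bool.eq_false_iff.2 fun e => h (Nat.eq_of_beq_eq_true e), cond_false, ev_nil]
  rw [h0]
  by_cases hi : i < chevF4.rank + chevF4.nroots
  · by_cases hj : j < chevF4.rank + chevF4.nroots
    · obtain ⟨a, rfl⟩ := exists_enc chevF4 hi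
      obtain ⟨c, rfl⟩ := exists_enc chevF4 hj
      rw [bas_enc, bas_enc, toLinearMap₂'_apply', mulVec_single_one, single_one_dotProduct]
      exact if_congr (pi_iff a c) rfl rfl
    · rw [bas_out chevF4 K hj, map_zero, if_neg]
      have h1 := pi_le i hi
      have h2 : ¬ j < 52 := hj
      omega
  · rw [bas_out chevF4 K hi, map_zero, LinearMap.zero_apply, List.getD_eq_default _ _ (not_lt.1 hi), if_neg (by omega)]

theorem form_x {r : ℕ} (hr : r < 48) (h : chkB r = true) (t : K) :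
    (chevF4.x K r t)ᵀ * pm K (pf piL) * chevF4.x K r t = pm K (pf piL) := by
  have : CharP K tabF4.p := (inferInstance : CharP K 2)
  ext a c
  have h1 := ev_of_eqv (fun _ => (1 : K)) t 2 two_pos
    (allB_sound (allB_sound h _ (enc_lt chevF4 a)) _ (enc_lt chevF4 c))
  rw [ev_ap2 (bas chevF4 K) t (bas chevF4 K) _ _ _ (form_bas t), ← x_bas GraphF4.good K hr, ← x_bas GraphF4.good K hr,
    ← form_bas, bas_enc, bas_enc] at h1
  rw [form_entry, h1, toLinearMap₂'_apply', mulVec_single_one, single_one_dotProduct]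
  rfl

/-- the adjoint representation -/
def rho (K : Type) [Field K] : chevF4.group K →* Matrix chevF4.Idx chevF4.Idx K :=
  (Units.coeHom _).comp (chevF4.group K).subtype

theorem rho_xS (r : ℕ) (t : K) : rho K (xS hp4.inList r t) = chevF4.x K r t := mat_xS hp4.inList r t

theorem rho_inv_mul (g : chevF4.group K) : rho K g⁻¹ * rho K g = 1 := by rw [← map_mul, inv_mul_cancel, map_one]

theorem rho_mul_inv (g : chevF4.group K) : rho K g * rho K g⁻¹ = 1 := by rw [← map_mul, mul_inv_cancel, map_one]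

theorem form_inv (g : chevF4.group K) : (rho K g)ᵀ * pm K (pf piL) * rho K g = pm K (pf piL) := by
  let H : Subgroup (chevF4.group K) :=
    { carrier := {g | (rho K g)ᵀ * pm K (pf piL) * rho K g = pm K (pf piL)}
      one_mem' := by simp only [_root_.Set.mem_ofPred_eq, _root_.map_one, _root_.Matrix.transpose_one, _root_.one_mul, _root_.mul_one]
      mul_mem' := fun {a b} ha hb => by
        have ha' : (rho K a)ᵀ * pm K (pf piL) * rho K a = pm K (pf piL) := ha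
        show _ = _
        rw [map_mul, transpose_mul, Matrix.mul_assoc _ (rho K a)ᵀ, ← Matrix.mul_assoc _ (rho K a),
          Matrix.mul_assoc _ _ (rho K a), ha']
        exact hb
      inv_mem' := fun {a} ha => by
        have ha' : (rho K a)ᵀ * pm K (pf piL) * rho K a = pm K (pf piL) := ha
        show _ = _
        conv_lhs => rw [← ha']
        rw [Matrix.mul_assoc, Matrix.mul_assoc _ (rho K a), rho_mul_inv, Matrix.mul_one, ← Matrix.mul_assoc,
          ← transpose_mul, rho_mul_inv, transpose_one, Matrix.one_mul] }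
  have h : H = ⊤ := eq_top_of_simple hp4.inList H
    (fun i hi t => show _ = _ by rw [rho_xS]; exact form_x (tab_simple i hi).2 (cB1 i hi) t)
    fun i hi t => show _ = _ by rw [rho_xS]; exact form_x (tab_simple i hi).1 (cB2 i hi) t
  exact h.ge (Subgroup.mem_top g)

variable [PerfectRing K 2]

theorem shift_al (g : chevF4.group K) : rho K (al K g) * pm K (pf tauL) = pm K (pf tauL) * rho K g := by
  let H : Subgroup (chevF4.group K) :=
    { carrier := {g | rho K (al K g) * pm K (pf tauL) = pm K (pf tauL) * rho K g}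
      one_mem' := by simp only [_root_.Set.mem_ofPred_eq, _root_.map_one, _root_.one_mul, _root_.mul_one]
      mul_mem' := fun {a b} ha hb => by
        show _ = _
        rw [map_mul, map_mul, map_mul, Matrix.mul_assoc, hb, ← Matrix.mul_assoc, ha, Matrix.mul_assoc]
      inv_mem' := fun {a} ha => by
        have ha' : rho K (al K a) * pm K (pf tauL) = pm K (pf tauL) * rho K a := ha
        show _ = _
        rw [map_inv, ← Matrix.mul_one (_ * pm K (pf tauL)), ← rho_mul_inv a, ← Matrix.mul_assoc, Matrix.mul_assoc _ _ (rho K a),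
          ← ha', ← Matrix.mul_assoc, rho_inv_mul, Matrix.one_mul] }
  have h : H = ⊤ := eq_top_of_xS_mem hp4.inList H fun r hr t => show _ = _ by
    rw [al_xS hr, rho_xS, rho_xS, ← shift_eq]
    have : CharP K tabF4.p := (inferInstance : CharP K 2)
    exact (shift_mul GraphF4.good K ⟨r, hr⟩ t).symm
  exact h.ge (Subgroup.mem_top g)

theorem dat : Dat (rho K) (al K) (pm K (pf tauL)) (pm K (pf piL)) where
  s := shift_al
  b := form_inv
  i1 := by rw [pm_mul, pm_mul, funext t1]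
  i2 := by rw [pm_tr tau_sig, pm_mul, pm_mul, pm_add t2]
  i3 := by rw [pm_tr tau_sig, pm_mul, pm_mul, funext t3]
  i4 := pm_tr pi_pi

end Cfsg.Agent.N2.Ex.K.C4
end

-- part: N2/Ex/K/C4Core
section
/-!
# S3519, exceptional groups, box (K): the cofixed space for `F₄`, `p = 2` (helper68)

* `irr_al` : the special isogeny preserves irreducibility;
* `core` : the bound for every submodule which contains the vectors `z v - v`.
-/

set_option autoImplicit false
set_option linter.unusedSectionVars false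

namespace Cfsg.Agent.N2.Ex.K.C4

open Matrix Cfsg Cfsg.Lie Cfsg.Lie.ChevalleyDatum
open Cfsg.Agent.Nodes.RGDChev Cfsg.Agent.Tits.Roots Cfsg.Agent.KFacts.RgdChevCoord
open Cfsg.Agent.BpExc Cfsg.Agent.H469.Exc Cfsg.Agent.H469.Exc.SigFr Cfsg.Agent.DS.Ex Cfsg.Agent.DS.Nt
open Cfsg.Agent.H296.FFour Cfsg.Agent.DS.Ex.Untw

/-- the transpose of the special isogeny -/
def psi : (Fin 4 → ℤ) →+ (Fin 4 → ℤ) where
  toFun a := ![2 * a 3, 2 * a 2, a 1, a 0]
  map_zero' := by decide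
  map_add' a b := by
    funext i
    (revert i; simp only [mul_add, _root_.Fin.forall_fin_succ, _root_.Nat.succ_eq_add_one, Nat.reduceAdd, Fin.isValue, _root_.Pi.add_apply, _root_.Matrix.cons_val_zero, _root_.Matrix.cons_val_succ, _root_.Matrix.cons_val_fin_one, _root_.implies_true, _root_.and_self])

theorem psi_vec : ∀ r < 48, psi (_root_.Cfsg.Agent.Nodes.RGDChev.vec chevF4 4 (br r)) = (la r : ℤ) • _root_.Cfsg.Agent.Nodes.RGDChev.vec chevF4 4 r := by decide +kernel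

theorem psi_psi (a : Fin 4 → ℤ) : psi (psi a) = (2 : ℤ) • a := by
  funext i
  (revert i; simp only [psi, _root_.Fin.forall_fin_succ, Fin.isValue, _root_.AddMonoidHom.coe_mk, _root_.ZeroHom.coe_mk, _root_.Matrix.cons_val, _root_.Matrix.cons_val_one, _root_.Matrix.cons_val_zero, _root_.Pi.smul_apply, _root_.Int.zsmul_eq_mul, _root_.Matrix.cons_val_succ, _root_.Fin.succ_zero_eq_one, _root_.Fin.succ_one_eq_two, _root_.Matrix.cons_val_fin_one, _root_.mul_eq_mul_left_iff, _root_.OfNat.ofNat_ne_zero, _root_.or_false, Fin.reduceSucc, _root_.IsEmpty.forall_iff, _root_.and_self])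

theorem inv_PL {μ : (Fin 4 → ℤ) →+ ℝ} {x : YY chevF4 2} (hx : x ∈ PL hpF4 2 μ) :
    (al (KK 2))⁻¹ x ∈ PL hpF4 2 (μ.comp psi) := by
  have h1 : ∀ s < chevF4.nroots, Act hpF4.inList (al (KK 2))⁻¹ s (br s) := fun s hs => by
    have h := (act_al (tab s hs).1).inv
    rwa [(tab s hs).2.1] at h
  have h2 : PL hpF4 2 μ ≤ (PL hpF4 2 (μ.comp psi)).comap (al (KK 2))⁻¹.toMonoidHom := by
    refine PL_le (fun t ht => T_le_PL (mem_TT_of_act (fun s hs => ⟨_, h1 s hs⟩) ht)) fun a ha h0 y hy => ?_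
    obtain ⟨⟨r, hr⟩, rfl⟩ := exists_idx hpF4 ha
    obtain ⟨-, hs, c, φ, -, h3, -⟩ := h1 r hr
    obtain ⟨t, ht⟩ := (LangThm.mem_XX_vec hpF4 hr).1 hy
    obtain rfl : y = xs hpF4.inList r t := Subtype.ext ht
    refine X_le_PL (rt_vec hpF4 ⟨_, hs⟩) ?_ ((LangThm.mem_XX_vec hpF4 hs).2 ⟨_, congrArg Subtype.val (h3 t)⟩)
    rw [AddMonoidHom.comp_apply, psi_vec r hr, map_zsmul, zsmul_eq_mul]
    exact mul_nonneg (by positivity) h0
  exact h2 hx

/-- the special isogeny preserves irreducibility -/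
theorem irr_al {Z : Subgroup (YY chevF4 2)} (h : Irr hpF4 2 Z) : Irr hpF4 2 (Z.map (al (KK 2)).toMonoidHom) := by
  intro g μ hg
  have h1 := h ((al (KK 2))⁻¹ g) (μ.comp psi) fun r hr => by
    have h2 := inv_PL (hg _ ⟨r, hr, rfl⟩)
    rw [map_mul, map_mul, map_inv] at h2
    exact (MulAut.inv_apply_self _ (al (KK 2)) r) ▸ h2
  refine AddMonoidHom.ext fun a => ?_
  have h2 : μ (psi (psi a)) = 0 := DFunLike.congr_fun h1 _
  rw [psi_psi, map_zsmul] at h2
  simpa only [_root_.AddMonoidHom.zero_apply, _root_.zsmul_eq_mul, _root_.Int.cast_ofNat, _root_.mul_eq_zero, _root_.OfNat.ofNat_ne_zero, _root_.false_or] using h2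

theorem le_two (hS : BoxSS) {Z : Set (YY chevF4 2)} {R : Subgroup (YY chevF4 2)} (hR : Irr hpF4 2 R)
    (h : ∀ r ∈ R, ∃ z ∈ Z, al (KK 2) z = r) : Module.finrank (KK 2) (Wv (rho (KK 2)) (pm (KK 2) (pf piL)) Z) ≤ 2 := by
  obtain ⟨g, hg⟩ := boxTor chevF4 4 _ hpF4 (Or.inl rfl) 2 _ (hS chevF4 4 _ hpF4 (Or.inl rfl) 2 R hR)
  refine dat.le_two g (Sum.inl ⟨0, by decide⟩) (Sum.inl ⟨1, by decide⟩) fun v hv u e h0 h1 => funext fun a => ?_
  rcases a with i | s
  · rcases tau_inl i with k | rfl | rfl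
    · rw [pm_mulVec, k]
      rfl
    · exact h0
    · exact h1
  · rw [← e]
    refine hg v (fun r hr => ?_) s
    obtain ⟨z, hz, rfl⟩ := h r hr
    exact hv z hz

/-- **the cofixed space** -/
theorem core (hS : BoxSS) {Z : Subgroup (YY chevF4 2)} (hZ : Irr hpF4 2 Z) {C : Submodule (KK 2) (chevF4.Idx → KK 2)}
    (h : ∀ z ∈ Z, ∀ v, ad chevF4 2 z v - v ∈ C) : Module.finrank (KK 2) ((chevF4.Idx → KK 2) ⧸ C) ≤ 4 := by
  have h1 := quot_le (ρ := rho (KK 2)) (Z := (Z : Set (YY chevF4 2))) h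
  have h2 := (dat (K := KK 2)).split (Z : Set (YY chevF4 2))
  have h3 := le_two hS (Z := al (KK 2) ⁻¹' (Z : Set (YY chevF4 2))) hZ fun r hr =>
    ⟨(al (KK 2)).symm r, by simpa using hr, by simp⟩
  have h4 := le_two hS (Z := (Z : Set (YY chevF4 2))) (irr_al hZ) fun r hr => hr
  omega

end Cfsg.Agent.N2.Ex.K.C4
end

private theorem dce_56cee945f7bb : _root_.True := by
  try have : _root_.True := by simp only [_root_.Cfsg.Agent.ChevalleyStructure.GraphColumns.bas.eq_1]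
  try have : _root_.True := by simp only [_root_.Cfsg.Agent.N2.Ex.K.C4.psi.eq_1]
  try have : _root_.True := by simp only [_root_.Cfsg.Agent.ChevalleyStructure.GraphCheck.Tab.sigCol.eq_1]
  try have : _root_.True := by simp only [_root_.Cfsg.Agent.N2.Ex.K.C4.pm.congr_simp]
  try have : _root_.True := by simp only [_root_.Cfsg.Agent.ChevalleyStructure.GraphSound.shift.eq_1]
  exact _root_.True.intro
end

-- part: N2/Ex/K/Scott
section
prune_inst 0x1002000002200002018058431201c02000000020043040004000200028000600d000601010020154a00014800300000000400000040000004200000000400000040000080480000000090000000000000000000300000000000000000000000200000000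
set_option linter.all false
open scoped Cfsg.Agent.FastGrp

-- part: N2/Ex/K/End
section
/-!
# S3519, exceptional groups, box (K): an invariant parabolic subgroup gives an invariant `p`-subgroup (helper70)

* `exists_fix_S` : stable unipotent groups generated by root groups have non-trivial fixed points;
* `UL μ` : the unipotent radical of `PL μ`; `Frm.sem`; `boxEnd : BoxEnd`.
-/

set_option autoImplicit false
set_option linter.unusedSectionVars false

namespace Cfsg.Agent.N2.Ex.K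

open CoxeterSystem Cfsg Cfsg.Lie Cfsg.Lie.ChevalleyDatum Matrix
open Cfsg.Agent.ChevalleyStructure Cfsg.Agent.ChevalleyStructure.Elts Cfsg.Agent.ChevalleyStructure.CoxeterGeom
  Cfsg.Agent.ChevalleyStructure.CoxeterGeomTypes
open Cfsg.Agent.Tits.Roots Cfsg.Agent.Tits.Core Cfsg.Agent.Nodes Cfsg.Agent.Nodes.Reps Cfsg.Agent.Nodes.BNOf
  Cfsg.Agent.Nodes.RGDChev Cfsg.Agent.Nodes.Bruhat Cfsg.Agent.Nodes.NormalForm
open Cfsg.Agent.KFacts.RgdField Cfsg.Agent.KFacts.RgdChevCoord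
open Cfsg.Agent.BpExc Cfsg.Agent.BpExc.TorCent Cfsg.Agent.BpExc.TorChev Cfsg.Agent.BpExc.Tow
  Cfsg.Agent.BpExc.TowChev Cfsg.Agent.BpExc.Fr Cfsg.Agent.BpExc.LangFr
open Cfsg.Agent.H469.Exc Cfsg.Agent.H129.TorusChar Cfsg.Agent.DS.Ex Cfsg.Agent.DS.Nt Cfsg.Agent.DS.Ex.Tor
  Cfsg.Agent.SB.Exc

section Dat

variable {p : ℕ} [Fact p.Prime] {k : Type} [Field k] [CharP k p] [IsAlgClosed k] {Y : Type} [Group Y] {N : Type}
  [Fintype N] [DecidableEq N] {ρ : Y →* GL N k} {F : MulAut Y} {G : Subgroup Y} (E : DL.Datum p ρ F G)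

theorem exists_fix_X {a : E.I → ℤ} (ha : E.Rt a) (hg : E.g a = a) : ∃ ξ ∈ E.X a, ξ ≠ 1 ∧ F ξ = ξ := by
  obtain ⟨c, hc, h1⟩ := E.F_x a ha
  rw [hg] at h1
  have he : E.ex a ≠ 0 := by
    intro h0
    rw [h0] at h1
    obtain ⟨d, e, H⟩ := E.exists_split'
    have h2 : ∀ (m : ℕ) u, (F ^ m) (E.x a u) = E.x a (c ^ m * u) := by
      intro m
      induction m with
      | zero => intro u; simp
      | succ m ih => intro u; rw [pow_succ, MulAut.mul_apply, h1, ih, pow_zero, pow_one, pow_succ, mul_assoc]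
    have h3 : ∀ u : k, u ^ p ^ e = c ^ d * u := fun u => E.x_inj _ ha (by rw [← H.x _ ha, h2])
    have h4 := h3 1
    rw [one_pow, mul_one] at h4
    refine Set.infinite_univ ((DL.finite_pow_eq (k := k) H.e_pos).subset fun u _ => ?_)
    show u ^ _ = u
    rw [h3, ← h4, one_mul]
  have hQ : 1 < p ^ E.ex a := Nat.one_lt_pow he (Fact.out : p.Prime).one_lt
  obtain ⟨n, hn⟩ : ∃ n, p ^ E.ex a = n + 1 := ⟨p ^ E.ex a - 1, by omega⟩
  obtain ⟨u, hu⟩ := IsAlgClosed.exists_pow_nat_eq c⁻¹ (n := n) (by omega)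
  refine ⟨E.x a u, E.x_mem ha u, fun h0 => ?_, by rw [h1, hn, pow_succ, hu, mul_inv_cancel_left₀ hc]⟩
  rw [(E.x_eq_one_iff ha).1 h0, zero_pow (by omega)] at hu
  exact inv_ne_zero hc hu.symm

theorem exists_fix_S {A : Set (E.I → ℤ)} (hA : ∀ a ∈ A, E.Rt a) (h : ∀ a ∈ A, E.g a ∈ A) (lam : (E.I → ℤ) →+ ℤ)
    (hl : ∀ a ∈ A, 0 < lam a) (hne : A.Nonempty) : ∃ u ∈ E.S A, u ≠ 1 ∧ F u = u := by
  classical
  obtain ⟨L, hL, hm⟩ := DL.exists_conv hA lam hl
  obtain ⟨a, L, rfl⟩ := List.exists_cons_of_ne_nil (l := L) (by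
    rintro rfl
    obtain ⟨a, ha⟩ := hne
    exact List.not_mem_nil ((hm a).2 ha))
  obtain ⟨⟨f, hf0, hf⟩, -⟩ := hL
  have ha : a ∈ A := (hm a).1 List.mem_cons_self
  have hi : ∀ m, E.g^[m] a ∈ A := fun m => by
    induction m with
    | zero => exact ha
    | succ m ih => rw [Function.iterate_succ_apply']; exact h _ ih
  have hX : ∀ m, ∀ ξ ∈ E.X a, (F ^ m) ξ ∈ E.X (E.g^[m] a) := fun m ξ hξ => by
    obtain ⟨u, rfl⟩ := (E.mem_X a (hA a ha) ξ).1 hξ
    obtain ⟨c, -, h1⟩ := E.F_pow_x m (hA a ha)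
    rw [h1]
    exact E.x_mem (hA _ (hi m)) _
  have h0 : ∃ d, 0 < d ∧ E.g^[d] a = a := by
    obtain ⟨d, e, H⟩ := E.exists_split'
    refine ⟨d, H.d_pos, of_not_not fun hc => one_ne_zero ((E.x_eq_one_iff (hA a ha)).1
      (E.eq_one_of_mem_X_X (hA _ (hi d)) (hA a ha) hc ?_ (E.x_mem (hA a ha) 1)))⟩
    have h1 := hX d _ (E.x_mem (hA a ha) 1)
    rwa [H.x _ (hA a ha), one_pow] at h1
  obtain ⟨ξ, hξ, h1, h2⟩ := exists_fix_X (E.pow (Nat.find_spec h0).1) (a := a) (hA a ha) (Nat.find_spec h0).2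
  obtain ⟨y, hy0, hy⟩ : ∃ y : ℕ → Y, y 0 = 1 ∧ ∀ m, y (m + 1) = y m * (F ^ m) ξ :=
    ⟨fun m => Nat.rec 1 (fun m z => z * (F ^ m) ξ) m, rfl, fun _ => rfl⟩
  have h3 : ∀ m, y (m + 1) = ξ * F (y m) := by
    intro m
    induction m with
    | zero => simp [hy, hy0]
    | succ m ih =>
      rw [hy (m + 1)]
      conv_lhs => rw [ih]
      rw [hy m, map_mul, pow_succ', MulAut.mul_apply, mul_assoc]
  have h4 : ∀ m, m < Nat.find h0 → ξ⁻¹ * y (m + 1) ∈ E.S {x | E.Rt x ∧ 0 < f x} := by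
    intro m
    induction m with
    | zero => intro _; simp [hy, hy0]
    | succ m ih =>
      intro hm'
      rw [hy (m + 1), ← mul_assoc]
      refine mul_mem (ih (by omega)) (RGD.le_Sup (S := {x | E.Rt x ∧ 0 < f x}) ⟨hA _ (hi _), hf _ ?_⟩ (hX _ ξ hξ))
      exact (List.mem_cons.1 ((hm _).2 (hi (m + 1)))).resolve_left fun e => Nat.find_min h0 hm' ⟨m.succ_pos, e⟩
  have h5 : ∀ m, y m ∈ E.S A := fun m => by
    induction m with
    | zero => rw [hy0]; exact one_mem _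
    | succ m ih => rw [hy]; exact mul_mem ih (RGD.le_Sup (hi m) (hX m ξ hξ))
  obtain ⟨m, hm'⟩ : ∃ m, Nat.find h0 = m + 1 := ⟨Nat.find h0 - 1, by have := (Nat.find_spec h0).1; omega⟩
  have h7 := (hy (m + 1)).symm.trans (h3 (m + 1))
  rw [← hm', h2, hm'] at h7
  obtain ⟨z, hz, e⟩ := E.lang_S hA h (RGD.le_Sup ha hξ)
  refine ⟨z * y (m + 1) * z⁻¹, mul_mem (mul_mem hz (h5 _)) (inv_mem hz), fun h8 => h1 ?_, ?_⟩
  · have h9 := h4 m (by omega)
    rw [conj_eq_one_iff.1 h8, mul_one, inv_mem_iff] at h9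
    exact E.sup_inf_sup' f lam h9 (RGD.le_Sup (S := {x | E.Rt x ∧ f x ≤ 0 ∧ 0 < lam x}) ⟨hA a ha, hf0.le, hl a ha⟩ hξ)
  · rw [map_mul, map_mul, map_inv]
    calc _ = z * (z⁻¹ * F z * F (y (m + 1))) * (F z)⁻¹ := by group
      _ = _ := by rw [← e, ← h7, e]; group

end Dat

variable {D : ChevalleyDatum} {l : ℕ} {M : CoxeterMatrix (Fin l)} {hp : IsType D l M} {p : ℕ} [Fact p.Prime]

variable (hp p) in
/-- the unipotent radical of `PL μ` -/
noncomputable def UL (μ : (Fin l → ℤ) →+ ℝ) : Subgroup (YY D p) := MS D p {a | RT hp a ∧ 0 < μ a}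

variable {μ : (Fin l → ℤ) →+ ℝ}

theorem X_le_UL {a : Fin l → ℤ} (ha : RT hp a) (h : 0 < μ a) : XX D l (KK p) a ≤ UL hp p μ :=
  RGD.le_Sup (S := {a | RT hp a ∧ 0 < μ a}) ⟨ha, h⟩

theorem le_normalizer_of {G : Type*} [Group G] {B U : Subgroup G} (h : ∀ x ∈ B, ∀ u ∈ U, x * u * x⁻¹ ∈ U) :
    B ≤ Subgroup.normalizer (U : Set G) := fun x hx => Subgroup.mem_normalizer_iff.2 fun u => ⟨h x hx u, fun hu => by
  have h1 := h _ (inv_mem hx) _ hu
  rwa [show x⁻¹ * (x * u * x⁻¹) * x⁻¹⁻¹ = u by group] at h1⟩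

theorem PL_le_normalizer : PL hp p μ ≤ Subgroup.normalizer (UL hp p μ : Set (YY D p)) := by
  refine PL_le (le_normalizer_of fun t ht u hu => (dat hp p).conj_mem_S_of_T (fun _ h => h.1) ht hu)
    fun b hb h0 => le_normalizer_of fun x hx => ?_
  have h1 : UL hp p μ ≤ (UL hp p μ).comap (MulAut.conj x).toMonoidHom := RGD.Sup_le fun a ha u hu => by
    show x * u * x⁻¹ ∈ UL hp p μ
    by_cases e : b = a
    · subst e
      exact X_le_UL ha.1 ha.2 (mul_mem (mul_mem hx hu) (inv_mem hx))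
    · have e' : b ≠ -a := fun e' => by
        rw [e', map_neg] at h0
        exact absurd ha.2 (not_lt.2 (neg_nonneg.1 h0))
      have h2 : x * u * x⁻¹ * u⁻¹ ∈ MS D p {c | Btwn M.toCoxeterSystem hp.isCartan b a c} :=
        (dat hp p).comm hb ha.1 e e' hx hu
      rw [← inv_mul_cancel_right (x * u * x⁻¹) u]
      refine mul_mem (RGD.Sup_mono ?_ h2) (X_le_UL ha.1 ha.2 hu)
      rintro c ⟨hc, m, i, j, hm, hi, hj, e'⟩
      refine ⟨hc, ?_⟩
      have h3 := congrArg μ e'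
      rw [map_add, map_zsmul, map_zsmul, map_zsmul, zsmul_eq_mul, zsmul_eq_mul, zsmul_eq_mul] at h3
      refine (mul_pos_iff_of_pos_left (Int.cast_pos.2 hm : (0 : ℝ) < m)).1 ?_
      rw [h3]
      exact add_pos_of_nonneg_of_pos (mul_nonneg (Int.cast_nonneg hi.le) h0) (mul_pos (Int.cast_pos.2 hj) ha.2)
  exact fun u hu => h1 hu

theorem pos_sub (hd : ∀ i, 0 ≤ μ (sr i)) : {a | RT hp a ∧ 0 < μ a} ⊆ RGD.Pos M.toCoxeterSystem hp.isCartan :=
  fun a ha => ⟨ha.1, ha.1.pos_or_neg.resolve_right fun h => by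
    have h1 := dom_nonneg hd (neg_nonneg.2 h)
    rw [map_neg] at h1
    exact absurd ha.2 (not_lt.2 (neg_nonneg.1 h1))⟩

theorem UL_le_U (hd : ∀ i, 0 ≤ μ (sr i)) : UL hp p μ ≤ MS D p (RGD.Pos M.toCoxeterSystem hp.isCartan) :=
  RGD.Sup_mono (pos_sub hd)

theorem PL_eq : PL hp p μ = TT D (KK p) ⊔ MS D p {a | RT hp a ∧ 0 ≤ μ a} := sup_comm _ _

variable {φ σ : MulAut (YY D p)} {y : YY D p} {ψ : (Fin l → ℤ) →+ (Fin l → ℤ)} {Γ : Subgroup (MulAut (YY D p))}

theorem Frm.map_UL (h : Frm hp p φ y ψ) {s : ℝ} (hs : 0 < s) (e : ∀ a, μ (ψ a) = s * μ a) {u : YY D p}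
    (hu : u ∈ UL hp p μ) : y * φ u * y⁻¹ ∈ UL hp p μ := by
  obtain ⟨g, hg, h1⟩ := h.root
  have h2 : UL hp p μ ≤ (UL hp p μ).comap (MulAut.conj y * φ).toMonoidHom := RGD.Sup_le fun a ha x hx => by
    refine X_le_UL (hg.mapsTo ha.1) ?_ (((h1 a ha.1).2 x).2 hx)
    obtain ⟨c, hc, e'⟩ := (h1 a ha.1).1
    refine (mul_pos_iff_of_pos_left hs).1 ?_
    rw [← e, e', map_zsmul, zsmul_eq_mul]
    exact mul_pos (Int.cast_pos.2 hc) ha.2
  exact h2 hu

theorem Frm.sem (K : KF hp p σ Γ) (h : Frm hp p σ y ψ) : ∃ g ex Mx, Sem hp p (MulAut.conj y * σ) g ex Mx := by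
  obtain ⟨y₀, g, ex, Mx, h0⟩ := K.sem
  have e : ∀ x, (MulAut.conj y * σ) x = y * y₀⁻¹ * (MulAut.conj y₀ * σ) x * (y * y₀⁻¹)⁻¹ := fun x => by
    rw [MulAut.mul_apply, MulAut.mul_apply, MulAut.conj_apply, MulAut.conj_apply]
    group
  let E : DL.Datum p (D.group (KK p)).subtype (MulAut.conj y₀ * σ) ⊤ :=
    (DL.Ex.chev hp (locFin p) one_pos).newF (K.amb.conj_mul y₀) g ex h0.root h0.x Mx h0.τ
  have h1 := E.rp_pr (E.mem_NN_of_conj (y := y * y₀⁻¹) (Subgroup.mem_top _) fun t ht => by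
    obtain ⟨t, rfl⟩ := (MulAut.conj y₀ * σ).surjective t
    rw [← e]
    exact (h.tor t).2 ((E.F_mem_T_iff t).1 ht))
  obtain ⟨B, hB⟩ : ∃ B : Matrix (Fin l) (Fin l) ℤ, ∀ c,
      y * y₀⁻¹ * DL.Ex.tau hp c * (y * y₀⁻¹)⁻¹ = DL.Ex.tau hp (DL.mon B c) := E.exists_mat h1
  refine ⟨fun a => rA hp (E.pr (y * y₀⁻¹)) (g a), ex, B * Mx, fun a ha => (h0.root a ha).act _, fun a ha => ?_, fun c => ?_⟩
  · obtain ⟨c, hc, h2⟩ := h0.x a ha
    obtain ⟨c', hc', h3⟩ := E.nact h1 (h0.root a ha)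
    exact ⟨c' * c, mul_ne_zero hc' hc, fun u => by rw [e, h2, mul_assoc c']; exact h3 _⟩
  · rw [e, h0.τ, DL.mon_mul]
    exact hB _

/-- **[END]** -/
theorem boxEnd : BoxEnd := by
  intro D l M hp p _ σ Γ K g μ hμ hd H
  have h1 : ∀ φ ∈ Γ, (∃ y ψ, Frm hp p φ y ψ) → ∀ v, g⁻¹ * v * g ∈ UL hp p μ → g⁻¹ * φ v * g ∈ UL hp p μ := by
    intro φ hφ hf v hv
    obtain ⟨y, ψ, s, a1, a2, a3, a4⟩ := H φ hφ hf
    have a5 := (Subgroup.mem_normalizer_iff.1 (PL_le_normalizer a4) _).1 (a1.map_UL a2 a3 hv)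
    rw [map_mul, map_mul, map_inv] at a5
    convert a5 using 1
    group
  refine ⟨(UL hp p μ).comap (MulAut.conj g⁻¹).toMonoidHom ⊓ DL.fix σ, ?_, fun x => ?_, fun _ h => h.2, fun φ hφ u hu => ?_⟩
  · obtain ⟨y, ψ, s, a1, a2, a3, a4⟩ := H σ K.mem K.frmσ
    obtain ⟨g', ex, Mx, h0⟩ := a1.sem K
    let E : DL.Datum p (D.group (KK p)).subtype (MulAut.conj y * σ) ⊤ :=
      (DL.Ex.chev hp (locFin p) one_pos).newF (K.amb.conj_mul y) g' ex h0.root h0.x Mx h0.τ
    have a5 : ∀ a, RT hp a → ∃ c : ℝ, 0 < c ∧ μ (g' a) = c * μ a := fun a ha => by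
      refine ⟨s⁻¹ * (p : ℝ) ^ ex a, mul_pos (inv_pos.2 a2) (pow_pos (Nat.cast_pos.2 (Fact.out : p.Prime).pos) _), ?_⟩
      have b1 : ψ (g' a) = ((p : ℤ) ^ ex a) • a := by
        refine sep hp p fun t ht => ?_
        obtain ⟨c, rfl⟩ := (DL.Ex.mem_TT_iff hp t).1 ht
        have b2 := E.χ_F ha ht
        rw [show (MulAut.conj y * σ) (DL.Ex.tau hp c) = _ from h0.τ c] at b2
        rw [← a1.chr _ ht, show y * σ (DL.Ex.tau hp c) * y⁻¹ = _ from h0.τ c, (isMC_cX hp ht).zsmul, DL.Ex.cX_tau,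
          DL.Ex.cX_tau, ← Nat.cast_pow, zpow_natCast]
        exact (E.χ_τ _ _).symm.trans (b2.trans (congrArg (· ^ p ^ ex a) (E.χ_τ a c)))
      have b2 := a3 (g' a)
      rw [b1, map_zsmul, zsmul_eq_mul, Int.cast_pow, Int.cast_natCast] at b2
      rw [mul_assoc, b2, inv_mul_cancel_left₀ a2.ne']
    obtain ⟨c, hc, e⟩ := E.lang_TS (A := {a | RT hp a ∧ 0 ≤ μ a}) (fun _ h => h.1) (fun a ha => ⟨h0.root a ha.1, by
      obtain ⟨c, b1, b2⟩ := a5 a ha.1
      show 0 ≤ μ (g' a)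
      rw [b2]
      exact mul_nonneg b1.le ha.2⟩) ((PL_eq (hp := hp) (p := p) (μ := μ)).le a4)
    obtain ⟨i, hi⟩ := exists_sr_ne hμ
    obtain ⟨u, hu, b1, b2⟩ := exists_fix_S E (A := {a | RT hp a ∧ 0 < μ a}) (fun _ h => h.1) (fun a ha => ⟨h0.root a ha.1, by
      obtain ⟨c, b1, b2⟩ := a5 a ha.1
      show 0 < μ (g' a)
      rw [b2]
      exact mul_pos b1 ha.2⟩) _ (fun a ha => E.ht_pos_of_pos a (pos_sub hd ha))
      ⟨sr i, isRoot_sr _ _ i, lt_of_le_of_ne (hd i) hi.symm⟩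
    refine (Subgroup.ne_bot_iff_exists_ne_one).2 ⟨⟨g * (c⁻¹ * u * c⁻¹⁻¹) * g⁻¹, ?_, ?_⟩, fun e' => b1 ?_⟩
    · show g⁻¹ * (g * (c⁻¹ * u * c⁻¹⁻¹) * g⁻¹) * g⁻¹⁻¹ ∈ UL hp p μ
      rw [show g⁻¹ * (g * (c⁻¹ * u * c⁻¹⁻¹) * g⁻¹) * g⁻¹⁻¹ = c⁻¹ * u * c⁻¹⁻¹ by group]
      exact (Subgroup.mem_normalizer_iff.1 (PL_le_normalizer (inv_mem ((PL_eq (hp := hp) (p := p) (μ := μ)).ge hc))) _).1 hu
    · show σ (g * (c⁻¹ * u * c⁻¹⁻¹) * g⁻¹) = g * (c⁻¹ * u * c⁻¹⁻¹) * g⁻¹
      have b3 : σ u = y⁻¹ * u * y := by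
        conv_rhs => rw [← show y * σ u * y⁻¹ = u from b2]
        group
      have b4 : σ g = g * c⁻¹ * y * σ c := by
        rw [show σ g = g * (g⁻¹ * σ g * y⁻¹) * y by group, e, MulAut.mul_apply, MulAut.conj_apply]
        group
      simp only [map_mul, map_inv]
      rw [b3, b4]
      group
    · exact conj_eq_one_iff.1 (conj_eq_one_iff.1 (congrArg Subtype.val e'))
  · obtain ⟨k, hk⟩ := (dat hp p).isPGroup_U ⟨_, UL_le_U hd x.2.1⟩
    refine ⟨k, Subtype.ext ((MulAut.conj g⁻¹).injective ?_)⟩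
    rw [Subgroup.coe_pow, map_pow, Subgroup.coe_one, map_one]
    exact congrArg Subtype.val hk
  · refine ⟨?_, ?_⟩
    · obtain ⟨φ', b1, b2, b3⟩ := K.exists_frm hφ (Set.finite_singleton u)
      show g⁻¹ * φ u * g⁻¹⁻¹ ∈ UL hp p μ
      rw [inv_inv, ← b3 u rfl]
      refine h1 φ' b1 b2 u ?_
      rw [← inv_inv g, inv_inv g⁻¹]
      exact hu.1
    · show σ (φ u) = φ u
      rw [← MulAut.mul_apply, ← K.comm φ hφ, MulAut.mul_apply, show σ u = u from hu.2]

end Cfsg.Agent.N2.Ex.K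
end

-- part: N2/Ex/K/Geo
section
/-!
# S3519, exceptional groups, box (K): Kempf's canonical parabolic subgroup, abstract form (helper70)

* `cv`, `ex`, `BB` : the real root space with the invariant form; `Cf ψ s` : `ψ` is conformal; `Frm.cf`;
* `Sta S₀` : state functions; `kempf`.
-/

set_option autoImplicit false
set_option linter.unusedSectionVars false

namespace Cfsg.Agent.N2.Ex.K

open CoxeterSystem Cfsg Cfsg.Lie Cfsg.Lie.ChevalleyDatum Matrix
open Cfsg.Agent.ChevalleyStructure Cfsg.Agent.ChevalleyStructure.Elts Cfsg.Agent.ChevalleyStructure.CoxeterGeom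
  Cfsg.Agent.ChevalleyStructure.CoxeterGeomTypes
open Cfsg.Agent.Tits.Roots Cfsg.Agent.Tits.Core Cfsg.Agent.Nodes Cfsg.Agent.Nodes.Reps Cfsg.Agent.Nodes.BNOf
  Cfsg.Agent.Nodes.RGDChev Cfsg.Agent.Nodes.Bruhat Cfsg.Agent.Nodes.NormalForm
open Cfsg.Agent.KFacts.RgdField Cfsg.Agent.KFacts.RgdChevCoord
open Cfsg.Agent.BpExc Cfsg.Agent.BpExc.TorCent Cfsg.Agent.BpExc.TorChev Cfsg.Agent.BpExc.Tow
  Cfsg.Agent.BpExc.TowChev Cfsg.Agent.BpExc.Fr Cfsg.Agent.BpExc.LangFr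
open Cfsg.Agent.H469.Exc Cfsg.Agent.H129.TorusChar Cfsg.Agent.DS.Ex Cfsg.Agent.DS.Nt Cfsg.Agent.DS.Ex.Tor
  Cfsg.Agent.SB.Exc
open Cfsg.Agent.E7P.Kf (PD IsCl Opt)

section Euc

variable {l : ℕ}

/-- lattice points -/
def cv (a : Fin l → ℤ) : Fin l → ℝ := fun i => (a i : ℝ)

theorem cv_add (a b : Fin l → ℤ) : cv (a + b) = cv a + cv b := funext fun _ => Int.cast_add _ _

theorem cv_sub (a b : Fin l → ℤ) : cv (a - b) = cv a - cv b := funext fun _ => Int.cast_sub _ _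

theorem cv_zsmul (c : ℤ) (a : Fin l → ℤ) : cv (c • a) = (c : ℝ) • cv a := funext fun _ => Int.cast_mul _ _

theorem cv_zero : cv (0 : Fin l → ℤ) = 0 := funext fun _ => Int.cast_zero

theorem cv_ne {a : Fin l → ℤ} (h : a ≠ 0) : cv a ≠ 0 := fun e => h (funext fun i => Int.cast_eq_zero.1 (congrFun e i))

theorem cv_sr (i : Fin l) : cv (sr i) = Pi.basisFun ℝ (Fin l) i := by
  funext j
  rw [Pi.basisFun_apply]
  by_cases h : j = i
  · subst h
    rw [cv, sr_self, Pi.single_eq_same, Int.cast_one]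
  · rw [cv, sr_ne h, Pi.single_eq_of_ne h, Int.cast_zero]

theorem lin_ext {F : Type*} [AddCommGroup F] [Module ℝ F] {f g : (Fin l → ℝ) →ₗ[ℝ] F}
    (h : ∀ i, f (cv (sr i)) = g (cv (sr i))) : f = g :=
  (Pi.basisFun ℝ (Fin l)).ext fun i => by rw [← cv_sr]; exact h i

/-- `cv` as an additive map -/
def cvH : (Fin l → ℤ) →+ (Fin l → ℝ) := ⟨⟨cv, cv_zero⟩, cv_add⟩

theorem map_sum_sr {F : Type*} [AddCommGroup F] [Module ℝ F] (f : (Fin l → ℤ) →+ F) (a : Fin l → ℤ) :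
    f a = ∑ i, (a i : ℝ) • f (sr i) := by
  conv_lhs => rw [IsMC.eq_sum_sr a]
  rw [map_sum]
  exact Finset.sum_congr rfl fun i _ => by rw [map_zsmul, Int.cast_smul_eq_zsmul]

/-- the real extension -/
noncomputable def ex (ψ : (Fin l → ℤ) →+ (Fin l → ℤ)) : (Fin l → ℝ) →ₗ[ℝ] (Fin l → ℝ) :=
  (Pi.basisFun ℝ (Fin l)).constr ℝ fun i => cv (ψ (sr i))

theorem ex_cv (ψ : (Fin l → ℤ) →+ (Fin l → ℤ)) (a : Fin l → ℤ) : ex ψ (cv a) = cv (ψ a) := by
  have h1 : cv a = _ := map_sum_sr cvH a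
  have h2 : cv (ψ a) = _ := map_sum_sr (cvH.comp ψ) a
  rw [h1, h2, map_sum]
  refine Finset.sum_congr rfl fun i _ => ?_
  rw [map_smul]
  congr 1
  show ex ψ (cv (sr i)) = cv (ψ (sr i))
  rw [cv_sr, ex, Module.Basis.constr_basis]

theorem ex_ex {ψ₁ ψ₂ ψ₃ ψ₄ : (Fin l → ℤ) →+ (Fin l → ℤ)} (h : ∀ a, ψ₁ (ψ₂ a) = ψ₃ (ψ₄ a)) (x : Fin l → ℝ) :
    ex ψ₁ (ex ψ₂ x) = ex ψ₃ (ex ψ₄ x) := by
  have h1 : ex ψ₁ ∘ₗ ex ψ₂ = ex ψ₃ ∘ₗ ex ψ₄ := lin_ext fun i => by
    rw [LinearMap.comp_apply, LinearMap.comp_apply, ex_cv, ex_cv, ex_cv, ex_cv, h]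
  exact LinearMap.congr_fun h1 x

theorem ex_eq {ψ₁ ψ₂ ψ₃ : (Fin l → ℤ) →+ (Fin l → ℤ)} (h : ∀ a, ψ₁ (ψ₂ a) = ψ₃ a) (x : Fin l → ℝ) :
    ex ψ₁ (ex ψ₂ x) = ex ψ₃ x := by
  have h1 : ex ψ₁ ∘ₗ ex ψ₂ = ex ψ₃ := lin_ext fun i => by rw [LinearMap.comp_apply, ex_cv, ex_cv, ex_cv, h]
  exact LinearMap.congr_fun h1 x

theorem ex_id {ψ : (Fin l → ℤ) →+ (Fin l → ℤ)} (h : ∀ a, ψ a = a) (x : Fin l → ℝ) : ex ψ x = x := by
  have h1 : ex ψ = LinearMap.id := lin_ext fun i => by rw [ex_cv, h]; rfl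
  exact LinearMap.congr_fun h1 x

end Euc

variable {D : ChevalleyDatum} {l : ℕ} {M : CoxeterMatrix (Fin l)} (hp : IsType D l M)

include hp in
theorem conn : 0 < l ∧ ∀ S : Set (Fin l), S.Nonempty → Sᶜ.Nonempty → ∃ i ∈ S, ∃ j ∈ Sᶜ, cartanOf D l i j ≠ 0 := by
  have hp' := hp
  simp only [IsType, typeList, List.mem_cons, List.not_mem_nil, or_false, Prod.mk.injEq] at hp'
  rcases hp' with ⟨h, e⟩ | ⟨h, e⟩ | ⟨h, e⟩ | ⟨h, e⟩ | ⟨h, e⟩ | ⟨h, e⟩ | ⟨h, e⟩
  · obtain rfl : l = 2 := congrArg Sigma.fst e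
    subst h
    exact ⟨by omega, H795.IrrTypes.conn_of_tree (pr := ![0, 0]) (dep := ![0, 1]) (by decide +kernel) (by decide +kernel)⟩
  · obtain rfl : l = 2 := congrArg Sigma.fst e
    subst h
    exact ⟨by omega, H795.IrrTypes.conn_of_tree (pr := ![0, 0]) (dep := ![0, 1]) (by decide +kernel) (by decide +kernel)⟩
  · obtain rfl : l = 4 := congrArg Sigma.fst e
    subst h
    exact ⟨by omega, H795.IrrTypes.conn_of_tree (pr := ![1, 1, 1, 1]) (dep := ![1, 0, 1, 1]) (by decide +kernel)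
      (by decide +kernel)⟩
  · obtain rfl : l = 4 := congrArg Sigma.fst e
    subst h
    exact ⟨by omega, H795.IrrTypes.conn_of_tree (pr := ![0, 0, 1, 2]) (dep := ![0, 1, 2, 3]) (by decide +kernel)
      (by decide +kernel)⟩
  · obtain rfl : l = 6 := congrArg Sigma.fst e
    subst h
    exact ⟨by omega, H795.IrrTypes.conn_of_tree (pr := ![0, 3, 0, 2, 3, 4]) (dep := ![0, 3, 1, 2, 3, 4])
      (by decide +kernel) (by decide +kernel)⟩
  · obtain rfl : l = 7 := congrArg Sigma.fst e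
    subst h
    exact ⟨by omega, H795.IrrTypes.conn_of_tree (pr := ![0, 3, 0, 2, 3, 4, 5]) (dep := ![0, 3, 1, 2, 3, 4, 5])
      (by decide +kernel) (by decide +kernel)⟩
  · obtain rfl : l = 8 := congrArg Sigma.fst e
    subst h
    exact ⟨by omega, H795.IrrTypes.conn_of_tree (pr := ![0, 3, 0, 2, 3, 4, 5, 6]) (dep := ![0, 3, 1, 2, 3, 4, 5, 6])
      (by decide +kernel) (by decide +kernel)⟩

/-- the Weyl group is finite -/
@[reducible] noncomputable def ftW : Fintype M.Group := @Fintype.ofFinite _ (finW hp)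

/-- the invariant form -/
noncomputable def BB : (Fin l → ℝ) →ₗ[ℝ] (Fin l → ℝ) →ₗ[ℝ] ℝ :=
  LinearMap.mk₂ ℝ (fun x y => ∑ w ∈ @Finset.univ _ (ftW hp), ex (rA hp w) x ⬝ᵥ ex (rA hp w) y)
    (fun _ _ _ => by simp only [map_add, add_dotProduct, Finset.sum_add_distrib])
    (fun _ _ _ => by simp only [map_smul, smul_dotProduct, Finset.smul_sum])
    (fun _ _ _ => by simp only [map_add, dotProduct_add, Finset.sum_add_distrib])
    (fun _ _ _ => by simp only [map_smul, dotProduct_smul, Finset.smul_sum])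

theorem BB_apply (x y : Fin l → ℝ) :
    BB hp x y = ∑ w ∈ @Finset.univ _ (ftW hp), ex (rA hp w) x ⬝ᵥ ex (rA hp w) y := rfl

theorem rA_one (a : Fin l → ℤ) : rA hp 1 a = a := by rw [rA_apply, map_one, Module.End.one_apply]

theorem pd : PD (BB hp) where
  symm x y := Finset.sum_congr rfl fun _ _ => dotProduct_comm _ _
  pos x hx := by
    let _ := ftW hp
    rw [BB_apply]
    refine Finset.sum_pos' (fun w _ => Finset.sum_nonneg fun i _ => mul_self_nonneg _) ⟨1, Finset.mem_univ _, ?_⟩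
    rw [ex_id (rA_one hp)]
    obtain ⟨i, hi⟩ := Function.ne_iff.1 hx
    exact Finset.sum_pos' (fun i _ => mul_self_nonneg _) ⟨i, Finset.mem_univ _, mul_self_pos.2 hi⟩
  cont := continuous_finsetSum _ fun w _ =>
    (ex (rA hp w)).continuous_of_finiteDimensional.dotProduct (ex (rA hp w)).continuous_of_finiteDimensional

theorem BB_rA (v : M.Group) (x y : Fin l → ℝ) : BB hp (ex (rA hp v) x) (ex (rA hp v) y) = BB hp x y := by
  let _ := ftW hp
  rw [BB_apply, BB_apply]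
  refine Fintype.sum_equiv (Equiv.mulRight v) _ _ fun w => ?_
  rw [ex_eq fun a => (rA_mul hp w v a).symm, ex_eq fun a => (rA_mul hp w v a).symm]
  rfl

theorem ex_inv (v : M.Group) (x : Fin l → ℝ) : ex (rA hp v⁻¹) (ex (rA hp v) x) = x := by
  rw [ex_eq (ψ₃ := AddMonoidHom.id _) (rA_inv hp v)]
  exact ex_id (fun _ => rfl) x

theorem BB_inv (v : M.Group) (x y : Fin l → ℝ) : BB hp x (ex (rA hp v⁻¹) y) = BB hp (ex (rA hp v) x) y := by
  rw [← BB_rA hp v⁻¹ (ex (rA hp v) x), ex_inv]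

/-- the cocharacter of a point -/
noncomputable def mu (β : Fin l → ℝ) : (Fin l → ℤ) →+ ℝ := (BB hp β).toAddMonoidHom.comp cvH

theorem mu_apply (β : Fin l → ℝ) (a : Fin l → ℤ) : mu hp β a = BB hp β (cv a) := rfl

theorem eq_zero_of_sr {β : Fin l → ℝ} (h : ∀ i, BB hp β (cv (sr i)) = 0) : β = 0 := by
  have h1 : BB hp β = 0 := lin_ext h
  by_contra hc
  have h2 := (pd hp).pos β hc
  rw [h1] at h2
  exact lt_irrefl _ h2

theorem exists_pt (c : Fin l → ℝ) : ∃ β, ∀ i, BB hp β (cv (sr i)) = c i := by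
  let f : (Fin l → ℝ) →ₗ[ℝ] (Fin l → ℝ) := LinearMap.pi fun i => (BB hp).flip (cv (sr i))
  have h1 : Function.Injective f := (injective_iff_map_eq_zero f).2 fun β h => eq_zero_of_sr hp fun i => congrFun h i
  obtain ⟨β, h⟩ := LinearMap.injective_iff_surjective.1 h1 c
  exact ⟨β, fun i => congrFun h i⟩

theorem exists_mu (μ : (Fin l → ℤ) →+ ℝ) : ∃ β, mu hp β = μ := by
  obtain ⟨β, h⟩ := exists_pt hp fun i => μ (sr i)
  refine ⟨β, AddMonoidHom.ext fun a => ?_⟩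
  rw [map_eq_sum, map_eq_sum μ]
  exact Finset.sum_congr rfl fun i _ => by rw [mu_apply, h]

variable (D) in
/-- the simple coroots -/
noncomputable def pr (i : Fin l) : (Fin l → ℝ) →ₗ[ℝ] ℝ := (Pi.basisFun ℝ (Fin l)).constr ℝ fun j => (cartanOf D l i j : ℝ)

theorem pr_sr (i j : Fin l) : pr D i (cv (sr j)) = cartanOf D l i j := by rw [cv_sr, pr, Module.Basis.constr_basis]

theorem ex_simple (i : Fin l) (x : Fin l → ℝ) :
    ex (rA hp (M.toCoxeterSystem.simple i)) x = x - pr D i x • cv (sr i) := by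
  have h1 : ex (rA hp (M.toCoxeterSystem.simple i)) = LinearMap.id - (pr D i).smulRight (cv (sr i)) := lin_ext fun j => by
    rw [ex_cv, rA_apply, rep_simple_eq, cv_sub, cv_zsmul, DL.Ex.pairing_sr', LinearMap.sub_apply,
      LinearMap.smulRight_apply, pr_sr]
    rfl
  exact LinearMap.congr_fun h1 x

theorem two_B {B : (Fin l → ℝ) →ₗ[ℝ] (Fin l → ℝ) →ₗ[ℝ] ℝ} (h : ∀ w x y, B (ex (rA hp w) x) (ex (rA hp w) y) = B x y)
    (i : Fin l) (x : Fin l → ℝ) : 2 * B x (cv (sr i)) = pr D i x * B (cv (sr i)) (cv (sr i)) := by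
  have h1 := h (M.toCoxeterSystem.simple i) x (cv (sr i))
  have h2 : ex (rA hp (M.toCoxeterSystem.simple i)) (cv (sr i)) = -cv (sr i) := by
    rw [ex_cv, rA_apply, rep_simple_sr]
    exact map_neg cvH _
  rw [h2, ex_simple] at h1
  simp only [map_neg, map_sub, map_smul, LinearMap.sub_apply, LinearMap.smul_apply, smul_eq_mul] at h1
  linarith

theorem B_sr_pos (i : Fin l) : 0 < BB hp (cv (sr i)) (cv (sr i)) := (pd hp).pos _ (cv_ne (sr_ne_zero i))

/-- invariant symmetric forms are proportional -/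
theorem exists_prop {B : (Fin l → ℝ) →ₗ[ℝ] (Fin l → ℝ) →ₗ[ℝ] ℝ} (hs : ∀ x y, B x y = B y x)
    (h : ∀ w x y, B (ex (rA hp w) x) (ex (rA hp w) y) = B x y) : ∃ c, ∀ x y, B x y = c * BB hp x y := by
  obtain ⟨hl, hc⟩ := conn hp
  let i₀ : Fin l := ⟨0, hl⟩
  let c := B (cv (sr i₀)) (cv (sr i₀)) / BB hp (cv (sr i₀)) (cv (sr i₀))
  let S : Set (Fin l) := {i | B (cv (sr i)) (cv (sr i)) = c * BB hp (cv (sr i)) (cv (sr i))}
  have h0 : i₀ ∈ S := (div_mul_cancel₀ _ (B_sr_pos hp i₀).ne').symm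
  have h1 : ∀ i, i ∈ S := by
    by_contra hn
    push Not at hn
    obtain ⟨i, hi, j, hj, hij⟩ := hc S ⟨i₀, h0⟩ hn
    have a1 := two_B hp h i (cv (sr j))
    have a2 := two_B hp h j (cv (sr i))
    have a3 := two_B hp (BB_rA hp) i (cv (sr j))
    have a4 := two_B hp (BB_rA hp) j (cv (sr i))
    rw [pr_sr] at a1 a2 a3 a4
    rw [hs, a2] at a1
    rw [(pd hp).symm, a4] at a3
    have a5 : (cartanOf D l j i : ℝ) ≠ 0 := by
      intro e
      rw [e, zero_mul] at a3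
      exact mul_ne_zero (Int.cast_ne_zero.2 hij) (B_sr_pos hp i).ne' a3.symm
    refine hj (mul_left_cancel₀ a5 ?_)
    rw [a1, show B (cv (sr i)) (cv (sr i)) = _ from hi, mul_left_comm, ← a3, mul_left_comm]
  refine ⟨c, fun x y => ?_⟩
  have h2 : B x = c • BB hp x := lin_ext fun i => by
    have a1 := two_B hp h i x
    have a2 := two_B hp (BB_rA hp) i x
    rw [show B (cv (sr i)) (cv (sr i)) = _ from h1 i] at a1
    rw [LinearMap.smul_apply, smul_eq_mul]
    linear_combination (1 / 2 : ℝ) * a1 - (c / 2) * a2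
  rw [h2]
  rfl

theorem exists_dom (β : Fin l → ℝ) : ∃ w, ∀ i, 0 ≤ BB hp (ex (rA hp w) β) (cv (sr i)) := by
  have := finW hp
  obtain ⟨ρ, hρ⟩ := exists_pt hp fun _ => 1
  obtain ⟨w, hw⟩ := Finite.exists_max fun w : M.Group => BB hp ρ (ex (rA hp w) β)
  refine ⟨w, fun i => ?_⟩
  have h1 := hw (M.toCoxeterSystem.simple i * w)
  rw [← ex_eq fun a => (rA_mul hp (M.toCoxeterSystem.simple i) w a).symm, ex_simple, map_sub, map_smul, hρ, smul_eq_mul,
    mul_one] at h1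
  have h2 := two_B hp (BB_rA hp) i (ex (rA hp w) β)
  have h3 := mul_nonneg (show 0 ≤ pr D i (ex (rA hp w) β) by linarith) (B_sr_pos hp i).le
  linarith

/-- `ψ` is conformal with the factor `s` -/
structure Cf (ψ : (Fin l → ℤ) →+ (Fin l → ℤ)) (s : ℝ) : Prop where
  pos : 0 < s
  eq : ∀ x y, BB hp (ex ψ x) (ex ψ y) = s ^ 2 * BB hp x y

variable {hp}

theorem Cf.mul {ψ ψ' : (Fin l → ℤ) →+ (Fin l → ℤ)} {s s' : ℝ} (h : Cf hp ψ s) (h' : Cf hp ψ' s') :
    Cf hp (ψ'.comp ψ) (s' * s) :=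
  ⟨mul_pos h'.pos h.pos, fun x y => by
    rw [← ex_eq (ψ₁ := ψ') (ψ₂ := ψ) (ψ₃ := ψ'.comp ψ) fun _ => rfl,
      ← ex_eq (ψ₁ := ψ') (ψ₂ := ψ) (ψ₃ := ψ'.comp ψ) fun _ => rfl, h'.eq, h.eq]
    ring⟩

theorem Cf.rp (w : M.Group) : Cf hp (rA hp w) 1 := ⟨one_pos, fun x y => by rw [BB_rA, one_pow, one_mul]⟩

theorem Cf.iso {ψ : (Fin l → ℤ) →+ (Fin l → ℤ)} {s : ℝ} (h : Cf hp ψ s) (x y : Fin l → ℝ) :
    BB hp (s⁻¹ • ex ψ x) (s⁻¹ • ex ψ y) = BB hp x y := by
  have := h.pos.ne'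
  simp only [map_smul, LinearMap.smul_apply, smul_eq_mul, h.eq]
  field_simp

theorem Cf.surj {ψ : (Fin l → ℤ) →+ (Fin l → ℤ)} {s : ℝ} (h : Cf hp ψ s) (β : Fin l → ℝ) : ∃ β', s⁻¹ • ex ψ β' = β := by
  have h1 : Function.Injective (s⁻¹ • ex ψ : (Fin l → ℝ) →ₗ[ℝ] (Fin l → ℝ)) := (injective_iff_map_eq_zero _).2 fun x hx => by
    by_contra hc
    have h2 := (pd hp).pos x hc
    rw [← h.iso, show s⁻¹ • ex ψ x = 0 from hx, map_zero] at h2
    exact lt_irrefl _ h2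
  exact LinearMap.injective_iff_surjective.1 h1 β

variable {p : ℕ} [Fact p.Prime]

theorem Frm.norm {φ : MulAut (YY D p)} {y : YY D p} {ψ : (Fin l → ℤ) →+ (Fin l → ℤ)} (h : Frm hp p φ y ψ) (w : M.Group) :
    ∃ v, ∀ a, ψ (rA hp w a) = rA hp v (ψ a) := by
  obtain ⟨n, hn⟩ := exists_RP hp p w
  have e : ∀ t, y * φ (φ⁻¹ (y⁻¹ * n * y) * t * (φ⁻¹ (y⁻¹ * n * y))⁻¹) * y⁻¹ = n * (y * φ t * y⁻¹) * n⁻¹ := fun t => by
    rw [map_mul, map_mul, map_inv, MulAut.apply_inv_self]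
    group
  obtain ⟨v, hv⟩ := rp_of_norm (hp := hp) (d := φ⁻¹ (y⁻¹ * n * y)) fun t => by rw [← h.tor, e, hn.conj_iff, h.tor]
  refine ⟨v, fun a => ?_⟩
  rw [← rA_inv' hp v (ψ (rA hp w a))]
  congr 1
  refine sep hp p fun t ht => ?_
  rw [← h.chr t ht, ← hn.cX ((h.tor t).2 ht) a, ← e, h.chr _ (hv.conj_mem ht)]
  exact ((Frm.rp hv).chr t ht _).symm

theorem Frm.cf {φ : MulAut (YY D p)} {y : YY D p} {ψ : (Fin l → ℤ) →+ (Fin l → ℤ)} (h : Frm hp p φ y ψ) :
    ∃ s, Cf hp ψ s := by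
  obtain ⟨c, hc⟩ := exists_prop hp (B := (BB hp).compl₁₂ (ex ψ) (ex ψ)) (fun x y => (pd hp).symm (ex ψ x) (ex ψ y)) fun w x y => by
    obtain ⟨v, hv⟩ := h.norm w
    rw [LinearMap.compl₁₂_apply, LinearMap.compl₁₂_apply, ex_ex hv, ex_ex hv, BB_rA]
  obtain ⟨g, hg, h1⟩ := h.root
  have ha : RT hp (sr ⟨0, (conn hp).1⟩) := isRoot_sr _ _ _
  obtain ⟨k, hk, e⟩ := (h1 _ ha).1
  have h2 := hc (cv (g (sr ⟨0, (conn hp).1⟩))) (cv (g (sr ⟨0, (conn hp).1⟩)))
  rw [LinearMap.compl₁₂_apply, ex_cv, e] at h2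
  have h3 : 0 < c := by
    have h4 := (pd hp).pos _ (cv_ne (smul_ne_zero hk.ne' ha.ne_zero))
    rw [h2] at h4
    exact (pos_iff_pos_of_mul_pos h4).2 ((pd hp).pos _ (cv_ne (IsRoot.ne_zero (hg.mapsTo ha))))
  exact ⟨√c, Real.sqrt_pos.2 h3, fun x y => by rw [Real.sq_sqrt h3.le]; exact hc x y⟩

variable (hp p) in
/-- state functions -/
structure Sta (S₀ : YY D p → Set (Fin l → ℤ)) : Prop where
  fin : ∃ Ω : Set (Fin l → ℤ), Ω.Finite ∧ ∀ g, S₀ g ⊆ Ω
  ne : ∀ g, (S₀ g).Nonempty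
  tri : ∀ μ : (Fin l → ℤ) →+ ℝ, ∀ m ∈ PL hp p μ, ∀ g, ∀ χ ∈ S₀ (g * m), ∃ χ' ∈ S₀ g, μ χ' ≤ μ χ

variable (hp) in
/-- the invariant state function -/
def St (Γ : Subgroup (MulAut (YY D p))) (S₀ : YY D p → Set (Fin l → ℤ)) (g : YY D p) : Set (Fin l → ℝ) :=
  {x | ∃ φ ∈ Γ, ∃ y ψ s, Frm hp p φ y ψ ∧ Cf hp ψ s ∧ ∃ χ ∈ S₀ (φ g * y⁻¹), x = s⁻¹ • cv (ψ χ)}

variable {Γ : Subgroup (MulAut (YY D p))} {S₀ : YY D p → Set (Fin l → ℤ)}

theorem Sta.exists_fin (h : Sta hp p S₀) : ∃ Ω : Set (Fin l → ℝ), Ω.Finite ∧ ∀ g, St hp Γ S₀ g ⊆ Ω := by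
  obtain ⟨Ω, h1, h2⟩ := h.fin
  let F : Fin l → Set (Fin l → ℝ) := fun i =>
    (fun a => √(BB hp (cv (sr i)) (cv (sr i)) / BB hp (cv a) (cv a)) • cv a) '' {a | RT hp a}
  have hF : (Set.univ.pi F).Finite := Set.Finite.pi fun i => (finite_RT hp).image _
  refine ⟨(fun z : (Fin l → ℤ) × (Fin l → Fin l → ℝ) => ∑ i, (z.1 i : ℝ) • z.2 i) '' Ω ×ˢ Set.univ.pi F,
    (h1.prod hF).image _, ?_⟩
  rintro g _ ⟨φ, -, y, ψ, s, a1, a2, χ, a3, rfl⟩
  refine ⟨(χ, fun i => s⁻¹ • cv (ψ (sr i))), ⟨h2 _ a3, fun i _ => ?_⟩, ?_⟩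
  · obtain ⟨g, hg, a4⟩ := a1.root
    obtain ⟨a, ha, e⟩ := hg.surjOn (show sr i ∈ {a | RT hp a} from isRoot_sr _ _ i)
    obtain ⟨c, hc, e'⟩ := (a4 a ha).1
    rw [e] at e'
    refine ⟨a, ha, ?_⟩
    have a5 := a2.iso (cv (sr i)) (cv (sr i))
    have a6 := (pd hp).pos _ (cv_ne (IsRoot.ne_zero ha))
    have a7 : (0 : ℝ) < s⁻¹ * c := mul_pos (inv_pos.2 a2.pos) (Int.cast_pos.2 hc)
    show √(BB hp (cv (sr i)) (cv (sr i)) / BB hp (cv a) (cv a)) • cv a = s⁻¹ • cv (ψ (sr i))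
    rw [ex_cv] at a5
    rw [e', cv_zsmul, smul_smul] at a5 ⊢
    simp only [map_smul, LinearMap.smul_apply, smul_eq_mul] at a5
    rw [← a5, ← mul_assoc, mul_div_cancel_right₀ _ a6.ne', Real.sqrt_mul_self a7.le]
  · have a4 : cv (ψ χ) = _ := map_sum_sr (cvH.comp ψ) χ
    rw [a4, Finset.smul_sum]
    exact Finset.sum_congr rfl fun i _ => smul_comm _ _ _

theorem Sta.finite (h : Sta hp p S₀) (g : YY D p) : (St hp Γ S₀ g).Finite := by
  obtain ⟨Ω, h1, h2⟩ := h.exists_fin (Γ := Γ)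
  exact h1.subset (h2 g)

theorem Sta.nonempty (h : Sta hp p S₀) (g : YY D p) : (St hp Γ S₀ g).Nonempty := by
  obtain ⟨χ, hχ⟩ := h.ne ((1 : MulAut (YY D p)) g * (1 : YY D p)⁻¹)
  exact ⟨_, 1, one_mem _, 1, _, 1, Frm.rp (RP.of_mem (one_mem _)), Cf.rp _, χ, hχ, rfl⟩

theorem Sta.move (h : Sta hp p S₀) {g : YY D p} {β β' : Fin l → ℝ} (ho : Opt (BB hp) (St hp Γ S₀) g β)
    {φ : MulAut (YY D p)} (hφ : φ ∈ Γ) {y : YY D p} {ψ : (Fin l → ℤ) →+ (Fin l → ℤ)} {s : ℝ} (hf : Frm hp p φ y ψ)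
    (hs : Cf hp ψ s) (e : s⁻¹ • ex ψ β' = β) : Opt (BB hp) (St hp Γ S₀) (φ g * y⁻¹) β' := by
  have he : BB hp β' β' = BB hp β β := by rw [← e, hs.iso]
  refine ho.move' (pd hp) (h.finite _) (h.nonempty _) he ?_
  rintro _ ⟨φ', hφ', y', ψ', s', a1, a2, χ, a3, rfl⟩
  rw [he, ← hs.iso β', e]
  refine ho.1.2 _ ⟨φ' * φ, mul_mem hφ' hφ, _, _, _, a1.mul hf, a2.mul hs, χ, ?_, ?_⟩
  · rw [map_mul, map_inv, mul_assoc, ← _root_.mul_inv_rev] at a3
    exact a3
  · rw [map_smul, ex_cv, smul_smul, mul_inv]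
    rfl

theorem Sta.move_rp (h : Sta hp p S₀) {g : YY D p} {β : Fin l → ℝ} (ho : Opt (BB hp) (St hp Γ S₀) g β)
    {w : M.Group} {n : YY D p} (hn : RP hp p w n) : Opt (BB hp) (St hp Γ S₀) (g * n⁻¹) (ex (rA hp w) β) :=
  h.move ho (one_mem _) (Frm.rp hn) (Cf.rp _) (by rw [inv_one, one_smul, ex_inv])

theorem Sta.move_PL (h : Sta hp p S₀) {g : YY D p} {β : Fin l → ℝ} (ho : Opt (BB hp) (St hp Γ S₀) g β)
    {m : YY D p} (hm : m ∈ PL hp p (mu hp β)) : Opt (BB hp) (St hp Γ S₀) (g * m) β := by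
  refine ho.move (pd hp) (h.finite _) (h.nonempty _) ?_
  rintro _ ⟨φ, hφ, y, ψ, s, a1, a2, χ, a3, rfl⟩
  have e : φ (g * m) * y⁻¹ = φ g * y⁻¹ * (y * φ m * y⁻¹) := by
    rw [map_mul]
    group
  rw [e] at a3
  obtain ⟨χ', a4, a5⟩ := h.tri _ _ (a1.map_PL hm) _ χ a3
  refine (ho.1.2 _ ⟨φ, hφ, y, ψ, s, a1, a2, χ', a4, rfl⟩).trans ?_
  rw [map_smul, map_smul, smul_eq_mul, smul_eq_mul]
  exact mul_le_mul_of_nonneg_left a5 (inv_pos.2 a2.pos).le

/-- **Kempf's canonical parabolic subgroup** -/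
theorem kempf (h : Sta hp p S₀) (Γ : Subgroup (MulAut (YY D p))) {g₀ : YY D p} {μ₀ : (Fin l → ℤ) →+ ℝ}
    (H : ∀ φ ∈ Γ, ∀ y ψ, Frm hp p φ y ψ → ∀ χ ∈ S₀ (φ g₀ * y⁻¹), 0 < μ₀ (ψ χ)) :
    ∃ (g : YY D p) (μ : (Fin l → ℤ) →+ ℝ), μ ≠ 0 ∧ (∀ i, 0 ≤ μ (sr i)) ∧ ∀ φ ∈ Γ, (∃ y ψ, Frm hp p φ y ψ) →
      ∃ (y : YY D p) (ψ : (Fin l → ℤ) →+ (Fin l → ℤ)) (s : ℝ), Frm hp p φ y ψ ∧ 0 < s ∧ (∀ a, μ (ψ a) = s * μ a) ∧
        g⁻¹ * φ g * y⁻¹ ∈ PL hp p μ := by
  obtain ⟨Ω, hΩ, hsub⟩ := h.exists_fin (Γ := Γ)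
  obtain ⟨g', β', ho', -⟩ := E7P.Kf.exists_opt (pd hp) hΩ hsub h.nonempty (ι := Empty) Empty.elim 0 (fun i => i.elim)
    Empty.elim Empty.elim (fun i => i.elim) (fun i => i.elim) (fun i => i.elim)
  obtain ⟨w', hd⟩ := exists_dom hp β'
  obtain ⟨n', hn'⟩ := exists_RP hp p w'
  have ho := h.move_rp ho' hn'
  generalize g' * n'⁻¹ = g at ho
  generalize ex (rA hp w') β' = β at ho hd
  obtain ⟨β₀, rfl⟩ := exists_mu hp μ₀
  have h0 : β ≠ 0 := ho.pos (pd hp) (g0 := g₀) (l := β₀) (h.finite _) (h.nonempty _) (by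
    rintro _ ⟨φ, hφ, y, ψ, s, a1, a2, χ, a3, rfl⟩
    rw [map_smul, smul_eq_mul]
    exact mul_pos (inv_pos.2 a2.pos) (H φ hφ y ψ a1 χ a3))
  refine ⟨g, mu hp β, fun e => h0 (eq_zero_of_sr hp fun i => DFunLike.congr_fun e (sr i)), hd, ?_⟩
  rintro φ hφ ⟨y₁, ψ₁, f₁⟩
  obtain ⟨s, hs⟩ := f₁.cf
  obtain ⟨β₁, e₁⟩ := hs.surj β
  obtain ⟨w₁, hd₁⟩ := exists_dom hp β₁
  obtain ⟨n₁, hn₁⟩ := exists_RP hp p w₁
  have o₂ := h.move_rp (h.move ho hφ f₁ hs e₁) hn₁
  obtain ⟨u, hu, w, n, hn, v, hv, e⟩ := bruhat hp (g⁻¹ * (φ g * y₁⁻¹ * n₁⁻¹))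
  have hu' : u ∈ PL hp p (mu hp β) := U_le_PL hd hu
  have hv' : v ∈ PL hp p (mu hp (ex (rA hp w₁) β₁)) := U_le_PL hd₁ (NW_le_U (hp := hp) w hv)
  have o₃ := h.move_rp (h.move_PL o₂ (inv_mem hv')) hn
  have e₂ : φ g * y₁⁻¹ * n₁⁻¹ * v⁻¹ * n⁻¹ = g * u := by
    rw [show φ g * y₁⁻¹ * n₁⁻¹ = g * (u * n * v) by rw [← e]; group]
    group
  rw [e₂] at o₃
  have e₃ : ex (rA hp w) (ex (rA hp w₁) β₁) = β := (pd hp).cl_unique o₃.1 (h.move_PL ho hu').1
  have e₄ : (mu hp (ex (rA hp w₁) β₁)).comp (rA hp w⁻¹) = mu hp β := AddMonoidHom.ext fun a => by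
    rw [AddMonoidHom.comp_apply, mu_apply, ← ex_cv, BB_inv, e₃, mu_apply]
  refine ⟨_, _, s, (f₁.left hn₁).left hn, hs.pos, fun a => ?_, ?_⟩
  · have := hs.pos.ne'
    rw [AddMonoidHom.comp_apply, AddMonoidHom.comp_apply, mu_apply, ← ex_cv, ← ex_cv, ← ex_cv, mu_apply]
    conv_lhs => rw [← e₁]
    rw [map_smul, LinearMap.smul_apply, hs.eq, BB_inv, BB_inv, e₃, smul_eq_mul]
    field_simp
  · have h1 := (Frm.rp hn).map_PL hv'
    rw [e₄] at h1
    have e₅ : g⁻¹ * φ g * (n * (n₁ * y₁))⁻¹ = u * (n * v * n⁻¹) := by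
      rw [show u * (n * v * n⁻¹) = u * n * v * n⁻¹ by group, ← e]
      group
    rw [e₅]
    exact mul_mem hu' h1

end Cfsg.Agent.N2.Ex.K
end

-- part: N2/Ex/K/Poly
section
/-!
# S3519, exceptional groups, box (K): the state function of an orbit (helper70)

* `Le ν c f` : the monomials of `f` have `ν`-weight at most `c`; `sb A` : linear substitution; `cp` : weight components;
* `exists_open` : orbits are open in their closure;
* `exists_sta` : the state function of the ideal of the boundary of an orbit.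
-/

set_option autoImplicit false
set_option linter.unusedSectionVars false

namespace Cfsg.Agent.N2.Ex.K

open CoxeterSystem Cfsg Cfsg.Lie Cfsg.Lie.ChevalleyDatum Matrix
open Cfsg.Agent.ChevalleyStructure Cfsg.Agent.ChevalleyStructure.Elts Cfsg.Agent.ChevalleyStructure.CoxeterGeom
  Cfsg.Agent.ChevalleyStructure.CoxeterGeomTypes
open Cfsg.Agent.Tits.Roots Cfsg.Agent.Tits.Core Cfsg.Agent.Nodes Cfsg.Agent.Nodes.Reps Cfsg.Agent.Nodes.BNOf
  Cfsg.Agent.Nodes.RGDChev Cfsg.Agent.Nodes.Bruhat Cfsg.Agent.Nodes.NormalForm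
open Cfsg.Agent.KFacts.RgdField Cfsg.Agent.KFacts.RgdChevCoord
open Cfsg.Agent.BpExc Cfsg.Agent.BpExc.TorCent Cfsg.Agent.BpExc.TorChev Cfsg.Agent.BpExc.Tow
  Cfsg.Agent.BpExc.TowChev Cfsg.Agent.BpExc.Fr Cfsg.Agent.BpExc.LangFr
open Cfsg.Agent.H469.Exc Cfsg.Agent.H129.TorusChar Cfsg.Agent.DS.Ex Cfsg.Agent.DS.Nt Cfsg.Agent.DS.Ex.Tor
  Cfsg.Agent.SB.Exc
open MvPolynomial (aeval coeff monomial weightedHomogeneousComponent)
open Finsupp (weight)

section Pol

variable {K : Type} [Field K] {S : Type} [Fintype S] [DecidableEq S]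

/-- all monomials of `f` have weight at most `c` -/
def Le (ν : S → ℝ) (c : ℝ) (f : MvPolynomial S K) : Prop := ∀ α, coeff α f ≠ 0 → weight ν α ≤ c

variable {ν : S → ℝ}

theorem Le.mono {c c' : ℝ} {f : MvPolynomial S K} (h : Le ν c f) (hc : c ≤ c') : Le ν c' f :=
  fun α hα => (h α hα).trans hc

theorem Le.sum {ι : Type*} {c : ℝ} (T : Finset ι) {f : ι → MvPolynomial S K} (h : ∀ i ∈ T, Le ν c (f i)) :
    Le ν c (∑ i ∈ T, f i) := fun α hα => by
  rw [MvPolynomial.coeff_sum] at hα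
  obtain ⟨i, hi, h1⟩ := Finset.exists_ne_zero_of_sum_ne_zero hα
  exact h i hi α h1

theorem Le.mul {c c' : ℝ} {f g : MvPolynomial S K} (h : Le ν c f) (h' : Le ν c' g) : Le ν (c + c') (f * g) := fun α hα => by
  rw [MvPolynomial.coeff_mul] at hα
  obtain ⟨x, hx, h1⟩ := Finset.exists_ne_zero_of_sum_ne_zero hα
  rw [← Finset.HasAntidiagonal.mem_antidiagonal.1 hx, map_add]
  exact add_le_add (h _ (left_ne_zero_of_mul h1)) (h' _ (right_ne_zero_of_mul h1))

theorem Le.mon (α : S →₀ ℕ) (a : K) : Le ν (weight ν α) (monomial α a) := fun β hβ => by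
  rw [MvPolynomial.coeff_monomial] at hβ
  rw [of_not_not fun e => hβ (if_neg e)]

theorem Le.C (a : K) : Le ν 0 (MvPolynomial.C a : MvPolynomial S K) := by
  have h := Le.mon (ν := ν) 0 a
  rwa [map_zero] at h

theorem Le.pow {c : ℝ} {f : MvPolynomial S K} (h : Le ν c f) (n : ℕ) : Le ν (n • c) (f ^ n) := by
  induction n with
  | zero => rw [zero_smul, pow_zero]; exact Le.C 1
  | succ n ih => rw [succ_nsmul, pow_succ]; exact ih.mul h

theorem Le.prod {ι : Type*} (T : Finset ι) {c : ι → ℝ} {f : ι → MvPolynomial S K} (h : ∀ i, Le ν (c i) (f i)) :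
    Le ν (∑ i ∈ T, c i) (∏ i ∈ T, f i) := by
  classical
  induction T using Finset.induction_on with
  | empty => rw [Finset.sum_empty, Finset.prod_empty]; exact Le.C 1
  | insert a T ha ih => rw [Finset.sum_insert ha, Finset.prod_insert ha]; exact (h a).mul ih

/-- linear substitution -/
noncomputable def sb (A : Matrix S S K) : MvPolynomial S K →ₐ[K] MvPolynomial S K :=
  aeval fun s => ∑ s', monomial (Finsupp.single s' 1) (A s s')

theorem aeval_sb (A : Matrix S S K) (z : S → K) (f : MvPolynomial S K) : aeval z (sb A f) = aeval (A *ᵥ z) f := by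
  rw [← AlgHom.comp_apply]
  congr 1
  refine MvPolynomial.algHom_ext fun s => ?_
  rw [AlgHom.comp_apply, sb, MvPolynomial.aeval_X, MvPolynomial.aeval_X, map_sum]
  refine Finset.sum_congr rfl fun s' _ => ?_
  rw [MvPolynomial.aeval_monomial, Finsupp.prod_single_index (h := fun i k => z i ^ k) (pow_zero _), pow_one]
  rfl

theorem Le.sb {c : ℝ} {f : MvPolynomial S K} (h : Le ν c f) {A : Matrix S S K} (hA : ∀ s s', A s s' ≠ 0 → ν s' ≤ ν s) :
    Le ν c (sb A f) := by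
  rw [f.as_sum, map_sum]
  refine Le.sum _ fun α hα => ?_
  rw [K.sb, MvPolynomial.aeval_monomial, Finsupp.prod_fintype _ _ fun _ => pow_zero _]
  refine ((Le.C _).mul (Le.prod (c := fun s => α s • ν s) _ fun s => Le.pow (Le.sum _ fun s' _ => ?_) _)).mono ?_
  · by_cases e : A s s' = 0
    · rw [e, map_zero]
      exact fun β hβ => (hβ rfl).elim
    · refine (Le.mon _ _).mono ?_
      rw [Finsupp.weight_single, one_smul]
      exact hA s s' e
  · rw [zero_add, ← Finsupp.weight_eq_sum]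
    exact h α (MvPolynomial.mem_support_iff.1 hα)

theorem finite_le (d : ℝ) : {α : S →₀ ℕ | weight (fun _ => (1 : ℝ)) α ≤ d}.Finite := by
  refine (Set.finite_Iic (Finsupp.equivFunOnFinite.symm fun _ : S => ⌈d⌉₊)).subset fun α hα s => ?_
  have h1 : weight (fun _ => (1 : ℝ)) α ≤ d := hα
  rw [Finsupp.weight_eq_sum] at h1
  have h2 := (Finset.single_le_sum (f := fun s => α s • (1 : ℝ)) (fun _ _ => nsmul_nonneg zero_le_one _)
    (Finset.mem_univ s)).trans (h1.trans (Nat.le_ceil d))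
  rw [nsmul_one] at h2
  exact_mod_cast h2

theorem exists_le (f : MvPolynomial S K) : ∃ d, Le (fun _ => (1 : ℝ)) d f := by
  obtain ⟨d, hd⟩ := (f.support.image (weight fun _ => (1 : ℝ))).bddAbove
  exact ⟨d, fun α hα => hd (Finset.mem_coe.2 (Finset.mem_image_of_mem _ (MvPolynomial.mem_support_iff.2 hα)))⟩

theorem aev (z : S → K) {f : MvPolynomial S K} {T : Finset (S →₀ ℕ)} (h : f.support ⊆ T) :
    aeval z f = ∑ α ∈ T, coeff α f * ∏ s, z s ^ α s := by
  rw [MvPolynomial.aeval_eq_eval, MvPolynomial.eval_eq']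
  exact Finset.sum_subset h fun α _ hα => by rw [MvPolynomial.notMem_support_iff.1 hα, zero_mul]

variable {l : ℕ} (w : S → Fin l → ℤ)

/-- the component of weight `χ` -/
noncomputable def cp (χ : Fin l → ℤ) (f : MvPolynomial S K) : MvPolynomial S K := weightedHomogeneousComponent w χ f

theorem coeff_cp (χ : Fin l → ℤ) (f : MvPolynomial S K) (α : S →₀ ℕ) :
    coeff α (cp w χ f) = if weight w α = χ then coeff α f else 0 :=
  MvPolynomial.coeff_weightedHomogeneousComponent _ _ _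

variable {w}

theorem cp_ne {χ : Fin l → ℤ} {f : MvPolynomial S K} {α : S →₀ ℕ} (h : coeff α (cp w χ f) ≠ 0) :
    weight w α = χ ∧ coeff α f ≠ 0 := by
  rw [coeff_cp] at h
  have h1 : weight w α = χ := of_not_not fun e => h (if_neg e)
  exact ⟨h1, by rwa [if_pos h1] at h⟩

theorem exists_coeff {z : S → K} {f : MvPolynomial S K} (h : aeval z f ≠ 0) :
    ∃ α, coeff α f ≠ 0 ∧ ∀ s, α s ≠ 0 → z s ≠ 0 := by
  rw [aev z subset_rfl] at h
  obtain ⟨α, -, h1⟩ := Finset.exists_ne_zero_of_sum_ne_zero h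
  exact ⟨α, left_ne_zero_of_mul h1, fun s hs e =>
    Finset.prod_ne_zero_iff.1 (right_ne_zero_of_mul h1) s (Finset.mem_univ s) (by rw [e, zero_pow hs])⟩

variable (w) in
theorem aev_cp (z : S → K) (f : MvPolynomial S K) {c : (Fin l → ℤ) → K} (hc : IsMC c) :
    aeval (fun s => c (w s) * z s) f = ∑ χ ∈ f.support.image (weight w), c χ * aeval z (cp w χ f) := by
  have h1 : ∀ χ, c χ * aeval z (cp w χ f) = ∑ α ∈ f.support, c χ * (coeff α (cp w χ f) * ∏ s, z s ^ α s) := fun χ => by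
    rw [aev z (T := f.support) fun α hα => MvPolynomial.mem_support_iff.2 (cp_ne (MvPolynomial.mem_support_iff.1 hα)).2,
      Finset.mul_sum]
  rw [aev _ subset_rfl, Finset.sum_congr rfl fun χ _ => h1 χ, Finset.sum_comm]
  refine Finset.sum_congr rfl fun α hα => ?_
  rw [Finset.sum_eq_single (weight w α) (fun χ _ e => by rw [coeff_cp, if_neg e.symm, zero_mul, mul_zero])
    (fun e => (e (Finset.mem_image_of_mem _ hα)).elim), coeff_cp, if_pos rfl, Finsupp.weight_eq_sum, hc.sum,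
    mul_left_comm, ← Finset.prod_mul_distrib]
  congr 1
  exact Finset.prod_congr rfl fun s _ => by rw [mul_pow, hc.nsmul]

variable (w) in
theorem exists_cp {z : S → K} {f : MvPolynomial S K} (h : aeval z f ≠ 0) : ∃ χ, aeval z (cp w χ f) ≠ 0 := by
  have h1 := aev_cp w z f (c := fun _ => 1) ⟨rfl, fun _ _ => (mul_one _).symm⟩
  simp only [one_mul] at h1
  rw [h1] at h
  obtain ⟨χ, -, h2⟩ := Finset.exists_ne_zero_of_sum_ne_zero h
  exact ⟨χ, h2⟩

theorem map_weight (μ : (Fin l → ℤ) →+ ℝ) (α : S →₀ ℕ) : μ (weight w α) = weight (fun s => μ (w s)) α := by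
  rw [Finsupp.weight_eq_sum, Finsupp.weight_eq_sum, map_sum]
  exact Finset.sum_congr rfl fun s _ => map_nsmul _ _ _

open Classical in
variable (w) in
/-- the limit along `μ` -/
noncomputable def lim (μ : (Fin l → ℤ) →+ ℝ) (v : S → K) : S → K := fun s => if μ (w s) = 0 then v s else 0

theorem aev_lim {μ : (Fin l → ℤ) →+ ℝ} {v : S → K} (hv : ∀ s, v s ≠ 0 → 0 ≤ μ (w s)) {χ : Fin l → ℤ} (h0 : μ χ = 0)
    (f : MvPolynomial S K) : aeval (lim w μ v) (cp w χ f) = aeval v (cp w χ f) := by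
  rw [aev _ subset_rfl, aev _ subset_rfl]
  refine Finset.sum_congr rfl fun α hα => ?_
  congr 1
  by_cases h1 : ∀ s, α s ≠ 0 → v s ≠ 0
  · have h2 := (cp_ne (MvPolynomial.mem_support_iff.1 hα)).1
    rw [← h2, map_weight, Finsupp.weight_eq_sum, Finset.sum_eq_zero_iff_of_nonneg fun s _ => by
      by_cases e : α s = 0
      · rw [e, zero_smul]
      · exact nsmul_nonneg (hv s (h1 s e)) _] at h0
    refine Finset.prod_congr rfl fun s _ => ?_
    by_cases e : α s = 0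
    · rw [e, pow_zero, pow_zero]
    · rw [lim, if_pos ((smul_eq_zero.1 (h0 s (Finset.mem_univ s))).resolve_left e)]
  · push Not at h1
    obtain ⟨s, e, e'⟩ := h1
    rw [Finset.prod_eq_zero (Finset.mem_univ s) (by rw [lim, e', ite_self, zero_pow e]),
      Finset.prod_eq_zero (Finset.mem_univ s) (by rw [e', zero_pow e])]

theorem indep {G ι : Type} [Group G] {c : ι → G →* K} (hc : Function.Injective c) (T : Finset ι) (a : ι → K)
    (h : ∀ g, ∑ i ∈ T, c i g * a i = 0) : ∀ i ∈ T, a i = 0 := by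
  refine linearIndependent_iff'.1 ((linearIndependent_monoidHom G K).comp c hc) T a (funext fun g => ?_)
  rw [Finset.sum_apply]
  exact (Finset.sum_congr rfl fun i _ => mul_comm _ _).trans (h g)

/-- polynomials vanishing on `Z` -/
def Vn (Z : Set (S → K)) (f : MvPolynomial S K) : Prop := ∀ z ∈ Z, aeval z f = 0

/-- the closure -/
def Cls (Z : Set (S → K)) : Set (S → K) := {z | ∀ f, Vn Z f → aeval z f = 0}

end Pol

variable {D : ChevalleyDatum} {l : ℕ} {M : CoxeterMatrix (Fin l)} {hp : IsType D l M} {p : ℕ} [Fact p.Prime]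
  {S : Type} [Fintype S] [DecidableEq S] (P : PRep hp p S)

/-- stable sets -/
def PRep.Stb (Z : Set (S → KK p)) : Prop := ∀ g, ∀ z ∈ Z, P.ρ g *ᵥ z ∈ Z

/-- orbits -/
def PRep.Ob (x : S → KK p) : Set (S → KK p) := {z | ∃ h, P.ρ h *ᵥ x = z}

theorem PRep.mul_vec (g h : YY D p) (z : S → KK p) : P.ρ (g * h) *ᵥ z = P.ρ g *ᵥ P.ρ h *ᵥ z := by
  rw [map_mul, mulVec_mulVec]

theorem PRep.inv_vec (g : YY D p) (z : S → KK p) : P.ρ g⁻¹ *ᵥ P.ρ g *ᵥ z = z := by
  rw [← P.mul_vec, inv_mul_cancel, map_one, one_mulVec]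

theorem PRep.stb_ob (x : S → KK p) : P.Stb (P.Ob x) := by
  rintro g _ ⟨h, rfl⟩
  exact ⟨g * h, P.mul_vec g h x⟩

variable {P}

theorem PRep.Stb.vn {Z : Set (S → KK p)} (h : P.Stb Z) {f : MvPolynomial S (KK p)} (hf : Vn Z f) (g : YY D p) :
    Vn Z (sb (P.ρ g) f) := fun z hz => by
  rw [aeval_sb]
  exact hf _ (h g z hz)

theorem PRep.Stb.cls {Z : Set (S → KK p)} (h : P.Stb Z) : P.Stb (Cls Z) := fun g z hz f hf => by
  rw [← aeval_sb]
  exact hz _ (h.vn hf g)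

theorem PRep.Stb.diff {Z Z' : Set (S → KK p)} (h : P.Stb Z) (h' : P.Stb Z') : P.Stb (Z \ Z') :=
  fun g z hz => ⟨h g z hz.1, fun e => hz.2 (P.inv_vec g z ▸ h' g⁻¹ _ e)⟩

variable (hp p) in
/-- the characters of the torus -/
noncomputable def chT (χ : Fin l → ℤ) : TT D (KK p) →* KK p where
  toFun t := cX hp (t : YY D p) χ
  map_one' := cX_one hp χ
  map_mul' s t := cX_mul hp s.2 t.2 χ

theorem PRep.Stb.cp {Z : Set (S → KK p)} (h : P.Stb Z) {f : MvPolynomial S (KK p)} (hf : Vn Z f) (χ : Fin l → ℤ) :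
    Vn Z (cp P.w χ f) := by
  intro z hz
  by_cases hχ : χ ∈ f.support.image (weight P.w)
  · have h1 : Function.Injective (chT hp p) := fun a b e => sep hp p fun t ht => by
      have h2 : chT hp p a ⟨t, ht⟩ = chT hp p b ⟨t, ht⟩ := by rw [e]
      exact h2
    refine indep h1 _ (fun χ => aeval z (K.cp P.w χ f)) (fun t => ?_) χ hχ
    have h2 := hf _ (h t z hz)
    rw [P.tor t t.2, show diagonal (fun s => cX hp (t : YY D p) (P.w s)) *ᵥ z = fun s => cX hp (t : YY D p) (P.w s) * z s from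
      funext fun s => mulVec_diagonal _ _ s, aev_cp P.w z f (isMC_cX hp t.2)] at h2
    exact h2
  · by_contra hc
    obtain ⟨α, h1, -⟩ := exists_coeff hc
    exact hχ ((cp_ne h1).1 ▸ Finset.mem_image_of_mem _ (MvPolynomial.mem_support_iff.2 (cp_ne h1).2))

theorem PRep.Stb.lim {Z : Set (S → KK p)} (h : P.Stb Z) {μ : (Fin l → ℤ) →+ ℝ} {v : S → KK p} (hZ : v ∈ Z)
    (hv : ∀ s, v s ≠ 0 → 0 ≤ μ (P.w s)) : lim P.w μ v ∈ Cls Z := by
  intro f hf
  by_contra hc
  obtain ⟨χ, h1⟩ := exists_cp P.w hc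
  obtain ⟨α, h2, h3⟩ := exists_coeff h1
  have h4 : μ χ = 0 := by
    rw [← (cp_ne h2).1, map_weight, Finsupp.weight_eq_sum]
    refine Finset.sum_eq_zero fun s _ => ?_
    by_cases e : α s = 0
    · rw [e, zero_smul]
    · rw [of_not_not fun e' => h3 s e (if_neg e'), smul_zero]
  rw [aev_lim hv h4] at h1
  exact h1 (h.cp hf χ v hZ)

variable (P)

/-- **Orbits are open in their closure.** -/
theorem PRep.exists_open (x : S → KK p) : ∃ a : MvPolynomial S (KK p), (∃ h, aeval (P.ρ h *ᵥ x) a ≠ 0) ∧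
    Vn (Cls (P.Ob x) \ P.Ob x) a := by
  obtain ⟨A, hA⟩ := P.poly
  have hG : LangThm.Gam (fun r : (Set.univ : Set ℕ) => LangThm.xP hp.inList (r : ℕ) (Polynomial.X : Polynomial (KK p)))
      (KK p) = D.group (KK p) := by rw [LangThm.gam_eq, ← TorAll.group_eq_MM hp]
  obtain ⟨τ, hτ, γ, hγ, h1⟩ := LangThm.exists_dense
    (X := fun r : (Set.univ : Set ℕ) => LangThm.xP hp.inList (r : ℕ) (Polynomial.X : Polynomial (KK p)))
    fun i => by rw [LangThm.ev_xP, Polynomial.eval_X, xG_zero]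
  let B : S → MvPolynomial (D.Idx × D.Idx) (KK p) := fun s => ∑ s', A s s' * MvPolynomial.C (x s')
  have hB : ∀ y : YY D p, (fun s => aeval (LangThm.co (y : GL D.Idx (KK p))) (B s)) = P.ρ y *ᵥ x := fun y => funext fun s => by
    rw [map_sum]
    exact Finset.sum_congr rfl fun s' _ => by rw [map_mul, ← hA, MvPolynomial.aeval_C]; rfl
  have hs : ∀ s : τ → KK p, ∃ y : YY D p, ∀ i, aeval s (aeval (LangThm.co γ) (B i)) = (P.ρ y *ᵥ x) i := fun s => by
    refine ⟨⟨LangThm.mp (aeval s) γ, hG.le (LangThm.mp_mem _ hγ)⟩, fun i => ?_⟩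
    rw [← hB, MvPolynomial.comp_aeval_apply]
    rfl
  obtain ⟨a, h2, h3⟩ := LangThm.exists_open fun s => aeval (LangThm.co γ) (B s)
  refine ⟨a, ?_, fun z hz => ?_⟩
  · by_contra hc
    push Not at hc
    refine h2 (LangThm.mem_van.2 (MvPolynomial.funext fun s => ?_))
    obtain ⟨y, hy⟩ := hs s
    rw [map_zero, ← MvPolynomial.aeval_eq_eval, MvPolynomial.comp_aeval_apply, funext hy, hc]
  · by_contra hc
    have h7 : LangThm.van (KK p) (fun s => aeval (LangThm.co γ) (B s)) ≤ LangThm.van (KK p) z := by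
      refine fun f hf => LangThm.mem_van.2 (hz.1 f ?_)
      rintro _ ⟨y, rfl⟩
      have h5 : aeval B f ∈ LangThm.van (KK p) (LangThm.co γ) := by
        rw [LangThm.mem_van, MvPolynomial.comp_aeval_apply]
        exact LangThm.mem_van.1 hf
      have h6 := LangThm.mem_van.1 (h1 y (hG.ge y.2) h5)
      rwa [MvPolynomial.comp_aeval_apply, hB] at h6
    obtain ⟨s, h4⟩ := h3 z h7 hc
    obtain ⟨y, hy⟩ := hs s
    exact hz.2 ⟨y, funext fun i => (hy i).symm.trans (h4 i)⟩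

/-- **The state function of an orbit.** -/
theorem PRep.exists_sta (x : S → KK p) : ∃ S₀, Sta hp p S₀ ∧ ∀ (g : YY D p) (μ : (Fin l → ℤ) →+ ℝ),
    (∀ s, (P.ρ g⁻¹ *ᵥ x) s ≠ 0 → 0 ≤ μ (P.w s)) → lim P.w μ (P.ρ g⁻¹ *ᵥ x) ∉ P.Ob x → ∀ χ ∈ S₀ g, 0 < μ χ := by
  obtain ⟨a, ⟨h, h1⟩, h2⟩ := P.exists_open x
  obtain ⟨d, hd⟩ := exists_le a
  have hZ : P.Stb (Cls (P.Ob x) \ P.Ob x) := (P.stb_ob x).cls.diff (P.stb_ob x)
  refine ⟨fun g => {χ | ∃ f, Le (fun _ => (1 : ℝ)) d f ∧ Vn (Cls (P.Ob x) \ P.Ob x) f ∧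
    aeval (P.ρ g⁻¹ *ᵥ x) (cp P.w χ f) ≠ 0}, ⟨⟨_, (finite_le d).image (weight P.w), ?_⟩, fun g => ?_, ?_⟩, ?_⟩
  · rintro g χ ⟨f, a1, -, a3⟩
    obtain ⟨α, a4, -⟩ := exists_coeff a3
    exact ⟨α, a1 α (cp_ne a4).2, (cp_ne a4).1⟩
  · obtain ⟨χ, a1⟩ := exists_cp P.w (z := P.ρ g⁻¹ *ᵥ x) (f := sb (P.ρ (h * g)) a) (by
      rwa [aeval_sb, ← P.mul_vec, mul_inv_cancel_right])
    exact ⟨χ, _, hd.sb fun _ _ _ => le_rfl, hZ.vn h2 _, a1⟩
  · rintro μ m hm g χ ⟨f, a1, a2, a3⟩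
    rw [_root_.mul_inv_rev, P.mul_vec, ← aeval_sb] at a3
    obtain ⟨χ', a4⟩ := exists_cp P.w a3
    refine ⟨χ', ⟨_, Le.sb (fun α hα => a1 α (cp_ne hα).2) fun _ _ _ => le_rfl, hZ.vn (hZ.cp a2 χ) _, a4⟩, ?_⟩
    obtain ⟨α, a5, -⟩ := exists_coeff a4
    rw [← (cp_ne a5).1, map_weight]
    refine Le.sb (f := cp P.w χ f) (fun β hβ => ?_) (fun s s' e => P.tri (inv_mem hm) e) α (cp_ne a5).2
    rw [← map_weight, (cp_ne hβ).1]
  · rintro g μ hv hl χ ⟨f, -, a2, a3⟩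
    obtain ⟨α, a4, a5⟩ := exists_coeff a3
    refine lt_of_le_of_ne ?_ fun e => a3 ?_
    · rw [← (cp_ne a4).1, map_weight, Finsupp.weight_eq_sum]
      refine Finset.sum_nonneg fun s _ => ?_
      by_cases e : α s = 0
      · rw [e, zero_smul]
      · exact nsmul_nonneg (hv s (a5 s e)) _
    · rw [← aev_lim hv e.symm]
      exact hZ.cp a2 χ _ ⟨(P.stb_ob x).lim ⟨_, rfl⟩ hv, hl⟩

end Cfsg.Agent.N2.Ex.K
end

-- part: N2/Ex/K/Lim
section
/-!
# S3519, exceptional groups, box (K): limits and semisimple vectors (helper70)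

* `boxLim : BoxLim`, `boxSS : BoxSS`.
-/

set_option autoImplicit false
set_option linter.unusedSectionVars false

namespace Cfsg.Agent.N2.Ex.K

open CoxeterSystem Cfsg Cfsg.Lie Cfsg.Lie.ChevalleyDatum Matrix
open Cfsg.Agent.ChevalleyStructure Cfsg.Agent.ChevalleyStructure.Elts Cfsg.Agent.ChevalleyStructure.CoxeterGeom
  Cfsg.Agent.ChevalleyStructure.CoxeterGeomTypes
open Cfsg.Agent.Tits.Roots Cfsg.Agent.Tits.Core Cfsg.Agent.Nodes Cfsg.Agent.Nodes.Reps Cfsg.Agent.Nodes.BNOf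
  Cfsg.Agent.Nodes.RGDChev Cfsg.Agent.Nodes.Bruhat Cfsg.Agent.Nodes.NormalForm
open Cfsg.Agent.KFacts.RgdField Cfsg.Agent.KFacts.RgdChevCoord
open Cfsg.Agent.BpExc Cfsg.Agent.BpExc.TorCent Cfsg.Agent.BpExc.TorChev Cfsg.Agent.BpExc.Tow
  Cfsg.Agent.BpExc.TowChev Cfsg.Agent.BpExc.Fr Cfsg.Agent.BpExc.LangFr
open Cfsg.Agent.H469.Exc Cfsg.Agent.H129.TorusChar Cfsg.Agent.DS.Ex Cfsg.Agent.DS.Nt Cfsg.Agent.DS.Ex.Tor
  Cfsg.Agent.SB.Exc

variable {D : ChevalleyDatum} {l : ℕ} {M : CoxeterMatrix (Fin l)} {hp : IsType D l M} {p : ℕ} [Fact p.Prime]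

/-- the frames of an inner automorphism -/
theorem Frm.inner {z y : YY D p} {ψ : (Fin l → ℤ) →+ (Fin l → ℤ)} (h : Frm hp p (MulAut.conj z) y ψ) :
    ∃ w, RP hp p w (y * z) ∧ ∀ a, ψ a = rA hp w⁻¹ a := by
  have e : ∀ t, y * MulAut.conj z t * y⁻¹ = y * z * t * (y * z)⁻¹ := fun t => by
    rw [MulAut.conj_apply]
    group
  obtain ⟨w, hw⟩ := rp_of_norm (hp := hp) (d := y * z) fun t => by rw [← e, h.tor]
  refine ⟨w, hw, fun a => sep hp p fun t ht => ?_⟩
  rw [← h.chr t ht, e]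
  exact (Frm.rp hw).chr t ht a

theorem Frm.conj (z : YY D p) : ∃ y ψ, Frm hp p (MulAut.conj z) y ψ := by
  have e : ∀ t, z⁻¹ * MulAut.conj z t * z⁻¹⁻¹ = t := fun t => by
    rw [MulAut.conj_apply]
    group
  exact ⟨z⁻¹, AddMonoidHom.id _, fun t => by rw [e], fun t _ x => by rw [e]; rfl, id, Set.bijOn_id _,
    fun a _ => ⟨⟨1, one_pos, (one_smul _ _).symm⟩, fun x => by rw [e]; rfl⟩⟩

theorem eq_one_of_rA {μ : (Fin l → ℤ) →+ ℝ} (hμ : μ ≠ 0) {w : M.Group} {s : ℝ} (hs : 0 < s)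
    (h : ∀ a, μ (rA hp w a) = s * μ a) : s = 1 := by
  have := finW hp
  have h1 : ∀ (k : ℕ) (a : Fin l → ℤ), μ (rA hp (w ^ k) a) = s ^ k * μ a := fun k => by
    induction k with
    | zero => exact fun a => by rw [pow_zero, rA_one, pow_zero, one_mul]
    | succ k ih => exact fun a => by rw [pow_succ, rA_mul, ih, h, pow_succ, mul_assoc]
  obtain ⟨i, hi⟩ := exists_sr_ne hμ
  have h2 := h1 (orderOf w) (sr i)
  rw [pow_orderOf_eq_one, rA_one] at h2
  exact (pow_eq_one_iff_of_nonneg hs.le (orderOf_pos w).ne').1 ((mul_eq_right₀ hi).1 h2.symm)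

theorem PRep.lim_rp {S : Type} [Fintype S] [DecidableEq S] (P : PRep hp p S) {w : M.Group} {n : YY D p}
    (hn : RP hp p w n) (μ : (Fin l → ℤ) →+ ℝ) (v : S → KK p) :
    lim P.w (μ.comp (rA hp w⁻¹)) (P.ρ n *ᵥ v) = P.ρ n *ᵥ lim P.w μ v := by
  funext s
  have h1 : ∀ s', P.ρ n s s' ≠ 0 → (μ.comp (rA hp w⁻¹)) (P.w s) = μ (P.w s') := fun s' e => by
    rw [AddMonoidHom.comp_apply, P.mon hn e, rA_inv]
  rw [lim]
  split_ifs with e
  · refine Finset.sum_congr rfl fun s' _ => ?_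
    by_cases e' : P.ρ n s s' = 0
    · show P.ρ n s s' * _ = P.ρ n s s' * _
      rw [e', zero_mul, zero_mul]
    · rw [lim, if_pos (h1 s' e' ▸ e)]
  · refine (Finset.sum_eq_zero fun s' _ => ?_).symm
    show P.ρ n s s' * _ = 0
    by_cases e' : P.ρ n s s' = 0
    · rw [e', zero_mul]
    · rw [lim, if_neg (h1 s' e' ▸ e), mul_zero]

/-- **[LIM]** -/
theorem boxLim : BoxLim := by
  intro D l M hp p _ S _ _ P Z hZ x hx g μ hw
  suffices h : lim P.w μ (P.ρ g *ᵥ x) ∈ P.Ob x by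
    obtain ⟨h, e⟩ := h
    exact ⟨h, fun s => ⟨fun h0 => by rw [e, lim, if_pos h0], fun h0 => by rw [e, lim, if_neg h0]⟩⟩
  by_contra hc
  obtain ⟨S₀, h1, h2⟩ := P.exists_sta x
  obtain ⟨g₁, μ₁, h3, h4, h5⟩ := kempf h1 (Z.map MulAut.conj) (g₀ := g⁻¹) (μ₀ := μ) (by
    rintro _ ⟨z, hz, rfl⟩ y ψ hf χ hχ
    obtain ⟨w, hn, e⟩ := hf.inner
    have e₁ : P.ρ (MulAut.conj z g⁻¹ * y⁻¹)⁻¹ *ᵥ x = P.ρ (y * z) *ᵥ P.ρ g *ᵥ x := by
      rw [show (MulAut.conj z g⁻¹ * y⁻¹)⁻¹ = y * z * (g * z⁻¹) by rw [MulAut.conj_apply]; group, P.mul_vec, P.mul_vec,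
        P.mul_vec, P.mul_vec, hx _ (inv_mem hz)]
    rw [e]
    refine h2 _ (μ.comp (rA hp w⁻¹)) (fun s hs => ?_) (fun ho => hc ?_) χ hχ
    · rw [e₁] at hs
      obtain ⟨s', -, a1⟩ := Finset.exists_ne_zero_of_sum_ne_zero hs
      rw [AddMonoidHom.comp_apply, P.mon hn (left_ne_zero_of_mul a1), rA_inv]
      exact hw s' (right_ne_zero_of_mul a1)
    · rw [e₁, P.lim_rp hn] at ho
      have a1 := P.stb_ob x (y * z)⁻¹ _ ho
      rwa [P.inv_vec] at a1)
  refine h3 (hZ g₁ μ₁ fun z hz => ?_)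
  obtain ⟨y, ψ, s, hf, hs, a1, a2⟩ := h5 _ ⟨z, hz, rfl⟩ (Frm.conj z)
  obtain ⟨w, hn, e⟩ := hf.inner
  simp only [e] at a1
  obtain rfl := eq_one_of_rA h3 hs a1
  have a3 := rep_mem_PL h4 _ _ _ rfl hn.inv fun a => by rw [a1, one_mul]
  have a4 := mul_mem a2 (inv_mem a3)
  rwa [show g₁⁻¹ * MulAut.conj z g₁ * y⁻¹ * (y * z)⁻¹⁻¹ = g₁⁻¹ * z * g₁ by rw [MulAut.conj_apply]; group] at a4

/-- the height -/
noncomputable def htR (l : ℕ) : (Fin l → ℤ) →+ ℝ where
  toFun a := ∑ i, (a i : ℝ)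
  map_zero' := by simp only [_root_.Pi.zero_apply, _root_.Int.cast_zero, _root_.Finset.sum_const_zero]
  map_add' a b := by simp only [Finset.sum_add_distrib, _root_.Pi.add_apply, _root_.Int.cast_add]

theorem htR_nonneg {a : Fin l → ℤ} (h : 0 ≤ a) : 0 ≤ htR l a :=
  Finset.sum_nonneg (s := Finset.univ) (f := fun i => (a i : ℝ)) fun i _ => Int.cast_nonneg (h i)

theorem htR_pos {a : Fin l → ℤ} (h : 0 ≤ a) (h0 : a ≠ 0) : 0 < htR l a := by
  obtain ⟨i, hi⟩ := Function.ne_iff.1 h0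
  exact Finset.sum_pos' (fun i _ => Int.cast_nonneg (h i)) ⟨i, Finset.mem_univ _, Int.cast_pos.2 (lt_of_le_of_ne (h i) hi.symm)⟩

theorem htR_ne {a : Fin l → ℤ} (ha : RT hp a) : htR l a ≠ 0 := by
  rcases ha.pos_or_neg with h | h
  · exact (htR_pos h ha.ne_zero).ne'
  · have h1 := htR_pos (neg_nonneg.2 h) ha.neg.ne_zero
    rw [map_neg] at h1
    exact (neg_pos.1 h1).ne

/-- **[SS]** -/
theorem boxSS : BoxSS := by
  intro D l M hp hD p _ R hR v hv
  obtain ⟨g, hg, h1⟩ := E8A.Bor.exists_inB (K := KK p) hp.inList (fun r => by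
    obtain ⟨i, h | h⟩ := Tor.car_one hD r
    · exact ⟨i, by rw [show (D.cartanSR.getD i.val #[]).getD r.val 0 = 1 from h, Int.cast_one]; exact one_ne_zero⟩
    · exact ⟨i, by
        rw [show (D.cartanSR.getD i.val #[]).getD r.val 0 = -1 from h, Int.cast_neg, Int.cast_one]
        exact neg_ne_zero.2 one_ne_zero⟩) v
  obtain ⟨h, h2⟩ := boxLim D l M hp p _ (adP hp p) R hR v hv ⟨g, hg⟩ (htR l) (by
    rintro (i | r) hs
    · exact (map_zero (htR l)).ge
    · have h3 : D.IsPosRoot r := (Unitriangular.isPosRoot_iff (Unitriangular.orderCheck_of_mem hp.inList) r).2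
        ⟨r.2, not_lt.1 fun e => hs (h1 r e)⟩
      exact htR_nonneg fun i => ((RootVec.isPosRoot_iff hp.checked r).1 h3).2 i (lt_rank hp i))
  exact ⟨h, fun s => (h2 (Sum.inr s)).2 (htR_ne (rt_vec hp s))⟩

end Cfsg.Agent.N2.Ex.K
end

-- part: N2/Ex/K/Mx
section
/-!
# S3519, exceptional groups, box (K): toral fixed spaces (helper70)

* `St W` : the pointwise stabiliser, `Rz W` : the roots vanishing on `W`; `St.dec` (CONJ), `conj_T_le`;
* `boxMx` : a toral fixed space is central or gives an invariant subgroup of maximal rank.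
-/

set_option autoImplicit false
set_option linter.unusedSectionVars false

namespace Cfsg.Agent.N2.Ex.K.Mx

open CoxeterSystem Cfsg Cfsg.Lie Cfsg.Lie.ChevalleyDatum Matrix
open Cfsg.Agent.ChevalleyStructure Cfsg.Agent.ChevalleyStructure.Elts Cfsg.Agent.ChevalleyStructure.CoxeterGeom
  Cfsg.Agent.ChevalleyStructure.CoxeterGeomTypes
open Cfsg.Agent.Tits.Roots Cfsg.Agent.Tits.Core Cfsg.Agent.Nodes Cfsg.Agent.Nodes.Reps Cfsg.Agent.Nodes.BNOf
  Cfsg.Agent.Nodes.RGDChev Cfsg.Agent.Nodes.Bruhat Cfsg.Agent.Nodes.NormalForm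
open Cfsg.Agent.KFacts.RgdField Cfsg.Agent.KFacts.RgdChevCoord
open Cfsg.Agent.BpExc Cfsg.Agent.BpExc.TorCent Cfsg.Agent.BpExc.TorChev Cfsg.Agent.BpExc.Tow
  Cfsg.Agent.BpExc.TowChev Cfsg.Agent.BpExc.Fr Cfsg.Agent.BpExc.LangFr
open Cfsg.Agent.H469.Exc Cfsg.Agent.H129.TorusChar Cfsg.Agent.DS.Ex Cfsg.Agent.DS.Nt Cfsg.Agent.DS.Ex.Tor
  Cfsg.Agent.SB.Exc

variable {D : ChevalleyDatum} {l : ℕ} {M : CoxeterMatrix (Fin l)} {hp : IsType D l M} {p : ℕ} [Fact p.Prime]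

theorem sub_entry {μ : (Fin l → ℤ) →+ ℝ} {u : YY D p} (hu : u ∈ UL hp p μ) {i j : D.Idx} (h : (mx u - 1) i j ≠ 0) :
    μ (wL D l j) < μ (wL D l i) := by
  let Q : YY D p → Prop := fun u => ∀ i j, (mx u - 1) i j ≠ 0 → μ (wL D l j) < μ (wL D l i)
  have hm : ∀ a b, Q a → Q b → Q (a * b) := fun a b ha hb i j h => by
    rw [show mx (a * b) - 1 = (mx a - 1) * (mx b - 1) + ((mx a - 1) + (mx b - 1)) by
      rw [mx_mul, sub_mul, mul_sub, mul_one, one_mul]; abel, Matrix.add_apply, Matrix.add_apply] at h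
    by_contra hc
    refine h ?_
    rw [of_not_not fun e => hc (ha i j e), of_not_not fun e => hc (hb i j e), add_zero, add_zero]
    by_contra e
    obtain ⟨k, h1, h2⟩ := exists_mid e
    exact hc ((hb _ _ h2).trans (ha _ _ h1))
  have h0 : Q 1 := fun i j h => (h (by rw [mx_one, sub_self]; rfl)).elim
  let K : Subgroup (YY D p) :=
    { carrier := {u | Q u ∧ Q u⁻¹}
      one_mem' := ⟨h0, by rw [inv_one]; exact h0⟩
      mul_mem' := fun ha hb => ⟨hm _ _ ha.1 hb.1, by rw [_root_.mul_inv_rev]; exact hm _ _ hb.2 ha.2⟩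
      inv_mem' := fun h => ⟨h.2, by rw [inv_inv]; exact h.1⟩ }
  have hX : ∀ a, RT hp a → 0 < μ a → ∀ x ∈ XX D l (KK p) a, Q x := fun a ha h0 x hx i j h => by
    obtain ⟨m, hm, e⟩ := xc_sub_entry hp ha hx h
    rw [e, map_add, map_zsmul, zsmul_eq_mul]
    exact lt_add_of_pos_right _ (mul_pos (by exact_mod_cast hm) h0)
  have h1 : UL hp p μ ≤ K := RGD.Sup_le fun a ha x hx => ⟨hX a ha.1 ha.2 x hx, hX a ha.1 ha.2 _ (inv_mem hx)⟩
  exact (h1 hu).1 i j h

theorem exists_vec {S : Type} [Fintype S] {A : Matrix S S (KK p)} {v : S → KK p} {i : S} (h : (A *ᵥ v) i ≠ 0) :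
    ∃ j, A i j ≠ 0 ∧ v j ≠ 0 := by
  obtain ⟨j, -, h2⟩ := Finset.exists_ne_zero_of_sum_ne_zero (show ∑ j, A i j * v j ≠ 0 from h)
  exact ⟨j, left_ne_zero_of_mul h2, right_ne_zero_of_mul h2⟩

theorem sub_pos {μ : (Fin l → ℤ) →+ ℝ} {u : YY D p} (hu : u ∈ UL hp p μ) {h : D.Idx → KK p} (hh : InT p h) {i : D.Idx}
    (e : ad D p u h i ≠ h i) : 0 < μ (wL D l i) := by
  have h1 : ((mx u - 1) *ᵥ h) i ≠ 0 := by
    rw [sub_mulVec, one_mulVec]
    exact sub_ne_zero.2 e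
  obtain ⟨j, h2, h4⟩ := exists_vec h1
  have h3 := sub_entry hu h2
  rcases j with j | s
  · rwa [wL_inl, map_zero] at h3
  · exact (h4 (hh s)).elim

theorem rp_inT {w : M.Group} {n : YY D p} (hn : RP hp p w n) {h : D.Idx → KK p} (hh : InT p h) : InT p (ad D p n h) := by
  intro s
  by_contra e
  obtain ⟨j, h2, h4⟩ := exists_vec (A := mx n) e
  rcases j with j | s'
  · have h3 : _root_.Cfsg.Agent.Nodes.RGDChev.vec D l s = rA hp w 0 := (adP hp p).mon hn h2
    rw [map_zero] at h3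
    exact (rt_vec hp s).ne_zero h3
  · exact h4 (hh s')

theorem rp_UL {w : M.Group} {n : YY D p} (hn : RP hp p w n) {v : YY D p}
    (hv : v ∈ MS D p (NW M.toCoxeterSystem hp.isCartan w)) : n * v * n⁻¹ ∈ UL hp p (-htR l) := by
  have h2 : MS D p (NW M.toCoxeterSystem hp.isCartan w) ≤ (UL hp p (-htR l)).comap (MulAut.conj n).toMonoidHom :=
    RGD.Sup_le fun a ha x hx => X_le_UL (ha.1.act w) (by
      have h1 := htR_pos (neg_nonneg.2 ha.2.2) (ha.1.act w).neg.ne_zero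
      rwa [map_neg] at h1) ((hn.fr.map a ha.1 x).2 hx)
  exact h2 hv

theorem U_le_UL : MS D p (RGD.Pos M.toCoxeterSystem hp.isCartan) ≤ UL hp p (htR l) :=
  RGD.Sup_mono fun _ ha => ⟨ha.1, htR_pos ha.2 ha.1.ne_zero⟩

theorem ad_inv_ad (a : YY D p) (v : D.Idx → KK p) : ad D p a⁻¹ (ad D p a v) = v := by
  rw [← ad_mul, inv_mul_cancel, map_one]; rfl

/-- the pointwise stabiliser -/
def St (W : Set (D.Idx → KK p)) : Subgroup (YY D p) where
  carrier := {c | ∀ h ∈ W, ad D p c h = h}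
  one_mem' h _ := by rw [map_one]; rfl
  mul_mem' ha hb h hh := by rw [ad_mul, hb h hh, ha h hh]
  inv_mem' {a} ha h hh := by
    conv_lhs => rw [← ha h hh]
    exact ad_inv_ad a h

variable (hp) in
/-- the roots which vanish on `W` -/
def Rz (W : Set (D.Idx → KK p)) : Set (Fin l → ℤ) := {a | RT hp a ∧ ∀ h ∈ W, rl hp h a = 0}

variable {W : Set (D.Idx → KK p)}

theorem cs_Rz : CS hp (Rz hp W) :=
  ⟨⟨fun _ h => h.1, fun x hx y hy z ⟨hz, a, b, _, _, e⟩ => ⟨hz, fun h hh => by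
    rw [e, map_add, map_zsmul, map_zsmul, hx.2 h hh, hy.2 h hh, smul_zero, smul_zero, add_zero]⟩⟩,
    fun a ha => ⟨ha.1.neg, fun h hh => by rw [map_neg, ha.2 h hh, neg_zero]⟩⟩

variable (hW : ∀ h ∈ W, InT p h)

include hW

theorem DD_le : DD D p (Rz hp W) ≤ St W := by
  refine sup_le (RGD.Sup_le fun a ha x hx h hh => ?_) fun t ht h hh => ad_T_T hp ht (hW h hh)
  obtain ⟨u, rfl⟩ := (mem_XX hp ha.1).1 hx
  obtain ⟨r, rfl⟩ := exists_idx hp ha.1
  rw [ad_xc_T hp r u (hW h hh), ha.2 h hh, zero_mul, Pi.single_zero, sub_zero]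

theorem mem_Rz {a : Fin l → ℤ} (ha : RT hp a) {u : KK p} (hu : u ≠ 0) (h : xc hp a u ∈ St W) : a ∈ Rz hp W := by
  obtain ⟨r, rfl⟩ := exists_idx hp ha
  refine ⟨ha, fun v hv => ?_⟩
  have h1 := congrFun (h v hv) (Sum.inr r)
  rw [ad_xc_T hp r u (hW v hv), Pi.sub_apply, Pi.single_eq_same, sub_eq_self] at h1
  exact (mul_eq_zero.1 h1).resolve_right hu

theorem lp_mem : ∀ L : List (Fin l → ℤ), DL.Conv L → (∀ a ∈ L, RT hp a) → ∀ c, (dat hp p).lp L c ∈ St W →
    (dat hp p).lp L c ∈ DD D p (Rz hp W)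
  | [], _, _, _, _ => one_mem _
  | a :: L, ⟨⟨f, hf0, hf⟩, hL⟩, hr, c, h => by
    have ha := hr a List.mem_cons_self
    have hr' : ∀ b ∈ L, RT hp b := fun b hb => hr b (List.mem_cons_of_mem _ hb)
    change xc hp a (c a) * (dat hp p).lp L c ∈ _ at h ⊢
    have h1 : (dat hp p).lp L c ∈ UL hp p ((Int.castAddHom ℝ).comp f) :=
      (dat hp p).lp_mem_S hr' fun b hb _ => ⟨hr' b hb, Int.cast_pos.2 (hf b hb)⟩
    have h2 : xc hp a (c a) ∈ DD D p (Rz hp W) := by
      by_cases e : c a = 0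
      · rw [e, xc_zero hp ha]
        exact one_mem _
      refine Subgroup.mem_sup_left (RGD.le_Sup (S := Rz hp W) ⟨ha, fun v hv => ?_⟩ ((mem_XX hp ha).2 ⟨_, rfl⟩))
      obtain ⟨r, rfl⟩ := exists_idx hp ha
      have h3 : ad D p ((dat hp p).lp L c) v = ad D p (xc hp (_root_.Cfsg.Agent.Nodes.RGDChev.vec D l r) (-c (_root_.Cfsg.Agent.Nodes.RGDChev.vec D l r))) v := by
        rw [show xc hp (_root_.Cfsg.Agent.Nodes.RGDChev.vec D l r) (-c (_root_.Cfsg.Agent.Nodes.RGDChev.vec D l r)) = (xc hp (_root_.Cfsg.Agent.Nodes.RGDChev.vec D l r) (c (_root_.Cfsg.Agent.Nodes.RGDChev.vec D l r)))⁻¹ from (dat hp p).x_neg ha _]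
        conv_rhs => rw [← h v hv, ad_mul, ad_inv_ad]
      by_contra e'
      have h4 := sub_pos h1 (hW v hv) (i := Sum.inr r) (by
        rw [h3, ad_xc_T hp r _ (hW v hv), Pi.sub_apply, Pi.single_eq_same, Ne, sub_eq_self]
        exact mul_ne_zero e' (neg_ne_zero.2 e))
      exact absurd (Int.cast_pos.1 h4) (not_lt.2 hf0.le)
    exact mul_mem h2 (lp_mem L hL hr' c ((mul_mem_cancel_left (DD_le hW h2)).1 h))

theorem U_mem {u : YY D p} (hu : u ∈ MS D p (RGD.Pos M.toCoxeterSystem hp.isCartan)) (h : u ∈ St W) :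
    u ∈ DD D p (Rz hp W) := by
  have := finW hp
  obtain ⟨L, hL, hm⟩ := DL.exists_conv (cs := M.toCoxeterSystem) (h := hp.isCartan)
    (S := RGD.Pos M.toCoxeterSystem hp.isCartan) (fun _ h => h.1) _ (dat hp p).ht_pos_of_pos
  obtain ⟨c, -, rfl⟩ := (dat hp p).exists_lp _ hL (fun a ha => ⟨((hm a).1 ha).1, (dat hp p).ht_pos_of_pos a ((hm a).1 ha)⟩)
    (dat hp p).cl_pos (fun a ha => (hm a).2 ha) hu
  exact lp_mem hW L hL (fun a ha => ((hm a).1 ha).1) c h

theorem rp_conj {w : M.Group} {n : YY D p} (hn : RP hp p w n) (h : n ∈ St W) {m : YY D p} (hm : m ∈ DD D p (Rz hp W)) :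
    n * m * n⁻¹ ∈ DD D p (Rz hp W) := by
  have h2 : DD D p (Rz hp W) ≤ (DD D p (Rz hp W)).comap (MulAut.conj n).toMonoidHom := by
    refine sup_le (RGD.Sup_le fun a ha x hx => Subgroup.mem_sup_left (RGD.le_Sup (S := Rz hp W) ?_
      ((hn.fr.map a ha.1 x).2 hx))) fun t ht => Subgroup.mem_sup_right (hn.conj_mem ht)
    have h1 := (mem_XX hp ha.1).2 ⟨(1 : KK p), rfl⟩
    obtain ⟨u, e⟩ := (mem_XX hp (ha.1.act w)).1 ((hn.fr.map a ha.1 _).2 h1)
    refine mem_Rz hW (ha.1.act w) (u := u) (fun e' => ?_) ?_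
    · rw [e', xc_zero hp (ha.1.act w)] at e
      exact one_ne_zero (((dat hp p).x_eq_one_iff ha.1).1 (conj_eq_one_iff.1 e.symm))
    · show xc hp (rep M.toCoxeterSystem hp.isCartan w a) u ∈ _
      rw [e]
      exact (mul_mem (mul_mem h (DD_le hW (Subgroup.mem_sup_left (RGD.le_Sup ha h1)))) (inv_mem h) :)
  exact h2 hm

/-- **CONJ** -/
theorem dec {c : YY D p} (hc : c ∈ St W) : ∃ m ∈ DD D p (Rz hp W), ∃ w n, RP hp p w n ∧ n ∈ St W ∧ c = m * n := by
  obtain ⟨u, hu, w, n, hn, v, hv, rfl⟩ := bruhat hp c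
  have h1 : ∀ h ∈ W, ad D p u⁻¹ h = h ∧ ad D p n h = h := fun h hh => by
    have e : ad D p u⁻¹ h = ad D p (n * v * n⁻¹) (ad D p n h) := by
      conv_lhs => rw [← hc h hh, ← ad_mul]
      rw [← ad_mul]
      congr 2
      group
    have a1 := fun i => sub_pos (inv_mem (U_le_UL (hp := hp) hu)) (hW h hh) (i := i)
    have a2 := fun i => sub_pos (rp_UL hn hv) (rp_inT hn (hW h hh)) (i := i)
    rw [← e] at a2
    refine ⟨funext fun i => of_not_not fun e' => ?_, funext fun i => ?_⟩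
    · have a3 := a1 i e'
      rcases i with i | s
      · rw [wL_inl, map_zero] at a3
        exact lt_irrefl _ a3
      · refine absurd (a2 _ ?_) (not_lt.2 (neg_nonpos.2 a3.le))
        rwa [rp_inT hn (hW h hh) s, ← hW h hh s]
    · rcases i with i | s
      · have a3 : ¬ 0 < htR l (wL D l (Sum.inl i)) := by rw [wL_inl, map_zero]; exact lt_irrefl _
        have a4 : ¬ 0 < (-htR l) (wL D l (Sum.inl i)) := by rw [wL_inl, map_zero]; exact lt_irrefl _
        rw [← of_not_not fun e' => a4 (a2 _ e'), of_not_not fun e' => a3 (a1 _ e')]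
      · rw [rp_inT hn (hW h hh) s, hW h hh s]
  have h2 : u ∈ St W := inv_mem_iff.1 fun h hh => (h1 h hh).1
  have h3 : n ∈ St W := fun h hh => (h1 h hh).2
  exact ⟨u * (n * v * n⁻¹), mul_mem (U_mem hW hu h2) (rp_conj hW hn h3 (U_mem hW (NW_le_U (hp := hp) w hv)
    ((mul_mem_cancel_left (mul_mem h2 h3)).1 hc))), w, n, hn, h3, by group⟩

/-- a maximal torus of the stabiliser lies in `DD` -/
theorem conj_T_le {z : YY D p} (hz : ∀ t ∈ TT D (KK p), z * t * z⁻¹ ∈ St W) {t : YY D p} (ht : t ∈ TT D (KK p)) :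
    z * t * z⁻¹ ∈ DD D p (Rz hp W) := by
  have := finW hp
  obtain ⟨s, hs, rfl⟩ := (dat hp p).exists_pow_eq_T ht (m := Nat.card M.Group) Nat.card_pos.ne'
  obtain ⟨m, hm, w, n, hn, h1, e⟩ := dec (hp := hp) hW (hz s hs)
  have h2 : ∀ k : ℕ, (m * n) ^ k * (n ^ k)⁻¹ ∈ DD D p (Rz hp W) := fun k => by
    induction k with
    | zero => rw [pow_zero, pow_zero, mul_inv_cancel]; exact one_mem _
    | succ k ih =>
      rw [show (m * n) ^ (k + 1) * (n ^ (k + 1))⁻¹ = m * (n * ((m * n) ^ k * (n ^ k)⁻¹) * n⁻¹) by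
        rw [pow_succ', pow_succ']; group]
      exact mul_mem hm (rp_conj hW hn h1 ih)
  have h3 := hn.pow (Nat.card M.Group)
  rw [pow_card_eq_one'] at h3
  rw [← conj_pow, e]
  exact (mul_mem_cancel_right (inv_mem (Subgroup.mem_sup_right h3.mem_T))).1 (h2 _)

omit hW

theorem frob_fix {φ : MulAut (YY D p)} {n : ℕ} (h : IsFrob p n φ) (v : D.Idx → KK p) :
    ∃ v', ∀ y, ad D p (φ y) v = v ↔ ad D p y v' = v' := by
  obtain ⟨J, hJ⟩ := h
  have hb := bijective_iterateFrobenius (KK p) p n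
  choose v' hv' using fun i => hb.2 (((J⁻¹ : GL D.Idx (KK p)) : Matrix D.Idx D.Idx (KK p)).mulVec v i)
  have e : iterateFrobenius (KK p) p n ∘ v' = ((J⁻¹ : GL D.Idx (KK p)) : Matrix D.Idx D.Idx (KK p)) *ᵥ v := funext hv'
  have e' : (J : Matrix D.Idx D.Idx (KK p)) *ᵥ (iterateFrobenius (KK p) p n ∘ v') = v := by
    rw [e, mulVec_mulVec, Units.mul_inv, one_mulVec]
  refine ⟨v', fun y => ?_⟩
  have h1 : ad D p (φ y) v = (J : Matrix D.Idx D.Idx (KK p)) *ᵥ (iterateFrobenius (KK p) p n ∘ ad D p y v') := by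
    rw [ad_eq, mx, hJ, Units.val_mul, Units.val_mul, ← mulVec_mulVec, ← mulVec_mulVec, ← e]
    congr 1
    exact funext fun i => (RingHom.map_mulVec (iterateFrobenius (KK p) p n) (mx y) v' i).symm
  rw [h1]
  refine ⟨fun h2 => funext fun i => hb.1 (congrFun (mulVec_injective_iff_isUnit.2 J.isUnit (h2.trans e'.symm)) i), fun h2 => ?_⟩
  rw [h2, e']

end Cfsg.Agent.N2.Ex.K.Mx


namespace Cfsg.Agent.N2.Ex.K

open CoxeterSystem Cfsg Cfsg.Lie Cfsg.Lie.ChevalleyDatum Matrix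
open Cfsg.Agent.ChevalleyStructure Cfsg.Agent.ChevalleyStructure.Elts Cfsg.Agent.ChevalleyStructure.CoxeterGeom
  Cfsg.Agent.ChevalleyStructure.CoxeterGeomTypes
open Cfsg.Agent.Tits.Roots Cfsg.Agent.Tits.Core Cfsg.Agent.Nodes Cfsg.Agent.Nodes.Reps Cfsg.Agent.Nodes.BNOf
  Cfsg.Agent.Nodes.RGDChev Cfsg.Agent.Nodes.Bruhat Cfsg.Agent.Nodes.NormalForm
open Cfsg.Agent.KFacts.RgdField Cfsg.Agent.KFacts.RgdChevCoord
open Cfsg.Agent.BpExc Cfsg.Agent.BpExc.TorCent Cfsg.Agent.BpExc.TorChev Cfsg.Agent.BpExc.Tow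
  Cfsg.Agent.BpExc.TowChev Cfsg.Agent.BpExc.Fr Cfsg.Agent.BpExc.LangFr
open Cfsg.Agent.H469.Exc Cfsg.Agent.H129.TorusChar Cfsg.Agent.DS.Ex Cfsg.Agent.DS.Nt Cfsg.Agent.DS.Ex.Tor
  Cfsg.Agent.SB.Exc
open Mx

/-- **[MX]** a toral fixed space is central, or gives an invariant subgroup of maximal rank -/
theorem boxMx {D : ChevalleyDatum} {l : ℕ} {M : CoxeterMatrix (Fin l)} (hp : IsType D l M) {p : ℕ} [Fact p.Prime]
    {σ : MulAut (YY D p)} {Γ : Subgroup (MulAut (YY D p))} {R : Subgroup (YY D p)} (K : KF hp p σ Γ)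
    (hs : ∃ n, IsFrob p n σ) (hE : Ev p σ Γ) (hI : Iv Γ R)
    (ht : ∃ g : YY D p, ∀ v ∈ Fx p (R : Set (YY D p)), InT p (ad D p g v)) (hM : ¬ HasM hp p Γ) :
    Fx p (R : Set (YY D p)) ≤ Fx p (Set.univ : Set (YY D p)) := by
  obtain ⟨g, hg⟩ := ht
  obtain ⟨e, hs⟩ := hs
  let W : Set (D.Idx → KK p) := ad D p g '' Fx p (R : Set (YY D p))
  have hW : ∀ h ∈ W, InT p h := by
    rintro _ ⟨v, hv, rfl⟩
    exact hg v hv
  have h0 : ∀ c, c ∈ Mx.St W ↔ g⁻¹ * c * g ∈ Mx.St (Fx p (R : Set (YY D p)) : Set (D.Idx → KK p)) := fun c => by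
    refine ⟨fun h v hv => by rw [ad_mul, ad_mul, h _ ⟨v, hv, rfl⟩, ad_inv_ad], ?_⟩
    rintro h _ ⟨v, hv, rfl⟩
    conv_rhs => rw [← h v hv, ← ad_mul]
    rw [← ad_mul]
    congr 2
    group
  have h1 : ∀ φ ∈ Γ, ∀ c ∈ Mx.St (Fx p (R : Set (YY D p)) : Set (D.Idx → KK p)),
      φ c ∈ Mx.St (Fx p (R : Set (YY D p)) : Set (D.Idx → KK p)) := by
    intro φ hφ c hc v hv
    obtain ⟨m, n, a1⟩ := hE φ hφ
    obtain ⟨N, hN, a2⟩ := K.exists_pow (Set.finite_singleton c)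
    obtain ⟨v', a3⟩ := frob_fix (a1.mul (hs.pow (N * m - m))) v
    have a4 := (a3 c).2 (hc v' fun r hr => (a3 r).1 (hv _ (hI _ (mul_mem (mul_mem hφ (pow_mem K.mem _))
      (pow_mem K.mem _)) r hr)))
    rwa [mul_assoc, ← pow_add, Nat.add_sub_cancel' (Nat.le_mul_of_pos_left m hN), MulAut.mul_apply, pow_mul,
      pow_fix (a2 c rfl)] at a4
  have h2 : ∀ φ ∈ Γ, ∀ z, (∀ t ∈ TT D (KK p), z * t * z⁻¹ ∈ Mx.St W) → ∀ t ∈ TT D (KK p),
      g * φ (g⁻¹ * (z * t * z⁻¹) * g) * g⁻¹ ∈ DD D p (Rz hp W) := by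
    intro φ hφ z hz t ht
    obtain ⟨φ', a1, ⟨y, ψ, a2⟩, a3⟩ := K.exists_frm hφ (Set.finite_singleton (g⁻¹ * (z * t * z⁻¹) * g))
    have a4 : ∀ s, g * φ' (g⁻¹ * (z * s * z⁻¹) * g) * g⁻¹ =
        g * φ' (g⁻¹ * z) * y⁻¹ * (y * φ' s * y⁻¹) * (g * φ' (g⁻¹ * z) * y⁻¹)⁻¹ := fun s => by
      simp only [map_mul, map_inv]
      group
    rw [← a3 _ rfl, a4]
    refine conj_T_le hW (fun s hs => ?_) ((a2.tor t).2 ht)
    obtain ⟨s, rfl⟩ : ∃ s', s = y * φ' s' * y⁻¹ := ⟨φ'⁻¹ (y⁻¹ * s * y), by rw [MulAut.apply_inv_self]; group⟩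
    rw [← a4, h0, show g⁻¹ * (g * φ' (g⁻¹ * (z * s * z⁻¹) * g) * g⁻¹) * g = φ' (g⁻¹ * (z * s * z⁻¹) * g) by group]
    exact h1 _ a1 _ ((h0 _).1 (hz s ((a2.tor s).1 hs)))
  by_cases h3 : DD D p (Rz hp W) = ⊤
  · intro v hv y _
    have h4 := (h0 _).1 (DD_le hW (h3.ge (Subgroup.mem_top (g * y * g⁻¹)))) v hv
    rwa [show g⁻¹ * (g * y * g⁻¹) * g = y by group] at h4
  refine (hM ⟨g⁻¹, _, cs_Rz, h3, fun φ hφ y hy => ?_⟩).elim
  rw [inv_inv]
  have h4 : ∀ t ∈ TT D (KK p), g * φ (g⁻¹ * t * g) * g⁻¹ ∈ DD D p (Rz hp W) := fun t ht => by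
    have h5 := h2 φ hφ 1 (fun t ht => DD_le (hp := hp) hW (Subgroup.mem_sup_right (by rwa [one_mul, inv_one, mul_one]))) t ht
    rwa [one_mul, inv_one, mul_one] at h5
  have h5 : DD D p (Rz hp W) ≤ (DD D p (Rz hp W)).comap (MulAut.conj g * φ * MulAut.conj g⁻¹).toMonoidHom := by
    have e : ∀ x, (MulAut.conj g * φ * MulAut.conj g⁻¹).toMonoidHom x = g * φ (g⁻¹ * x * g) * g⁻¹ := fun x => by
      show g * φ (g⁻¹ * x * g⁻¹⁻¹) * g⁻¹ = _
      rw [inv_inv]
    have hT : TT D (KK p) ≤ (DD D p (Rz hp W)).comap (MulAut.conj g * φ * MulAut.conj g⁻¹).toMonoidHom := fun t ht => by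
      rw [Subgroup.mem_comap, e]
      exact h4 t ht
    refine sup_le (RGD.Sup_le fun a ha x hx => ?_) hT
    obtain ⟨u, rfl⟩ := (mem_XX hp ha.1).1 hx
    obtain ⟨t, ht, b1⟩ : ∃ t ∈ TT D (KK p), cX hp t a ≠ 1 := by
      by_contra hc
      push Not at hc
      exact ha.1.ne_zero (sep hp p fun t ht => (hc t ht).trans (isMC_cX hp ht).zero.symm)
    have b2 : xc hp a u = xc hp a (u / (1 - cX hp t a)) * t * (xc hp a (u / (1 - cX hp t a)))⁻¹ * t⁻¹ := by
      have b3 := T_conj_xc hp ht ha.1 (-(u / (1 - cX hp t a)))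
      rw [show xc hp a (-(u / (1 - cX hp t a))) = (xc hp a (u / (1 - cX hp t a)))⁻¹ from (dat hp p).x_neg ha.1 _] at b3
      have b4 : ∀ u v : KK p, xc hp a (u + v) = xc hp a u * xc hp a v := (dat hp p).x_add a ha.1
      rw [mul_assoc, mul_assoc, ← mul_assoc t, b3, ← b4]
      congr 1
      have := sub_ne_zero.2 b1.symm
      field_simp
      ring
    rw [b2]
    refine mul_mem ?_ (hT (inv_mem ht))
    rw [Subgroup.mem_comap, e]
    have b4 := DD_le hW (Subgroup.mem_sup_left (RGD.le_Sup ha ((mem_XX hp ha.1).2 ⟨u / (1 - cX hp t a), rfl⟩)))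
    exact h2 φ hφ _ (fun s hs => mul_mem (mul_mem b4 (DD_le (hp := hp) hW (Subgroup.mem_sup_right hs))) (inv_mem b4)) t ht
  have h6 := h5 hy
  rw [Subgroup.mem_comap] at h6
  convert h6 using 1
  show _ = g * φ (g⁻¹ * y * g⁻¹⁻¹) * g⁻¹
  rw [inv_inv]

end Cfsg.Agent.N2.Ex.K
end

-- part: N2/Ex/K/Scott
section
/-!
# S3519, exceptional groups, box (K): the centre of the Lie algebra, Scott's inequality (helper70)

* `cen_le_one`, `cen_eq_bot` : the fixed space of `Y`; `tor_le` : toral subspaces; `card_le_dd` : unipotent elements;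
* `BoxCo` : the cofixed space; `scott_Y`.
-/

set_option autoImplicit false
set_option linter.unusedSectionVars false

namespace Cfsg.Agent.N2.Ex.K

open CoxeterSystem Cfsg Cfsg.Lie Cfsg.Lie.ChevalleyDatum Matrix
open Cfsg.Agent.ChevalleyStructure Cfsg.Agent.ChevalleyStructure.Elts Cfsg.Agent.ChevalleyStructure.CoxeterGeom
  Cfsg.Agent.ChevalleyStructure.CoxeterGeomTypes
open Cfsg.Agent.Tits.Roots Cfsg.Agent.Tits.Core Cfsg.Agent.Nodes Cfsg.Agent.Nodes.Reps Cfsg.Agent.Nodes.BNOf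
  Cfsg.Agent.Nodes.RGDChev Cfsg.Agent.Nodes.Bruhat Cfsg.Agent.Nodes.NormalForm
open Cfsg.Agent.KFacts.RgdField Cfsg.Agent.KFacts.RgdChevCoord
open Cfsg.Agent.BpExc Cfsg.Agent.BpExc.TorCent Cfsg.Agent.BpExc.TorChev Cfsg.Agent.BpExc.Tow
  Cfsg.Agent.BpExc.TowChev Cfsg.Agent.BpExc.Fr Cfsg.Agent.BpExc.LangFr
open Cfsg.Agent.H469.Exc Cfsg.Agent.H129.TorusChar Cfsg.Agent.DS.Ex Cfsg.Agent.DS.Nt Cfsg.Agent.DS.Ex.Tor
  Cfsg.Agent.SB.Exc

/-- [CO] the cofixed space of a perfect group -/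
def BoxCo : Prop := ∀ (D : ChevalleyDatum) (l : ℕ) (M : CoxeterMatrix (Fin l)) (_ : IsType D l M), Typ D →
  ∀ (p : ℕ) [Fact p.Prime], (D = chevF4 → p ≠ 2) → ∀ Z : Subgroup (YY D p), ⁅Z, Z⁆ = Z →
    ∀ C : Submodule (KK p) (D.Idx → KK p), (∀ z ∈ Z, ∀ v, ad D p z v - v ∈ C) →
      Module.finrank (KK p) ((D.Idx → KK p) ⧸ C) ≤ Module.finrank (KK p) (Fx p (Z : Set (YY D p)))

variable {D : ChevalleyDatum} {l : ℕ} {M : CoxeterMatrix (Fin l)} (hp : IsType D l M) {p : ℕ} [Fact p.Prime]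

theorem Irr.congr {M' : CoxeterMatrix (Fin l)} (hp' : IsType D l M') {R : Subgroup (YY D p)} (h : Irr hp p R) :
    Irr hp' p R := fun g μ hg => h g μ fun r hr =>
  PL_le (hp := hp') T_le_PL (fun a ha h0 => X_le_PL ((isRoot_iff hp _ a).2 ((isRoot_iff hp' _ a).1 ha)) h0) (hg r hr)

include hp in
theorem cen_tab (hD : Typ D) : ∃ (i₀ : Fin l) (e : Fin l → ℤ) (B : Fin l → Fin l → ℤ) (b : Fin l → ℤ),
    (∀ i k, (if k = i then 1 else 0) = ∑ j, B i j * cartanOf D l k j + e i * (if k = i₀ then 1 else 0)) ∧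
      ∀ k, (dM l : ℤ) * (if k = i₀ then 1 else 0) = ∑ j, b j * cartanOf D l k j := by
  have h := typ_l hp
  rcases hD with rfl | rfl | rfl | rfl
  · obtain rfl := h.1 rfl
    exact ⟨3, ![0, 0, 0, 0], ![![2, 3, 2, 1], ![3, 6, 4, 2], ![4, 8, 6, 3], ![2, 4, 3, 2]], ![2, 4, 3, 2],
      by decide +kernel, by decide +kernel⟩
  · obtain rfl := h.2.1 rfl
    exact ⟨5, ![2, 0, 1, 0, 2, 1], ![![0, -1, -1, -2, -2, -2], ![1, 2, 2, 3, 2, 1], ![1, 1, 2, 2, 1, 0],
      ![2, 3, 4, 6, 4, 2], ![0, 0, 0, 0, 0, -1], ![0, 0, 0, 0, 0, 0]], ![2, 3, 4, 6, 5, 4],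
      by decide +kernel, by decide +kernel⟩
  · obtain rfl := h.2.2.1 rfl
    exact ⟨6, ![0, 1, 0, 0, 1, 0, 1], ![![2, 2, 3, 4, 3, 2, 1], ![1, 2, 2, 3, 2, 1, 0], ![3, 4, 6, 8, 6, 4, 2],
      ![4, 6, 8, 12, 9, 6, 3], ![2, 3, 4, 6, 5, 3, 1], ![2, 3, 4, 6, 5, 4, 2], ![0, 0, 0, 0, 0, 0, 0]],
      ![2, 3, 4, 6, 5, 4, 3], by decide +kernel, by decide +kernel⟩
  · obtain rfl := h.2.2.2 rfl
    exact ⟨7, ![0, 0, 0, 0, 0, 0, 0, 0], ![![4, 5, 7, 10, 8, 6, 4, 2], ![5, 8, 10, 15, 12, 9, 6, 3],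
      ![7, 10, 14, 20, 16, 12, 8, 4], ![10, 15, 20, 30, 24, 18, 12, 6], ![8, 12, 16, 24, 20, 15, 10, 5],
      ![6, 9, 12, 18, 15, 12, 8, 4], ![4, 6, 8, 12, 10, 8, 6, 3], ![2, 3, 4, 6, 5, 4, 3, 2]],
      ![2, 3, 4, 6, 5, 4, 3, 2], by decide +kernel, by decide +kernel⟩

include hp in
theorem cen_inT {v : D.Idx → KK p} (hv : v ∈ Fx p (Set.univ : Set (YY D p))) : InT p v := fun s => by
  by_contra hc
  refine (rt_vec hp s).ne_zero (sep hp p fun t ht => ?_)
  have h1 := congrFun (hv t (Set.mem_univ _)) (Sum.inr s)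
  rw [ad_eq, mx_T hp ht, mulVec_diagonal, mul_eq_right₀ hc] at h1
  exact h1.trans (isMC_cX hp ht).zero.symm

theorem cen_rl {v : D.Idx → KK p} (hv : v ∈ Fx p (Set.univ : Set (YY D p))) {a : Fin l → ℤ} (ha : RT hp a) :
    rl hp v a = 0 :=
  (Mx.mem_Rz (W := {v}) (fun _ e => e ▸ cen_inT hp hv) ha one_ne_zero fun _ e => e ▸ hv _ (Set.mem_univ _)).2 v rfl

include hp in
theorem cen_coord (hD : Typ D) : ∃ i₀ : Fin D.rank, ∀ v ∈ Fx p (Set.univ : Set (YY D p)),
    (dM l : KK p) * v (Sum.inl i₀) = 0 ∧ (v (Sum.inl i₀) = 0 → v = 0) := by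
  obtain ⟨i₀, e, B, b, h1, h2⟩ := cen_tab hp hD
  obtain rfl := hp.rank_eq
  refine ⟨i₀, fun v hv => ?_⟩
  have h3 : ∀ c : Fin D.rank → ℤ, ∑ k, ((∑ j, c j * cartanOf D D.rank k j : ℤ) : KK p) * v (Sum.inl k) = 0 := fun c => by
    simp only [Int.cast_sum, Int.cast_mul, Finset.sum_mul]
    rw [Finset.sum_comm]
    refine Finset.sum_eq_zero fun j _ => ?_
    have h4 := cen_rl hp hv (isRoot_sr _ _ j)
    rw [rl_apply] at h4
    simp only [DL.Ex.pairing_sr', Fin.cast_eq_self] at h4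
    simp only [mul_assoc]
    rw [← Finset.mul_sum, h4, mul_zero]
  refine ⟨?_, fun h0 => funext fun i => ?_⟩
  · simpa only [← h2, _root_.mul_eq_zero, _root_.mul_ite, _root_.mul_one, _root_.MulZeroClass.mul_zero, _root_.Int.cast_ite, _root_.Int.cast_natCast, _root_.Int.cast_zero, _root_.ite_mul, _root_.MulZeroClass.zero_mul, _root_.Finset.sum_ite_eq', _root_.Finset.mem_univ, ↓ _root_.reduceIte] using h3 b
  · rcases i with i | s
    · have h4 := h3 (B i)
      simp only [fun k => eq_sub_of_add_eq (h1 i k).symm] at h4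
      simpa only [sub_mul, h0, _root_.Pi.zero_apply, _root_.mul_ite, _root_.mul_one, _root_.MulZeroClass.mul_zero, _root_.Int.cast_sub, _root_.Int.cast_ite, _root_.Int.cast_one, _root_.Int.cast_zero, _root_.ite_mul, _root_.one_mul, _root_.MulZeroClass.zero_mul, _root_.Finset.sum_sub_distrib, _root_.Finset.sum_ite_eq', _root_.Finset.mem_univ, ↓ _root_.reduceIte, _root_.sub_zero] using h4
    · exact cen_inT hp hv s

include hp in
theorem cen_le_one (hD : Typ D) : Module.finrank (KK p) (Fx p (Set.univ : Set (YY D p))) ≤ 1 := by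
  obtain ⟨i₀, h⟩ := cen_coord (p := p) hp hD
  refine (LinearMap.finrank_le_finrank_of_injective
    (f := (LinearMap.proj (Sum.inl i₀) : (D.Idx → KK p) →ₗ[KK p] KK p) ∘ₗ (Fx p (Set.univ : Set (YY D p))).subtype)
    ((injective_iff_map_eq_zero _).2 fun v hv => Subtype.ext ((h v v.2).2 hv))).trans (Module.finrank_self _).le

include hp in
theorem cen_eq_bot (hD : Typ D) (h : ¬ p ∣ dM l) : Fx p (Set.univ : Set (YY D p)) = ⊥ := by
  obtain ⟨i₀, h1⟩ := cen_coord (p := p) hp hD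
  exact eq_bot_iff.2 fun v hv => (h1 v hv).2 ((mul_eq_zero.1 (h1 v hv).1).resolve_left
    fun e => h ((CharP.cast_eq_zero_iff (KK p) p _).1 e))

include hp in
theorem tor_le {W : Submodule (KK p) (D.Idx → KK p)} {g : YY D p} (h : ∀ v ∈ W, InT p (ad D p g v)) :
    Module.finrank (KK p) W ≤ l := by
  refine (LinearMap.finrank_le_finrank_of_injective
    (f := (LinearMap.funLeft (KK p) (KK p) (Sum.inl : Fin D.rank → D.Idx)) ∘ₗ ad D p g ∘ₗ W.subtype)
    ((injective_iff_map_eq_zero _).2 fun v hv => Subtype.ext ?_)).trans ?_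
  · have h1 : ad D p g v = 0 := funext fun i => by
      rcases i with i | s
      · exact congrFun hv i
      · exact h v v.2 s
    rw [← Mx.ad_inv_ad g (v : D.Idx → KK p), h1, map_zero]
    rfl
  · rw [Module.finrank_fintype_fun_eq_card, Fintype.card_fin, hp.rank_eq]

theorem ker_pow_le {K V : Type*} [Field K] [AddCommGroup V] [Module K V] [FiniteDimensional K V] (f : Module.End K V)
    (a : ℕ) : Module.finrank K (LinearMap.ker (f ^ a)) ≤ a * Module.finrank K (LinearMap.ker f) := by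
  induction a with
  | zero => rw [pow_zero, Module.End.one_eq_id, LinearMap.ker_id, finrank_bot, zero_mul]
  | succ a ih =>
    let r : LinearMap.ker (f ^ (a + 1)) →ₗ[K] LinearMap.ker (f ^ a) :=
      (f ∘ₗ (LinearMap.ker (f ^ (a + 1))).subtype).codRestrict _ fun v => by
        have h : (f ^ (a + 1)) (v : V) = 0 := v.2
        exact (congrArg (fun g : Module.End K V => g (v : V)) (pow_succ f a)).symm.trans h
    have h1 := LinearMap.finrank_range_add_finrank_ker r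
    have h2 := Submodule.finrank_le (LinearMap.range r)
    have h3 : Module.finrank K (LinearMap.ker r) ≤ Module.finrank K (LinearMap.ker f) :=
      LinearMap.finrank_le_finrank_of_injective
        (f := ((LinearMap.ker (f ^ (a + 1))).subtype ∘ₗ (LinearMap.ker r).subtype).codRestrict (LinearMap.ker f)
          fun v => congrArg Subtype.val v.2)
        fun v w h => Subtype.ext (Subtype.ext (congrArg (fun z : LinearMap.ker f => (z : V)) h))
    rw [Nat.succ_mul]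
    omega

theorem card_le_dd {y : YY D p} {k : ℕ} (h : y ^ p ^ k = 1) : Fintype.card D.Idx ≤ p ^ k * dd p y := by
  have h1 := ker_pow_le (ad D p y - 1) (p ^ k)
  have : Nonempty D.Idx ∨ IsEmpty D.Idx := (isEmpty_or_nonempty _).symm
  rcases this with h0 | h0
  · have : CharP (Module.End (KK p) (D.Idx → KK p)) p := charP_of_injective_algebraMap (algebraMap (KK p) _).injective p
    rw [sub_pow_char_pow_of_commute p k (Commute.one_right _), ← map_pow, h, map_one, one_pow, sub_self,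
      LinearMap.ker_zero, finrank_top, Module.finrank_fintype_fun_eq_card] at h1
    rwa [dd, DS.NT.ev, Module.End.eigenspace_def, one_smul]
  · rw [Fintype.card_eq_zero]
    exact Nat.zero_le _

/-- **Scott's inequality** on the Lie algebra -/
theorem scott_Y {Z : Subgroup (YY D p)} {x y : YY D p} (h : Subgroup.closure {x, y} = Z) {n : ℕ}
    (hn : ∀ C : Submodule (KK p) (D.Idx → KK p), (∀ z ∈ Z, ∀ v, ad D p z v - v ∈ C) →
      Module.finrank (KK p) ((D.Idx → KK p) ⧸ C) ≤ n) :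
    dd p x + dd p y + dd p (x * y) ≤ Fintype.card D.Idx + Module.finrank (KK p) (Fx p (Z : Set (YY D p))) + n := by
  have h1 := FP3.scott_corr (ad D p x) (ad D p y)
  have k : ∀ z : YY D p, FP3.dfx (ad D p z) = dd p z := fun z => by
    rw [FP3.dfx, dd, DS.NT.ev, Module.End.eigenspace_def, one_smul]
    rfl
  have h2 : FP3.fixSp (ad D p x) ⊓ FP3.fixSp (ad D p y) = Fx p (Z : Set (YY D p)) := by
    ext v
    rw [Submodule.mem_inf, FP3.mem_fixSp, FP3.mem_fixSp, mem_Fx, ← h]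
    refine ⟨fun ⟨a, b⟩ z hz => ?_, fun a => ⟨a x (Subgroup.subset_closure (by simp)), a y (Subgroup.subset_closure (by simp))⟩⟩
    induction hz using Subgroup.closure_induction with
    | mem z hz => rcases hz with rfl | rfl <;> assumption
    | one => exact ad_one v
    | mul z w _ _ hz hw => rw [ad_mul, hw, hz]
    | inv z _ hz => rw [← hz, ← ad_mul, inv_mul_cancel, ad_one, hz]
  have h3 := hn (FP3.comSp (ad D p x) ⊔ FP3.comSp (ad D p y)) fun z hz' v => by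
    have hz : z ∈ Subgroup.closure {x, y} := h ▸ hz'
    clear hz'
    induction hz using Subgroup.closure_induction generalizing v with
    | mem z hz =>
      rcases hz with rfl | rfl
      · exact Submodule.mem_sup_left ⟨v, rfl⟩
      · exact Submodule.mem_sup_right ⟨v, rfl⟩
    | one => rw [ad_one, sub_self]; exact zero_mem _
    | mul z w _ _ hz hw =>
      rw [ad_mul, ← sub_add_sub_cancel _ (ad D p w v)]
      exact add_mem (hz _) (hw _)
    | inv z _ hz =>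
      have h4 := neg_mem (hz (ad D p z⁻¹ v))
      rwa [← ad_mul, mul_inv_cancel, ad_one, neg_sub] at h4
  rw [← map_mul, k, k, k, h2, Module.finrank_fintype_fun_eq_card] at h1
  omega

end Cfsg.Agent.N2.Ex.K
end

private theorem dce_3861abadf33b : _root_.True := by
  try have : _root_.True := by simp only [_root_.Cfsg.Agent.N2.Ex.K.ex.eq_1]
  try have : _root_.True := by simp only [_root_.Cfsg.Agent.DS.Nt.dd.eq_1]
  try have : _root_.True := by simp only [_root_.Cfsg.Agent.N2.Ex.K.sb.eq_1]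
  try have : _root_.True := by simp only [_root_.Cfsg.Agent.FP3.dfx.eq_1]
  try have : _root_.True := by simp only [_root_.Cfsg.Agent.N2.Ex.K.lim.eq_1]
  try have : _root_.True := by simp only [_root_.Cfsg.Agent.N2.Ex.K.rA.congr_simp]
  try have : _root_.True := by simp only [_root_.Cfsg.Agent.N2.Ex.K.BB.congr_simp]
  try have : _root_.True := by simp only [_root_.Cfsg.Agent.N2.Ex.K.cv.eq_1]
  try have : _root_.True := by simp only [_root_.Cfsg.Agent.N2.Ex.K.pr.eq_1]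
  exact _root_.True.intro
end

-- part: N2/Ex/K/Co
section
set_option linter.all false
open scoped Cfsg.Agent.FastGrp

/-!
# S3519, exceptional groups, box (K): cofixed and fixed vectors of a perfect subgroup (helper68)
-/

set_option autoImplicit false
set_option linter.unusedSectionVars false

namespace Cfsg.Agent.N2.Ex.K

open Cfsg Cfsg.Lie Cfsg.Lie.ChevalleyDatum
open Cfsg.Agent.Nodes.RGDChev Cfsg.Agent.KFacts.RgdChevCoord Cfsg.Agent.H469.Exc Cfsg.Agent.DS.Ex Cfsg.Agent.DS.Nt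

variable {D : ChevalleyDatum} {l : ℕ} {M : CoxeterMatrix (Fin l)} {p : ℕ} [Fact p.Prime]

theorem Co.exists_ok (hD : Typ D) (h2 : D = chevF4 → p ≠ 2) :
    ∃ c : ℕ → ℤ, Co.OkA D c ∧ ∀ s < D.nroots, (c s : KK p) ≠ 0 := by
  rcases hD with rfl | rfl | rfl | rfl
  · refine ⟨_, Co.ok4, fun s hs => ?_⟩
    rcases Co.cF_cases s hs with e | e <;> rw [e]
    · simp
    · exact fun h => h2 rfl ((Nat.prime_dvd_prime_iff_eq Fact.out Nat.prime_two).1
        ((CharP.cast_eq_zero_iff (KK p) p 2).1 (by exact_mod_cast h)))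
  · exact ⟨_, Co.ok6, fun _ _ => by simp⟩
  · exact ⟨_, Co.ok7, fun _ _ => by simp⟩
  · exact ⟨_, Co.ok8, fun _ _ => by simp⟩

/-- **the cofixed space of a perfect subgroup is not larger than its fixed space** -/
theorem co (hp : IsType D l M) (hD : Typ D) (h2 : D = chevF4 → p ≠ 2) {Z : Subgroup (YY D p)} (perf : ⁅Z, Z⁆ = Z)
    {C : Submodule (KK p) (D.Idx → KK p)} (hC : ∀ z ∈ Z, ∀ v, ad D p z v - v ∈ C) :
    Module.finrank (KK p) ((D.Idx → KK p) ⧸ C) ≤ Module.finrank (KK p) (Fx p (Z : Set (YY D p))) := by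
  obtain ⟨c, hA, hc⟩ := Co.exists_ok hD h2
  exact (C4.quot_le (ρ := Co.rh D (KK p)) (Z := (Z : Set (YY D p))) hC).trans
    (Co.iv_le (fun g => (Co.fm_inv hp.inList hA hc g).1) (fun g => (Co.fm_inv hp.inList hA hc g).2) perf fun _ hv => hv)

end Cfsg.Agent.N2.Ex.K
end
end
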